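import Mathlib

/-!
# Polycyclic normal words: definitions

`elP p l e` is the normal word `a₀ ^ d₀ * (a₁ ^ d₁ * ⋯)` in the elements of the list `l` whose exponents are the digits
of `e` in base `p`; `PCOKp p l` says that the `p`-th power of each element of the list and its conjugates of the later
elements are normal words in the later elements.
-/

set_option autoImplicit false

namespace Cfsg.Agent.Lib.Lead.Fi23Syl

variable {G : Type*} [Group G]

/-- the normal word `a₀ ^ d₀ * (a₁ ^ d₁ * ⋯)` whose exponents are the digits of `e` in base `p` -/
def elP (p : ℕ) : List G → ℕ → G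
  | [], _ => 1
  | a :: l, e => a ^ (e % p) * elP p l (e / p)

/-- the set of the normal words -/
def NFp (p : ℕ) (l : List G) : Set G := {x | ∃ e < p ^ l.length, x = elP p l e}

/-- the `p`-th power of each element of the list and its conjugates of the later elements are normal words in the
later elements -/
def PCOKp (p : ℕ) : List G → Prop
  | [] => True
  | a :: l => a ^ p ∈ NFp p l ∧ (∀ b ∈ l, a * b * a⁻¹ ∈ NFp p l) ∧ PCOKp p l

end Cfsg.Agent.Lib.Lead.Fi23Syl
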