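import Cfsg.Agent.Lib.Lead.Fi23Syl.MatThm
import Cfsg.Agent.Lib.Helper8.PCWords
import Cfsg.Prelude.Def_Transfer

/-!
# A 2-group acting on an elementary abelian normal subgroup without offenders

`T` is generated by the lists `sl` (seven elements) and `vl` (eleven commuting involutions that generate a normal
subgroup `V` of order `2 ^ 11`), with power and conjugation relations that make `sl ++ vl` a polycyclic sequence; the
elements of `sl` act on `V` by the matrices `ms`.  If the matrices pass the test `offFacts`, then `T` has order `2 ^ 18`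
and `V` is the only elementary abelian subgroup of `T` of order at least `2 ^ 11`.
-/

set_option autoImplicit false
set_option maxRecDepth 100000

namespace Cfsg.Agent.Lib.Lead.Fi23Syl

open Cfsg

variable {G : Type*} [Group G]

/-! ### normal words in commuting involutions -/

theorem elP_zero (p : ℕ) : ∀ l : List G, elP p l 0 = 1
  | [] => rfl
  | a :: l => by rw [elP, Nat.zero_mod, pow_zero, one_mul, Nat.zero_div, elP_zero p l]

theorem commute_elP (p : ℕ) (a : G) : ∀ (l : List G), (∀ w ∈ l, a * w = w * a) → ∀ e : ℕ,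
    a * elP p l e = elP p l e * a
  | [], _, _ => by rw [elP, mul_one, one_mul]
  | b :: l, h, e => by
    have hb : Commute a b := h b List.mem_cons_self
    have hl : Commute a (elP p l (e / p)) := commute_elP p a l (fun w hw => h w (List.mem_cons_of_mem _ hw)) _
    rw [elP]
    exact ((hb.pow_right _).mul_right hl).eq

theorem elP2_xor : ∀ (l : List G), (∀ v ∈ l, v * v = 1) → (∀ v ∈ l, ∀ w ∈ l, v * w = w * v) → ∀ x y : ℕ,
    elP 2 l (x ^^^ y) = elP 2 l x * elP 2 l y
  | [], _, _, _, _ => by rw [elP, elP, elP, one_mul]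
  | a :: l, hsq, hc, x, y => by
    have ih := elP2_xor l (fun v hv => hsq v (List.mem_cons_of_mem _ hv))
      (fun v hv w hw => hc v (List.mem_cons_of_mem _ hv) w (List.mem_cons_of_mem _ hw)) (x / 2) (y / 2)
    have ha : a * a = 1 := hsq a List.mem_cons_self
    have hcomm : ∀ e : ℕ, Commute a (elP 2 l e) := fun e =>
      commute_elP 2 a l (fun w hw => hc a List.mem_cons_self w (List.mem_cons_of_mem _ hw)) e
    rw [elP, elP, elP, Nat.xor_div_two, ih, Nat.xor_mod_two_eq, Nat.add_mod]
    have hx : x % 2 < 2 := Nat.mod_lt _ (by norm_num)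
    have hy : y % 2 < 2 := Nat.mod_lt _ (by norm_num)
    set X := elP 2 l (x / 2)
    set Y := elP 2 l (y / 2)
    have hX : a * X = X * a := (hcomm _).eq
    obtain hx0 | hx1 : x % 2 = 0 ∨ x % 2 = 1 := by omega
    · obtain hy0 | hy1 : y % 2 = 0 ∨ y % 2 = 1 := by omega
      · rw [hx0, hy0]; simp
      · rw [hx0, hy1]
        simp only [Nat.zero_add, Nat.one_mod, pow_one, pow_zero, one_mul]
        rw [← mul_assoc, hX, mul_assoc]
    · obtain hy0 | hy1 : y % 2 = 0 ∨ y % 2 = 1 := by omega
      · rw [hx1, hy0]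
        simp only [Nat.add_zero, Nat.one_mod, pow_one, pow_zero, one_mul, mul_assoc]
      · rw [hx1, hy1]
        simp only [Nat.reduceAdd, Nat.mod_self, pow_zero, one_mul, pow_one]
        calc X * Y = (a * a) * (X * Y) := by rw [ha, one_mul]
          _ = a * (a * X) * Y := by simp only [mul_assoc]
          _ = a * (X * a) * Y := by rw [hX]
          _ = a * X * (a * Y) := by simp only [mul_assoc]

theorem PCOKp_suffix (p : ℕ) : ∀ (l₁ l₂ : List G), PCOKp p (l₁ ++ l₂) → PCOKp p l₂
  | [], _, h => h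
  | _ :: l₁, l₂, h => PCOKp_suffix p l₁ l₂ h.2.2

/-- conjugation by `s` on the normal words in `vs`, when the conjugates of the elements of `vs` are values of an
additive map `E` -/
theorem conj_words (s : G) (E : ℕ → G) (hE : ∀ x y, E (x ^^^ y) = E x * E y) (hE0 : E 0 = 1) :
    ∀ {vs : List G} {cs : List ℕ}, List.Forall₂ (fun v c => s * v * s⁻¹ = E c) vs cs →
      ∀ x : ℕ, s * elP 2 vs x * s⁻¹ = E (mv cs x) := by
  intro vs cs h
  induction h with
  | nil =>
    intro x
    rw [elP, mv_nil, hE0, mul_one, mul_inv_cancel]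
  | @cons v c vs cs hd _ ih =>
    intro x
    rw [elP, mv_cons, hE, ← ih (x / 2)]
    have h1 : s * (v ^ (x % 2) * elP 2 vs (x / 2)) * s⁻¹ =
        (s * v * s⁻¹) ^ (x % 2) * (s * elP 2 vs (x / 2) * s⁻¹) := by
      rw [conj_pow]; group
    rw [h1, hd]
    have hx : x % 2 < 2 := Nat.mod_lt _ (by norm_num)
    obtain hx0 | hx1 : x % 2 = 0 ∨ x % 2 = 1 := by omega
    · rw [hx0, beq01, cond_false, hE0, pow_zero]
    · rw [hx1, beq11, cond_true, pow_one]

/-- conjugation by the normal words in `ss`, when the elements of `ss` act by the matrices of `mm` -/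
theorem conj_normal (E : ℕ → G) :
    ∀ {ss : List G} {mm : List (List ℕ)}, List.Forall₂ (fun s m => ∀ x : ℕ, s * E x * s⁻¹ = E (mv m x)) ss mm →
      ∀ a x : ℕ, elP 2 ss a * E x * (elP 2 ss a)⁻¹ = E (mact mm a x) := by
  intro ss mm h
  induction h with
  | nil =>
    intro a x
    rw [elP, mact_nil, one_mul, inv_one, mul_one]
  | @cons s m ss mm hd _ ih =>
    intro a x
    rw [elP, mact_cons]
    have h1 : s ^ (a % 2) * elP 2 ss (a / 2) * E x * (s ^ (a % 2) * elP 2 ss (a / 2))⁻¹ =
        s ^ (a % 2) * (elP 2 ss (a / 2) * E x * (elP 2 ss (a / 2))⁻¹) * (s ^ (a % 2))⁻¹ := by group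
    rw [h1, ih]
    have ha : a % 2 < 2 := Nat.mod_lt _ (by norm_num)
    obtain ha0 | ha1 : a % 2 = 0 ∨ a % 2 = 1 := by omega
    · rw [ha0, beq01, cond_false, pow_zero, one_mul, inv_one, mul_one]
    · rw [ha1, beq11, cond_true, pow_one, hd]

/-! ### the facts contained in the test -/

/-- the number of the matrices of `invs`, other than the matrix number `a`, that are allowed to commute with it -/
def commCount (invs : List ℕ) (tab : List (List (List ℕ))) (a : ℕ) : ℕ :=
  (invs.filter fun b => !(Nat.beq a b) && Nat.ble 2 (ent2 tab a b).length).length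

/-- the facts contained in the test `offFacts` -/
structure OffProps (ms : List (List ℕ)) (invs : List ℕ) (sigs one : List (List ℕ))
    (tab : List (List (List ℕ))) : Prop where
  inv_mem : ∀ a : ℕ, 1 ≤ a → a < 128 → invB ms a = true → a ∈ invs
  sig_inj : ∀ a < 128, ∀ b < 128, sig ms a = sig ms b → a = b
  one_ok : ∀ a ∈ invs, 0 < a ∧ a < 128 ∧ (fixSet ms a a).card * 16 ≤ 2048
  pair_ok : ∀ a ∈ invs, ∀ b ∈ invs, a ≠ b → pairB ms a b (ent2 tab a b) = true
  cnt_ok : (invs.filter fun a => Nat.ble 15 (commCount invs tab a)).length ≤ 15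

theorem offProps_of {ms : List (List ℕ)} {invs : List ℕ} {sigs one : List (List ℕ)}
    {tab : List (List (List ℕ))} (h : offFacts ms invs sigs one tab = true) : OffProps ms invs sigs one tab := by
  simp only [offFacts, Bool.and_eq_true] at h
  obtain ⟨⟨⟨⟨⟨c1, c2⟩, c3l, c3n⟩, c4⟩, c5⟩, c6⟩ := h
  rw [allFrom_iff] at c1 c2
  refine ⟨?_, ?_, ?_, ?_, ?_⟩
  · intro a h1 h2 hinv
    have := c1 a h1 (by omega)
    rw [hinv] at this
    simpa using this
  · intro a ha b hb hab
    have hl : sigs.length = 128 := by simpa using c3l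
    have hn : sigs.Nodup := of_decide_eq_true c3n
    have ea := c2 a (Nat.zero_le _) (by omega)
    have eb := c2 b (Nat.zero_le _) (by omega)
    rw [beq_iff_eq] at ea eb
    have ha' : a < sigs.length := by omega
    have hb' : b < sigs.length := by omega
    rw [List.getD_eq_getElem _ _ ha'] at ea
    rw [List.getD_eq_getElem _ _ hb'] at eb
    have : sigs[a] = sigs[b] := by rw [← ea, ← eb, hab]
    exact (hn.getElem_inj_iff).1 this
  · intro a ha
    have := List.all_eq_true.1 c4 a ha
    simp only [Bool.and_eq_true] at this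
    obtain ⟨⟨⟨h0, h128⟩, hlen⟩, hr⟩ := this
    have hb := rank_bound ms a a _ hr
    have hlen' : (one.getD a []).length = 4 := Nat.eq_of_beq_eq_true hlen
    rw [hlen'] at hb
    have h0' : 0 < a := Nat.le_of_ble_eq_true h0
    have h128' : a < 128 := Nat.le_of_ble_eq_true h128
    exact ⟨h0', h128', by simpa using hb⟩
  · intro a ha b hb hab
    have := List.all_eq_true.1 (List.all_eq_true.1 c5 a ha) b hb
    rw [Bool.or_eq_true] at this
    rcases this with h1 | h1
    · exact absurd (Nat.eq_of_beq_eq_true h1) hab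
    · exact h1
  · exact Nat.le_of_ble_eq_true c6

/-! ### the setting -/

/-- the data: seven elements `sl`, eleven commuting involutions `vl`, the matrices of the elements of `sl` on the
normal words in `vl`, and the certificates for the test `offFacts` -/
structure PSetup (G : Type*) [Group G] where
  sl : List G
  vl : List G
  ms : List (List ℕ)
  invs : List ℕ
  sigs : List (List ℕ)
  one : List (List ℕ)
  tab : List (List (List ℕ))
  hsl : sl.length = 7
  hvl : vl.length = 11
  hpc : PCOKp 2 (sl ++ vl)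
  hvsq : ∀ v ∈ vl, v * v = 1
  hvc : ∀ v ∈ vl, ∀ w ∈ vl, v * w = w * v
  hact : List.Forall₂ (fun s m => List.Forall₂ (fun v c => s * v * s⁻¹ = elP 2 vl c) vl m) sl ms
  hcols : ∀ m ∈ ms, ∀ c ∈ m, c < 2048
  hinj : ∀ e : ℕ, 0 < e → e < 2048 → elP 2 vl e ≠ 1
  hoff : offFacts ms invs sigs one tab = true

namespace PSetup

variable (S : PSetup G)

/-- the normal subgroup -/
def V : Subgroup G := Subgroup.closure {g | g ∈ S.vl}

/-- the group -/
def T : Subgroup G := Subgroup.closure {g | g ∈ S.sl ++ S.vl}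

/-- the element of the normal subgroup with the coordinates `x` -/
def elV (x : ℕ) : G := elP 2 S.vl x

/-- the normal word with the exponents `a` in the first seven elements -/
def r (a : ℕ) : G := elP 2 S.sl a

theorem elV_xor (x y : ℕ) : S.elV (x ^^^ y) = S.elV x * S.elV y := elP2_xor S.vl S.hvsq S.hvc x y

theorem elV_zero : S.elV 0 = 1 := elP_zero 2 S.vl

theorem elV_mul_self (x : ℕ) : S.elV x * S.elV x = 1 := by
  rw [← S.elV_xor, Nat.xor_self, S.elV_zero]

theorem elV_comm (x y : ℕ) : S.elV x * S.elV y = S.elV y * S.elV x := by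
  rw [← S.elV_xor, ← S.elV_xor, Nat.xor_comm]

theorem elV_inv (x : ℕ) : (S.elV x)⁻¹ = S.elV x := inv_eq_of_mul_eq_one_left (S.elV_mul_self x)

theorem elV_inj {x y : ℕ} (hx : x < 2048) (hy : y < 2048) (h : S.elV x = S.elV y) : x = y := by
  by_contra hne
  have h0 : x ^^^ y ≠ 0 := fun h0 => hne (Nat.xor_eq_zero_iff.1 h0)
  have hlt : x ^^^ y < 2048 := Nat.xor_lt_two_pow (n := 11) hx hy
  apply S.hinj (x ^^^ y) (Nat.pos_of_ne_zero h0) hlt
  show S.elV (x ^^^ y) = 1
  rw [S.elV_xor, h, S.elV_mul_self]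

theorem elV_mem (x : ℕ) : S.elV x ∈ S.V := elP_mem 2 S.vl x

theorem hpcV : PCOKp 2 S.vl := PCOKp_suffix 2 S.sl S.vl S.hpc

theorem V_le_T : S.V ≤ S.T :=
  Subgroup.closure_mono fun g (hg : g ∈ S.vl) => (List.mem_append_right _ hg : g ∈ S.sl ++ S.vl)

/-- the elements of `sl` act on the normal subgroup by the matrices -/
theorem hact' : List.Forall₂ (fun s m => ∀ x : ℕ, s * S.elV x * s⁻¹ = S.elV (mv m x)) S.sl S.ms := by
  refine List.Forall₂.imp ?_ S.hact
  intro s m h x
  exact conj_words s S.elV S.elV_xor S.elV_zero h x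

theorem conj_r (a x : ℕ) : S.r a * S.elV x * (S.r a)⁻¹ = S.elV (mact S.ms a x) :=
  conj_normal S.elV S.hact' a x

theorem mact_lt' (a : ℕ) {x : ℕ} (hx : x < 2048) : mact S.ms a x < 2048 :=
  mact_lt (N := 11) S.ms S.hcols a x hx

/-- conjugation by an element `r a * elV u` -/
theorem conj_el (a u x : ℕ) :
    (S.r a * S.elV u) * S.elV x * (S.r a * S.elV u)⁻¹ = S.elV (mact S.ms a x) := by
  have h1 : (S.r a * S.elV u) * S.elV x * (S.r a * S.elV u)⁻¹ =
      S.r a * (S.elV u * S.elV x * (S.elV u)⁻¹) * (S.r a)⁻¹ := by group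
  rw [h1, S.elV_comm u x, mul_inv_cancel_right, S.conj_r]

theorem r_mem (a : ℕ) : S.r a ∈ S.T := by
  have h : Subgroup.closure {g | g ∈ S.sl} ≤ S.T :=
    Subgroup.closure_mono fun g (hg : g ∈ S.sl) => (List.mem_append_left _ hg : g ∈ S.sl ++ S.vl)
  exact h (elP_mem 2 S.sl a)

theorem el_mem_T (a x : ℕ) : S.r a * S.elV x ∈ S.T :=
  S.T.mul_mem (S.r_mem a) (S.V_le_T (S.elV_mem x))

theorem off : OffProps S.ms S.invs S.sigs S.one S.tab := offProps_of S.hoff

/-- the normal words `r a * elV x` are different -/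
theorem el_inj {a a' x x' : ℕ} (ha : a < 128) (ha' : a' < 128) (hx : x < 2048) (hx' : x' < 2048)
    (h : S.r a * S.elV x = S.r a' * S.elV x') : a = a' ∧ x = x' := by
  have hm : ∀ y < 2048, mact S.ms a y = mact S.ms a' y := by
    intro y hy
    apply S.elV_inj (S.mact_lt' a hy) (S.mact_lt' a' hy)
    rw [← S.conj_el a x y, ← S.conj_el a' x' y, h]
  have hsig : sig S.ms a = sig S.ms a' := by
    apply List.map_congr_left
    intro j hj
    have hj' : j < 11 := List.mem_range.1 hj
    apply hm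
    calc 2 ^ j < 2 ^ 11 := Nat.pow_lt_pow_right (by norm_num) hj'
      _ = 2048 := by norm_num
  have haa : a = a' := S.off.sig_inj a ha a' ha' hsig
  subst haa
  exact ⟨rfl, S.elV_inj hx hx' (mul_left_cancel h)⟩

variable [Finite G]

theorem mem_V_iff (g : G) : g ∈ S.V ↔ ∃ x < 2048, g = S.elV x := by
  constructor
  · intro hg
    obtain ⟨e, he, rfl⟩ := closure_subset_NFp 2 (by norm_num) S.vl S.hpcV g hg
    rw [S.hvl] at he
    exact ⟨e, he, rfl⟩
  · rintro ⟨x, _, rfl⟩
    exact S.elV_mem x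

theorem card_V : Nat.card S.V = 2 ^ 11 := by
  classical
  have himg : (S.V : Set G) = ((Finset.range 2048).image S.elV : Finset G) := by
    ext g
    rw [SetLike.mem_coe, S.mem_V_iff, Finset.mem_coe, Finset.mem_image]
    constructor
    · rintro ⟨x, hx, rfl⟩; exact ⟨x, Finset.mem_range.2 hx, rfl⟩
    · rintro ⟨x, hx, rfl⟩; exact ⟨x, Finset.mem_range.1 hx, rfl⟩
  have h1 : Nat.card S.V = (S.V : Set G).ncard := Nat.card_coe_set_eq _
  have hio : Set.InjOn S.elV (Finset.range 2048 : Set ℕ) := by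
    intro x hx y hy hxy
    exact S.elV_inj (Finset.mem_range.1 hx) (Finset.mem_range.1 hy) hxy
  rw [h1, himg, Set.ncard_coe_finset, Finset.card_image_of_injOn hio, Finset.card_range]
  norm_num

theorem V_elemAb : IsElementaryAbelian 2 S.V := by
  constructor
  · refine ⟨⟨?_⟩⟩
    rintro ⟨a, ha⟩ ⟨b, hb⟩
    obtain ⟨x, _, rfl⟩ := (S.mem_V_iff a).1 ha
    obtain ⟨y, _, rfl⟩ := (S.mem_V_iff b).1 hb
    exact Subtype.ext (S.elV_comm x y)
  · intro a ha
    obtain ⟨x, _, rfl⟩ := (S.mem_V_iff a).1 ha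
    rw [pow_two, S.elV_mul_self]

theorem mem_T_iff (g : G) : g ∈ S.T ↔ ∃ a < 128, ∃ x < 2048, g = S.r a * S.elV x := by
  constructor
  · intro hg
    obtain ⟨e, he, rfl⟩ := closure_subset_NFp 2 (by norm_num) (S.sl ++ S.vl) S.hpc g hg
    rw [List.length_append, S.hsl, S.hvl] at he
    refine ⟨e % 2 ^ 7, Nat.mod_lt _ (by norm_num), e / 2 ^ 7, ?_, ?_⟩
    · rw [Nat.div_lt_iff_lt_mul (by norm_num)]
      calc e < 2 ^ (7 + 11) := he
        _ = 2048 * 2 ^ 7 := by norm_num
    · rw [elP_append, S.hsl]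
      rfl
  · rintro ⟨a, _, x, _, rfl⟩
    exact S.el_mem_T a x

/-- the normal subgroup is normalised by the group -/
theorem conj_mem_V {t v : G} (ht : t ∈ S.T) (hv : v ∈ S.V) : t * v * t⁻¹ ∈ S.V := by
  obtain ⟨a, _, u, _, rfl⟩ := (S.mem_T_iff t).1 ht
  obtain ⟨x, _, rfl⟩ := (S.mem_V_iff v).1 hv
  rw [S.conj_el]
  exact S.elV_mem _

theorem card_T : Nat.card S.T = 2 ^ 18 := by
  classical
  apply le_antisymm
  · have := card_closure_le_p 2 (by norm_num) (S.sl ++ S.vl) S.hpc
    rw [List.length_append, S.hsl, S.hvl] at this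
    exact this
  · have h1 : Nat.card S.T = (S.T : Set G).ncard := Nat.card_coe_set_eq _
    rw [h1]
    have hsub : (((Finset.range 128 ×ˢ Finset.range 2048).image fun p => S.r p.1 * S.elV p.2 : Finset G) : Set G) ⊆
        (S.T : Set G) := by
      intro g hg
      rw [Finset.mem_coe, Finset.mem_image] at hg
      obtain ⟨p, _, rfl⟩ := hg
      exact S.el_mem_T p.1 p.2
    have h2 := Set.ncard_le_ncard hsub (Set.toFinite _)
    rw [Set.ncard_coe_finset, Finset.card_image_of_injOn, Finset.card_product, Finset.card_range,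
      Finset.card_range] at h2
    · calc 2 ^ 18 = 128 * 2048 := by norm_num
        _ ≤ _ := h2
    · intro p hp p' hp' hpp
      rw [Finset.mem_coe, Finset.mem_product, Finset.mem_range, Finset.mem_range] at hp hp'
      obtain ⟨e1, e2⟩ := S.el_inj hp.1 hp'.1 hp.2 hp'.2 hpp
      exact Prod.ext e1 e2

end PSetup

end Cfsg.Agent.Lib.Lead.Fi23Syl
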