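import Cfsg.Agent.Lib.Lead.Fi23Syl.D16

/-! # The Sylow 2-subgroups of Fi₂₃: the check of the table number 16 (generated) -/

set_option autoImplicit false
set_option maxRecDepth 100000

namespace Cfsg.Agent.Fi23Syl

open Cfsg.Agent.PF Cfsg.Agent.Lib.Helper6 Cfsg.Agent.Lib.Helper6.TC
open Cfsg.Agent.PL (Acts evalF)
open Cfsg.Agent.Fi23Out (P)
open Cfsg.Agent.Lib.Lead.Fi23Syl

theorem eqU16_0 : allR 0 10557 (fun q => Nat.beq (g16 q) (wordR WU16 q)) = true := by decide +kernel

theorem eqU16_1 : allR 10557 10557 (fun q => Nat.beq (g16 q) (wordR WU16 q)) = true := by decide +kernel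

theorem eqU16_2 : allR 21114 10557 (fun q => Nat.beq (g16 q) (wordR WU16 q)) = true := by decide +kernel


end Cfsg.Agent.Fi23Syl
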