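import Cfsg.Agent.Lib.Lead.PF.Tab
import Cfsg.Agent.Lib.Lead.Fi23Syl.Words

/-!
# Normal words in permutations given by maps of points

The value of a normal word at a point, by the maps of its letters; relations `a * b * a⁻¹ = w` and `a ^ 2 = w` between
elements of a group of permutations follow from equalities of maps of points.
-/

set_option autoImplicit false

namespace Cfsg.Agent.Lib.Lead.Fi23Syl

open Cfsg.Agent.PL (Acts)

/-- the value at the point `q` of the normal word with the exponents of `e` (base 2) in the maps of `fs` -/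
def evW (fs : List (ℕ → ℕ)) (e q : ℕ) : ℕ :=
  List.rec (motive := fun _ => ℕ → ℕ) (fun _ => q)
    (fun f _ ih e => cond (Nat.beq (Nat.mod e 2) 1) (f (ih (Nat.div e 2))) (ih (Nat.div e 2))) fs e

theorem evW_nil (e q : ℕ) : evW [] e q = q := rfl

theorem evW_cons (f : ℕ → ℕ) (fs : List (ℕ → ℕ)) (e q : ℕ) :
    evW (f :: fs) e q = cond (Nat.beq (e % 2) 1) (f (evW fs (e / 2) q)) (evW fs (e / 2) q) := rfl

variable {n : ℕ} {P : Subgroup (Equiv.Perm (Fin n))}

theorem acts_elP : ∀ {gs : List ↥P} {fs : List (ℕ → ℕ)}, List.Forall₂ (fun (g : ↥P) f => Acts g.1 f) gs fs →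
    ∀ e : ℕ, Acts (elP 2 gs e).1 (fun q => evW fs e q) := by
  intro gs fs h
  induction h with
  | nil =>
    intro e q hq
    rfl
  | @cons g f gs fs hd _ ih =>
    intro e
    have h2 : e % 2 < 2 := Nat.mod_lt _ (by norm_num)
    obtain h0 | h1 : e % 2 = 0 ∨ e % 2 = 1 := by omega
    · have e1 : elP 2 (g :: gs) e = elP 2 gs (e / 2) := by
        rw [elP, h0, pow_zero, one_mul]
      rw [e1]
      intro q hq
      rw [ih (e / 2) q hq]
      show evW fs (e / 2) q = evW (f :: fs) e q
      rw [evW_cons, h0]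
      rfl
    · have e1 : elP 2 (g :: gs) e = g * elP 2 gs (e / 2) := by
        rw [elP, h1, pow_one]
      rw [e1, Subgroup.coe_mul]
      intro q hq
      rw [(hd.mul (ih (e / 2))) q hq]
      show f (evW fs (e / 2) q) = evW (f :: fs) e q
      rw [evW_cons, h1]
      rfl

/-- a conjugation relation from an equality of maps of points -/
theorem conj_eq_of_maps {a b : ↥P} {fa fb : ℕ → ℕ} (ha : Acts a.1 fa) (hb : Acts b.1 fb) {gs : List ↥P}
    {fs : List (ℕ → ℕ)} (hgs : List.Forall₂ (fun (g : ↥P) f => Acts g.1 f) gs fs) (e : ℕ)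
    (h : ∀ q < n, (fun q => fa (fb q)) q = (fun q => evW fs e (fa q)) q) : a * b * a⁻¹ = elP 2 gs e := by
  have h1 : a * b = elP 2 gs e * a := by
    apply Subtype.ext
    rw [Subgroup.coe_mul, Subgroup.coe_mul]
    exact (ha.mul hb).eq ((acts_elP hgs e).mul ha) h
  rw [h1, mul_inv_cancel_right]

/-- a power relation from an equality of maps of points -/
theorem sq_eq_of_maps {a : ↥P} {fa : ℕ → ℕ} (ha : Acts a.1 fa) {gs : List ↥P}
    {fs : List (ℕ → ℕ)} (hgs : List.Forall₂ (fun (g : ↥P) f => Acts g.1 f) gs fs) (e : ℕ)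
    (h : ∀ q < n, (fun q => fa (fa q)) q = (fun q => evW fs e q) q) : a ^ 2 = elP 2 gs e := by
  apply Subtype.ext
  rw [pow_two, Subgroup.coe_mul]
  exact (ha.mul ha).eq (acts_elP hgs e) h

/-- two elements commute, from an equality of maps of points -/
theorem comm_of_maps {a b : ↥P} {fa fb : ℕ → ℕ} (ha : Acts a.1 fa) (hb : Acts b.1 fb)
    (h : ∀ q < n, (fun q => fa (fb q)) q = (fun q => fb (fa q)) q) : a * b = b * a := by
  apply Subtype.ext
  rw [Subgroup.coe_mul, Subgroup.coe_mul]
  exact (ha.mul hb).eq (hb.mul ha) h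

/-- the square of an element is trivial, from an equality of maps of points -/
theorem sq_one_of_maps {a : ↥P} {fa : ℕ → ℕ} (ha : Acts a.1 fa)
    (h : ∀ q < n, (fun q => fa (fa q)) q = (fun q => q) q) : a * a = 1 := by
  apply Subtype.ext
  rw [Subgroup.coe_mul, Subgroup.coe_one]
  exact (ha.mul ha).eq_one h

end Cfsg.Agent.Lib.Lead.Fi23Syl
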