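import Cfsg.Agent.Lib.Lead.Fi23Syl.D0
import Cfsg.Agent.Lib.Lead.Fi23Syl.D1
import Cfsg.Agent.Lib.Lead.Fi23Syl.D2
import Cfsg.Agent.Lib.Lead.Fi23Syl.D3
import Cfsg.Agent.Lib.Lead.Fi23Syl.D4
import Cfsg.Agent.Lib.Lead.Fi23Syl.D5
import Cfsg.Agent.Lib.Lead.Fi23Syl.D6
import Cfsg.Agent.Lib.Lead.Fi23Syl.D7
import Cfsg.Agent.Lib.Lead.Fi23Syl.D8
import Cfsg.Agent.Lib.Lead.Fi23Syl.D9
import Cfsg.Agent.Lib.Lead.Fi23Syl.D10
import Cfsg.Agent.Lib.Lead.Fi23Syl.D11
import Cfsg.Agent.Lib.Lead.Fi23Syl.D12
import Cfsg.Agent.Lib.Lead.Fi23Syl.D13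
import Cfsg.Agent.Lib.Lead.Fi23Syl.D14
import Cfsg.Agent.Lib.Lead.Fi23Syl.D15
import Cfsg.Agent.Lib.Lead.Fi23Syl.D16
import Cfsg.Agent.Lib.Lead.Fi23Syl.D17
import Cfsg.Agent.Lib.Lead.Fi23Syl.EvW

/-! # The Sylow 2-subgroups of Fi₂₃: the lists of the maps (generated) -/

set_option autoImplicit false
set_option maxRecDepth 100000

namespace Cfsg.Agent.Fi23Syl

open Cfsg.Agent.PF Cfsg.Agent.Lib.Helper6 Cfsg.Agent.Lib.Helper6.TC
open Cfsg.Agent.PL (Acts evalF)
open Cfsg.Agent.Fi23Out (P)
open Cfsg.Agent.Lib.Lead.Fi23Syl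

/-- the maps of the elements from number 18 on -/
noncomputable def FS18 : List (ℕ → ℕ) := []

/-- the maps of the elements from number 17 on -/
noncomputable def FS17 : List (ℕ → ℕ) := g17 :: FS18

/-- the maps of the elements from number 16 on -/
noncomputable def FS16 : List (ℕ → ℕ) := g16 :: FS17

/-- the maps of the elements from number 15 on -/
noncomputable def FS15 : List (ℕ → ℕ) := g15 :: FS16

/-- the maps of the elements from number 14 on -/
noncomputable def FS14 : List (ℕ → ℕ) := g14 :: FS15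

/-- the maps of the elements from number 13 on -/
noncomputable def FS13 : List (ℕ → ℕ) := g13 :: FS14

/-- the maps of the elements from number 12 on -/
noncomputable def FS12 : List (ℕ → ℕ) := g12 :: FS13

/-- the maps of the elements from number 11 on -/
noncomputable def FS11 : List (ℕ → ℕ) := g11 :: FS12

/-- the maps of the elements from number 10 on -/
noncomputable def FS10 : List (ℕ → ℕ) := g10 :: FS11

/-- the maps of the elements from number 9 on -/
noncomputable def FS9 : List (ℕ → ℕ) := g9 :: FS10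

/-- the maps of the elements from number 8 on -/
noncomputable def FS8 : List (ℕ → ℕ) := g8 :: FS9

/-- the maps of the elements from number 7 on -/
noncomputable def FS7 : List (ℕ → ℕ) := g7 :: FS8

/-- the maps of the elements from number 6 on -/
noncomputable def FS6 : List (ℕ → ℕ) := g6 :: FS7

/-- the maps of the elements from number 5 on -/
noncomputable def FS5 : List (ℕ → ℕ) := g5 :: FS6

/-- the maps of the elements from number 4 on -/
noncomputable def FS4 : List (ℕ → ℕ) := g4 :: FS5

/-- the maps of the elements from number 3 on -/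
noncomputable def FS3 : List (ℕ → ℕ) := g3 :: FS4

/-- the maps of the elements from number 2 on -/
noncomputable def FS2 : List (ℕ → ℕ) := g2 :: FS3

/-- the maps of the elements from number 1 on -/
noncomputable def FS1 : List (ℕ → ℕ) := g1 :: FS2

/-- the maps of the elements from number 0 on -/
noncomputable def FS0 : List (ℕ → ℕ) := g0 :: FS1


end Cfsg.Agent.Fi23Syl
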