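import Cfsg.Agent.Lib.Lead.Fi23Syl.C1
import Cfsg.Agent.Lib.Lead.Fi23Out.T0
import Cfsg.Agent.Lib.Lead.Fi23Out.T11
import Cfsg.Agent.Lib.Lead.Fi23Out.T13
import Cfsg.Agent.Lib.Lead.Fi23Out.T15
import Cfsg.Agent.Lib.Lead.Fi23Out.T17
import Cfsg.Agent.Lib.Lead.Fi23Out.T19
import Cfsg.Agent.Lib.Lead.Fi23Out.T21
import Cfsg.Agent.Lib.Lead.Fi23Out.T22
import Cfsg.Agent.Lib.Lead.Fi23Out.T23
import Cfsg.Agent.Lib.Lead.Fi23Out.T24

/-! # The Sylow 2-subgroups of Fi₂₃: the element number 1 (generated) -/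

set_option autoImplicit false
set_option maxRecDepth 100000

namespace Cfsg.Agent.Fi23Syl

open Cfsg.Agent.PF Cfsg.Agent.Lib.Helper6 Cfsg.Agent.Lib.Helper6.TC
open Cfsg.Agent.PL (Acts evalF)
open Cfsg.Agent.Fi23Out (P)
open Cfsg.Agent.Lib.Lead.Fi23Syl

/-- the table agrees with the word -/
theorem eqU1 : ∀ q < 31671, g1 q = wordR WU1 q :=
  eq_of_chunks (f := g1) (g := wordR WU1) [(0, 10557), (10557, 10557), (21114, 10557)] (by decide) (by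
    intro c hc
    simp only [List.mem_cons, List.not_mem_nil, or_false] at hc
    rcases hc with rfl | rfl | rfl
    · exact eqU1_0
    · exact eqU1_1
    · exact eqU1_2
  )

theorem repU1 : Rep P g1 :=
  (rep_wordR (l := WU1) (Reps.cons Cfsg.Agent.Fi23Out.rep24 (Reps.cons Cfsg.Agent.Fi23Out.rep24 (Reps.cons Cfsg.Agent.Fi23Out.rep19 (Reps.cons Cfsg.Agent.Fi23Out.rep21 (Reps.cons Cfsg.Agent.Fi23Out.rep19 (Reps.cons Cfsg.Agent.Fi23Out.rep21 (Reps.cons Cfsg.Agent.Fi23Out.rep23 (Reps.cons Cfsg.Agent.Fi23Out.rep17 (Reps.cons Cfsg.Agent.Fi23Out.rep19 (Reps.cons Cfsg.Agent.Fi23Out.rep22 (Reps.cons Cfsg.Agent.Fi23Out.rep21 (Reps.cons Cfsg.Agent.Fi23Out.rep21 (Reps.cons Cfsg.Agent.Fi23Out.rep11 (Reps.cons Cfsg.Agent.Fi23Out.rep11 (Reps.cons Cfsg.Agent.Fi23Out.rep23 (Reps.cons Cfsg.Agent.Fi23Out.rep19 (Reps.cons Cfsg.Agent.Fi23Out.rep24 (Reps.cons Cfsg.Agent.Fi23Out.rep0 (Reps.cons Cfsg.Agent.Fi23Out.rep15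 (Reps.cons Cfsg.Agent.Fi23Out.rep13 (Reps.cons Cfsg.Agent.Fi23Out.rep13 (Reps.nil P))))))))))))))))))))))).congr eqU1

/-- the element number 1 -/
noncomputable def x1 : Equiv.Perm (Fin 31671) := Classical.choose repU1

theorem hx1 : x1 ∈ P := (Classical.choose_spec repU1).1

theorem ax1 : Acts x1 g1 := (Classical.choose_spec repU1).2

/-- the element number 1, in the group -/
noncomputable def y1 : ↥P := ⟨x1, hx1⟩

end Cfsg.Agent.Fi23Syl
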