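import Cfsg.Agent.Lib.Lead.Fi23Syl.C10
import Cfsg.Agent.Lib.Lead.Fi23Out.T6
import Cfsg.Agent.Lib.Lead.Fi23Out.T9
import Cfsg.Agent.Lib.Lead.Fi23Out.T11
import Cfsg.Agent.Lib.Lead.Fi23Out.T12
import Cfsg.Agent.Lib.Lead.Fi23Out.T14
import Cfsg.Agent.Lib.Lead.Fi23Out.T16
import Cfsg.Agent.Lib.Lead.Fi23Out.T17
import Cfsg.Agent.Lib.Lead.Fi23Out.T19
import Cfsg.Agent.Lib.Lead.Fi23Out.T20
import Cfsg.Agent.Lib.Lead.Fi23Out.T21
import Cfsg.Agent.Lib.Lead.Fi23Out.T22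
import Cfsg.Agent.Lib.Lead.Fi23Out.T24

/-! # The Sylow 2-subgroups of Fi₂₃: the element number 10 (generated) -/

set_option autoImplicit false
set_option maxRecDepth 100000

namespace Cfsg.Agent.Fi23Syl

open Cfsg.Agent.PF Cfsg.Agent.Lib.Helper6 Cfsg.Agent.Lib.Helper6.TC
open Cfsg.Agent.PL (Acts evalF)
open Cfsg.Agent.Fi23Out (P)
open Cfsg.Agent.Lib.Lead.Fi23Syl

/-- the table agrees with the word -/
theorem eqU10 : ∀ q < 31671, g10 q = wordR WU10 q :=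
  eq_of_chunks (f := g10) (g := wordR WU10) [(0, 10557), (10557, 10557), (21114, 10557)] (by decide) (by
    intro c hc
    simp only [List.mem_cons, List.not_mem_nil, or_false] at hc
    rcases hc with rfl | rfl | rfl
    · exact eqU10_0
    · exact eqU10_1
    · exact eqU10_2
  )

theorem repU10 : Rep P g10 :=
  (rep_wordR (l := WU10) (Reps.cons Cfsg.Agent.Fi23Out.rep21 (Reps.cons Cfsg.Agent.Fi23Out.rep20 (Reps.cons Cfsg.Agent.Fi23Out.rep22 (Reps.cons Cfsg.Agent.Fi23Out.rep22 (Reps.cons Cfsg.Agent.Fi23Out.rep19 (Reps.cons Cfsg.Agent.Fi23Out.rep24 (Reps.cons Cfsg.Agent.Fi23Out.rep14 (Reps.cons Cfsg.Agent.Fi23Out.rep16 (Reps.cons Cfsg.Agent.Fi23Out.rep16 (Reps.cons Cfsg.Agent.Fi23Out.rep17 (Reps.cons Cfsg.Agent.Fi23Out.rep22 (Reps.cons Cfsg.Agent.Fi23Out.rep14 (Reps.cons Cfsg.Agent.Fi23Out.rep11 (Reps.cons Cfsg.Agent.Fi23Out.rep14 (Reps.cons Cfsg.Agent.Fi23Out.rep19 (Reps.cons Cfsg.Agent.Fi23Out.rep19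 (Reps.cons Cfsg.Agent.Fi23Out.rep11 (Reps.cons Cfsg.Agent.Fi23Out.rep12 (Reps.cons Cfsg.Agent.Fi23Out.rep9 (Reps.cons Cfsg.Agent.Fi23Out.rep24 (Reps.cons Cfsg.Agent.Fi23Out.rep6 (Reps.cons Cfsg.Agent.Fi23Out.rep19 (Reps.nil P)))))))))))))))))))))))).congr eqU10

/-- the element number 10 -/
noncomputable def x10 : Equiv.Perm (Fin 31671) := Classical.choose repU10

theorem hx10 : x10 ∈ P := (Classical.choose_spec repU10).1

theorem ax10 : Acts x10 g10 := (Classical.choose_spec repU10).2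

/-- the element number 10, in the group -/
noncomputable def y10 : ↥P := ⟨x10, hx10⟩

end Cfsg.Agent.Fi23Syl
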