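import Cfsg.Agent.Lib.Lead.Fi23Syl.C11
import Cfsg.Agent.Lib.Lead.Fi23Out.T5
import Cfsg.Agent.Lib.Lead.Fi23Out.T9
import Cfsg.Agent.Lib.Lead.Fi23Out.T11
import Cfsg.Agent.Lib.Lead.Fi23Out.T13
import Cfsg.Agent.Lib.Lead.Fi23Out.T14
import Cfsg.Agent.Lib.Lead.Fi23Out.T15
import Cfsg.Agent.Lib.Lead.Fi23Out.T16
import Cfsg.Agent.Lib.Lead.Fi23Out.T19
import Cfsg.Agent.Lib.Lead.Fi23Out.T20
import Cfsg.Agent.Lib.Lead.Fi23Out.T21
import Cfsg.Agent.Lib.Lead.Fi23Out.T22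
import Cfsg.Agent.Lib.Lead.Fi23Out.T23

/-! # The Sylow 2-subgroups of Fi₂₃: the element number 11 (generated) -/

set_option autoImplicit false
set_option maxRecDepth 100000

namespace Cfsg.Agent.Fi23Syl

open Cfsg.Agent.PF Cfsg.Agent.Lib.Helper6 Cfsg.Agent.Lib.Helper6.TC
open Cfsg.Agent.PL (Acts evalF)
open Cfsg.Agent.Fi23Out (P)
open Cfsg.Agent.Lib.Lead.Fi23Syl

/-- the table agrees with the word -/
theorem eqU11 : ∀ q < 31671, g11 q = wordR WU11 q :=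
  eq_of_chunks (f := g11) (g := wordR WU11) [(0, 10557), (10557, 10557), (21114, 10557)] (by decide) (by
    intro c hc
    simp only [List.mem_cons, List.not_mem_nil, or_false] at hc
    rcases hc with rfl | rfl | rfl
    · exact eqU11_0
    · exact eqU11_1
    · exact eqU11_2
  )

theorem repU11 : Rep P g11 :=
  (rep_wordR (l := WU11) (Reps.cons Cfsg.Agent.Fi23Out.rep22 (Reps.cons Cfsg.Agent.Fi23Out.rep22 (Reps.cons Cfsg.Agent.Fi23Out.rep23 (Reps.cons Cfsg.Agent.Fi23Out.rep23 (Reps.cons Cfsg.Agent.Fi23Out.rep20 (Reps.cons Cfsg.Agent.Fi23Out.rep21 (Reps.cons Cfsg.Agent.Fi23Out.rep23 (Reps.cons Cfsg.Agent.Fi23Out.rep23 (Reps.cons Cfsg.Agent.Fi23Out.rep19 (Reps.cons Cfsg.Agent.Fi23Out.rep14 (Reps.cons Cfsg.Agent.Fi23Out.rep19 (Reps.cons Cfsg.Agent.Fi23Out.rep21 (Reps.cons Cfsg.Agent.Fi23Out.rep16 (Reps.cons Cfsg.Agent.Fi23Out.rep19 (Reps.cons Cfsg.Agent.Fi23Out.rep15 (Reps.cons Cfsg.Agent.Fi23Out.rep13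 (Reps.cons Cfsg.Agent.Fi23Out.rep11 (Reps.cons Cfsg.Agent.Fi23Out.rep19 (Reps.cons Cfsg.Agent.Fi23Out.rep5 (Reps.cons Cfsg.Agent.Fi23Out.rep14 (Reps.cons Cfsg.Agent.Fi23Out.rep9 (Reps.cons Cfsg.Agent.Fi23Out.rep19 (Reps.nil P)))))))))))))))))))))))).congr eqU11

/-- the element number 11 -/
noncomputable def x11 : Equiv.Perm (Fin 31671) := Classical.choose repU11

theorem hx11 : x11 ∈ P := (Classical.choose_spec repU11).1

theorem ax11 : Acts x11 g11 := (Classical.choose_spec repU11).2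

/-- the element number 11, in the group -/
noncomputable def y11 : ↥P := ⟨x11, hx11⟩

end Cfsg.Agent.Fi23Syl
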