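import Cfsg.Agent.Lib.Lead.Fi23Syl.C13
import Cfsg.Agent.Lib.Lead.Fi23Out.T1
import Cfsg.Agent.Lib.Lead.Fi23Out.T2
import Cfsg.Agent.Lib.Lead.Fi23Out.T10
import Cfsg.Agent.Lib.Lead.Fi23Out.T11
import Cfsg.Agent.Lib.Lead.Fi23Out.T14
import Cfsg.Agent.Lib.Lead.Fi23Out.T15
import Cfsg.Agent.Lib.Lead.Fi23Out.T16
import Cfsg.Agent.Lib.Lead.Fi23Out.T17
import Cfsg.Agent.Lib.Lead.Fi23Out.T19
import Cfsg.Agent.Lib.Lead.Fi23Out.T20
import Cfsg.Agent.Lib.Lead.Fi23Out.T22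
import Cfsg.Agent.Lib.Lead.Fi23Out.T23
import Cfsg.Agent.Lib.Lead.Fi23Out.T24

/-! # The Sylow 2-subgroups of Fi₂₃: the element number 13 (generated) -/

set_option autoImplicit false
set_option maxRecDepth 100000

namespace Cfsg.Agent.Fi23Syl

open Cfsg.Agent.PF Cfsg.Agent.Lib.Helper6 Cfsg.Agent.Lib.Helper6.TC
open Cfsg.Agent.PL (Acts evalF)
open Cfsg.Agent.Fi23Out (P)
open Cfsg.Agent.Lib.Lead.Fi23Syl

/-- the table agrees with the word -/
theorem eqU13 : ∀ q < 31671, g13 q = wordR WU13 q :=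
  eq_of_chunks (f := g13) (g := wordR WU13) [(0, 10557), (10557, 10557), (21114, 10557)] (by decide) (by
    intro c hc
    simp only [List.mem_cons, List.not_mem_nil, or_false] at hc
    rcases hc with rfl | rfl | rfl
    · exact eqU13_0
    · exact eqU13_1
    · exact eqU13_2
  )

theorem repU13 : Rep P g13 :=
  (rep_wordR (l := WU13) (Reps.cons Cfsg.Agent.Fi23Out.rep22 (Reps.cons Cfsg.Agent.Fi23Out.rep22 (Reps.cons Cfsg.Agent.Fi23Out.rep24 (Reps.cons Cfsg.Agent.Fi23Out.rep24 (Reps.cons Cfsg.Agent.Fi23Out.rep19 (Reps.cons Cfsg.Agent.Fi23Out.rep19 (Reps.cons Cfsg.Agent.Fi23Out.rep23 (Reps.cons Cfsg.Agent.Fi23Out.rep20 (Reps.cons Cfsg.Agent.Fi23Out.rep14 (Reps.cons Cfsg.Agent.Fi23Out.rep16 (Reps.cons Cfsg.Agent.Fi23Out.rep17 (Reps.cons Cfsg.Agent.Fi23Out.rep17 (Reps.cons Cfsg.Agent.Fi23Out.rep20 (Reps.cons Cfsg.Agent.Fi23Out.rep15 (Reps.cons Cfsg.Agent.Fi23Out.rep19 (Reps.cons Cfsg.Agent.Fi23Out.rep17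 (Reps.cons Cfsg.Agent.Fi23Out.rep11 (Reps.cons Cfsg.Agent.Fi23Out.rep24 (Reps.cons Cfsg.Agent.Fi23Out.rep10 (Reps.cons Cfsg.Agent.Fi23Out.rep23 (Reps.cons Cfsg.Agent.Fi23Out.rep1 (Reps.cons Cfsg.Agent.Fi23Out.rep2 (Reps.nil P)))))))))))))))))))))))).congr eqU13

/-- the element number 13 -/
noncomputable def x13 : Equiv.Perm (Fin 31671) := Classical.choose repU13

theorem hx13 : x13 ∈ P := (Classical.choose_spec repU13).1

theorem ax13 : Acts x13 g13 := (Classical.choose_spec repU13).2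

/-- the element number 13, in the group -/
noncomputable def y13 : ↥P := ⟨x13, hx13⟩

end Cfsg.Agent.Fi23Syl
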