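import Cfsg.Agent.Lib.Lead.Fi23Syl.C14
import Cfsg.Agent.Lib.Lead.Fi23Out.T5
import Cfsg.Agent.Lib.Lead.Fi23Out.T12
import Cfsg.Agent.Lib.Lead.Fi23Out.T14
import Cfsg.Agent.Lib.Lead.Fi23Out.T17
import Cfsg.Agent.Lib.Lead.Fi23Out.T18
import Cfsg.Agent.Lib.Lead.Fi23Out.T20
import Cfsg.Agent.Lib.Lead.Fi23Out.T21
import Cfsg.Agent.Lib.Lead.Fi23Out.T22
import Cfsg.Agent.Lib.Lead.Fi23Out.T24

/-! # The Sylow 2-subgroups of Fi₂₃: the element number 14 (generated) -/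

set_option autoImplicit false
set_option maxRecDepth 100000

namespace Cfsg.Agent.Fi23Syl

open Cfsg.Agent.PF Cfsg.Agent.Lib.Helper6 Cfsg.Agent.Lib.Helper6.TC
open Cfsg.Agent.PL (Acts evalF)
open Cfsg.Agent.Fi23Out (P)
open Cfsg.Agent.Lib.Lead.Fi23Syl

/-- the table agrees with the word -/
theorem eqU14 : ∀ q < 31671, g14 q = wordR WU14 q :=
  eq_of_chunks (f := g14) (g := wordR WU14) [(0, 10557), (10557, 10557), (21114, 10557)] (by decide) (by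
    intro c hc
    simp only [List.mem_cons, List.not_mem_nil, or_false] at hc
    rcases hc with rfl | rfl | rfl
    · exact eqU14_0
    · exact eqU14_1
    · exact eqU14_2
  )

theorem repU14 : Rep P g14 :=
  (rep_wordR (l := WU14) (Reps.cons Cfsg.Agent.Fi23Out.rep22 (Reps.cons Cfsg.Agent.Fi23Out.rep22 (Reps.cons Cfsg.Agent.Fi23Out.rep24 (Reps.cons Cfsg.Agent.Fi23Out.rep21 (Reps.cons Cfsg.Agent.Fi23Out.rep21 (Reps.cons Cfsg.Agent.Fi23Out.rep18 (Reps.cons Cfsg.Agent.Fi23Out.rep22 (Reps.cons Cfsg.Agent.Fi23Out.rep18 (Reps.cons Cfsg.Agent.Fi23Out.rep22 (Reps.cons Cfsg.Agent.Fi23Out.rep14 (Reps.cons Cfsg.Agent.Fi23Out.rep22 (Reps.cons Cfsg.Agent.Fi23Out.rep17 (Reps.cons Cfsg.Agent.Fi23Out.rep22 (Reps.cons Cfsg.Agent.Fi23Out.rep21 (Reps.cons Cfsg.Agent.Fi23Out.rep12 (Reps.cons Cfsg.Agent.Fi23Out.rep17 (Reps.cons Cfsg.Agent.Fi23Out.rep20 (Reps.cons Cfsg.Agent.Fi23Out.rep17 (Reps.cons Cfsg.Agent.Fi23Out.rep5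 (Reps.cons Cfsg.Agent.Fi23Out.rep17 (Reps.cons Cfsg.Agent.Fi23Out.rep12 (Reps.nil P))))))))))))))))))))))).congr eqU14

/-- the element number 14 -/
noncomputable def x14 : Equiv.Perm (Fin 31671) := Classical.choose repU14

theorem hx14 : x14 ∈ P := (Classical.choose_spec repU14).1

theorem ax14 : Acts x14 g14 := (Classical.choose_spec repU14).2

/-- the element number 14, in the group -/
noncomputable def y14 : ↥P := ⟨x14, hx14⟩

end Cfsg.Agent.Fi23Syl
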