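import Cfsg.Agent.Lib.Lead.Fi23Syl.T0
import Cfsg.Agent.Lib.Lead.Fi23Syl.T1
import Cfsg.Agent.Lib.Lead.Fi23Syl.T2
import Cfsg.Agent.Lib.Lead.Fi23Syl.T3
import Cfsg.Agent.Lib.Lead.Fi23Syl.T4
import Cfsg.Agent.Lib.Lead.Fi23Syl.T5
import Cfsg.Agent.Lib.Lead.Fi23Syl.T6
import Cfsg.Agent.Lib.Lead.Fi23Syl.T7
import Cfsg.Agent.Lib.Lead.Fi23Syl.T8
import Cfsg.Agent.Lib.Lead.Fi23Syl.T9
import Cfsg.Agent.Lib.Lead.Fi23Syl.T10
import Cfsg.Agent.Lib.Lead.Fi23Syl.T11
import Cfsg.Agent.Lib.Lead.Fi23Syl.T12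
import Cfsg.Agent.Lib.Lead.Fi23Syl.T13
import Cfsg.Agent.Lib.Lead.Fi23Syl.T14
import Cfsg.Agent.Lib.Lead.Fi23Syl.T15
import Cfsg.Agent.Lib.Lead.Fi23Syl.T16
import Cfsg.Agent.Lib.Lead.Fi23Syl.T17
import Cfsg.Agent.Lib.Lead.Fi23Syl.FS

/-! # The Sylow 2-subgroups of Fi₂₃: the lists of the elements (generated) -/

set_option autoImplicit false
set_option maxRecDepth 100000

namespace Cfsg.Agent.Fi23Syl

open Cfsg.Agent.PF Cfsg.Agent.Lib.Helper6 Cfsg.Agent.Lib.Helper6.TC
open Cfsg.Agent.PL (Acts evalF)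
open Cfsg.Agent.Fi23Out (P)
open Cfsg.Agent.Lib.Lead.Fi23Syl

/-- the elements from number 18 on -/
noncomputable def GS18 : List ↥P := []

theorem fa18 : List.Forall₂ (fun (g : ↥P) f => Acts g.1 f) GS18 FS18 := List.Forall₂.nil

/-- the elements from number 17 on -/
noncomputable def GS17 : List ↥P := y17 :: GS18

theorem fa17 : List.Forall₂ (fun (g : ↥P) f => Acts g.1 f) GS17 FS17 := List.Forall₂.cons ax17 fa18

/-- the elements from number 16 on -/
noncomputable def GS16 : List ↥P := y16 :: GS17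

theorem fa16 : List.Forall₂ (fun (g : ↥P) f => Acts g.1 f) GS16 FS16 := List.Forall₂.cons ax16 fa17

/-- the elements from number 15 on -/
noncomputable def GS15 : List ↥P := y15 :: GS16

theorem fa15 : List.Forall₂ (fun (g : ↥P) f => Acts g.1 f) GS15 FS15 := List.Forall₂.cons ax15 fa16

/-- the elements from number 14 on -/
noncomputable def GS14 : List ↥P := y14 :: GS15

theorem fa14 : List.Forall₂ (fun (g : ↥P) f => Acts g.1 f) GS14 FS14 := List.Forall₂.cons ax14 fa15

/-- the elements from number 13 on -/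
noncomputable def GS13 : List ↥P := y13 :: GS14

theorem fa13 : List.Forall₂ (fun (g : ↥P) f => Acts g.1 f) GS13 FS13 := List.Forall₂.cons ax13 fa14

/-- the elements from number 12 on -/
noncomputable def GS12 : List ↥P := y12 :: GS13

theorem fa12 : List.Forall₂ (fun (g : ↥P) f => Acts g.1 f) GS12 FS12 := List.Forall₂.cons ax12 fa13

/-- the elements from number 11 on -/
noncomputable def GS11 : List ↥P := y11 :: GS12

theorem fa11 : List.Forall₂ (fun (g : ↥P) f => Acts g.1 f) GS11 FS11 := List.Forall₂.cons ax11 fa12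

/-- the elements from number 10 on -/
noncomputable def GS10 : List ↥P := y10 :: GS11

theorem fa10 : List.Forall₂ (fun (g : ↥P) f => Acts g.1 f) GS10 FS10 := List.Forall₂.cons ax10 fa11

/-- the elements from number 9 on -/
noncomputable def GS9 : List ↥P := y9 :: GS10

theorem fa9 : List.Forall₂ (fun (g : ↥P) f => Acts g.1 f) GS9 FS9 := List.Forall₂.cons ax9 fa10

/-- the elements from number 8 on -/
noncomputable def GS8 : List ↥P := y8 :: GS9

theorem fa8 : List.Forall₂ (fun (g : ↥P) f => Acts g.1 f) GS8 FS8 := List.Forall₂.cons ax8 fa9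

/-- the elements from number 7 on -/
noncomputable def GS7 : List ↥P := y7 :: GS8

theorem fa7 : List.Forall₂ (fun (g : ↥P) f => Acts g.1 f) GS7 FS7 := List.Forall₂.cons ax7 fa8

/-- the elements from number 6 on -/
noncomputable def GS6 : List ↥P := y6 :: GS7

theorem fa6 : List.Forall₂ (fun (g : ↥P) f => Acts g.1 f) GS6 FS6 := List.Forall₂.cons ax6 fa7

/-- the elements from number 5 on -/
noncomputable def GS5 : List ↥P := y5 :: GS6

theorem fa5 : List.Forall₂ (fun (g : ↥P) f => Acts g.1 f) GS5 FS5 := List.Forall₂.cons ax5 fa6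

/-- the elements from number 4 on -/
noncomputable def GS4 : List ↥P := y4 :: GS5

theorem fa4 : List.Forall₂ (fun (g : ↥P) f => Acts g.1 f) GS4 FS4 := List.Forall₂.cons ax4 fa5

/-- the elements from number 3 on -/
noncomputable def GS3 : List ↥P := y3 :: GS4

theorem fa3 : List.Forall₂ (fun (g : ↥P) f => Acts g.1 f) GS3 FS3 := List.Forall₂.cons ax3 fa4

/-- the elements from number 2 on -/
noncomputable def GS2 : List ↥P := y2 :: GS3

theorem fa2 : List.Forall₂ (fun (g : ↥P) f => Acts g.1 f) GS2 FS2 := List.Forall₂.cons ax2 fa3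

/-- the elements from number 1 on -/
noncomputable def GS1 : List ↥P := y1 :: GS2

theorem fa1 : List.Forall₂ (fun (g : ↥P) f => Acts g.1 f) GS1 FS1 := List.Forall₂.cons ax1 fa2

/-- the elements from number 0 on -/
noncomputable def GS0 : List ↥P := y0 :: GS1

theorem fa0 : List.Forall₂ (fun (g : ↥P) f => Acts g.1 f) GS0 FS0 := List.Forall₂.cons ax0 fa1


end Cfsg.Agent.Fi23Syl
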