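import Cfsg.Agent.Lib.Lead.Fi23Syl.Offender
import Cfsg.Agent.Lib.Lead.Fi23Syl.EvW
import Cfsg.Agent.Lib.Lead.PF.Out

/-!
# Lemmas for building the setting `PSetup` from relations between permutations
-/

set_option autoImplicit false
set_option maxRecDepth 100000

namespace Cfsg.Agent.Lib.Lead.Fi23Syl

open Cfsg
open Cfsg.Agent.PL (Acts)

variable {G : Type*} [Group G]

theorem mem_NFp2_intro {l : List G} {x : G} (k e : ℕ) (hk : l.length = k) (he : e < 2 ^ k) (h : x = elP 2 l e) :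
    x ∈ NFp 2 l := ⟨e, hk ▸ he, h⟩

theorem elP2_cons_double (a : G) (l : List G) (c : ℕ) : elP 2 (a :: l) (2 * c) = elP 2 l c := by
  rw [h8_elP_cons, Nat.mul_mod_right, pow_zero, one_mul, Nat.mul_div_cancel_left c (by norm_num : 0 < 2)]

theorem NFp2_cons_of_mem {a : G} {l : List G} {x : G} (h : x ∈ NFp 2 l) : x ∈ NFp 2 (a :: l) := by
  obtain ⟨e, he, rfl⟩ := h
  refine ⟨2 * e, ?_, (elP2_cons_double a l e).symm⟩
  rw [List.length_cons, pow_succ]
  omega

theorem NFp2_append_of_mem {x : G} : ∀ (l₁ : List G) {l₂ : List G}, x ∈ NFp 2 l₂ → x ∈ NFp 2 (l₁ ++ l₂)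
  | [], _, h => h
  | _ :: l₁, _, h => NFp2_cons_of_mem (NFp2_append_of_mem l₁ h)

theorem one_mem_NFp2 (l : List G) : (1 : G) ∈ NFp 2 l :=
  ⟨0, Nat.pos_of_ne_zero (by positivity), (elP_zero 2 l).symm⟩

theorem mem_NFp2_of_mem : ∀ {l : List G} {b : G}, b ∈ l → b ∈ NFp 2 l
  | a :: l, b, hb => by
    rcases List.mem_cons.1 hb with rfl | hb
    · refine ⟨1, ?_, ?_⟩
      · rw [List.length_cons, pow_succ]
        have : 0 < 2 ^ l.length := Nat.pos_of_ne_zero (by positivity)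
        omega
      · rw [h8_elP_cons, Nat.one_mod, pow_one, show 1 / 2 = 0 from rfl, elP_zero, mul_one]
    · exact NFp2_cons_of_mem (mem_NFp2_of_mem hb)

/-- commuting involutions form a polycyclic sequence -/
theorem pcok_abelian : ∀ l : List G, (∀ v ∈ l, v * v = 1) → l.Pairwise (fun v w => v * w = w * v) → PCOKp 2 l
  | [], _, _ => trivial
  | a :: l, hsq, hc => by
    rw [List.pairwise_cons] at hc
    refine ⟨?_, ?_, pcok_abelian l (fun v hv => hsq v (List.mem_cons_of_mem _ hv)) hc.2⟩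
    · rw [pow_two, hsq a List.mem_cons_self]
      exact one_mem_NFp2 l
    · intro b hb
      rw [hc.1 b hb, mul_inv_cancel_right]
      exact mem_NFp2_of_mem hb

theorem comm_all_of_pairwise {l : List G} (hc : l.Pairwise (fun v w => v * w = w * v)) :
    ∀ v ∈ l, ∀ w ∈ l, v * w = w * v := by
  haveI : Std.Symm (fun v w : G => v * w = w * v) := ⟨fun _ _ h => h.symm⟩
  intro v hv w hw
  exact List.Pairwise.forall_of_forall (R := fun v w : G => v * w = w * v) (fun _ _ => rfl) hc hv hw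

/-- one more element in front of a polycyclic sequence -/
theorem pcok_cons_of (a : G) (l₁ l₂ : List G) (hl : PCOKp 2 (l₁ ++ l₂)) (hsq : a ^ 2 ∈ NFp 2 (l₁ ++ l₂))
    (h1 : ∀ b ∈ l₁, a * b * a⁻¹ ∈ NFp 2 (l₁ ++ l₂)) (h2 : ∀ b ∈ l₂, a * b * a⁻¹ ∈ NFp 2 l₂) :
    PCOKp 2 (a :: (l₁ ++ l₂)) := by
  refine ⟨hsq, ?_, hl⟩
  intro b hb
  rcases List.mem_append.1 hb with hb | hb
  · exact h1 b hb
  · exact NFp2_append_of_mem l₁ (h2 b hb)

theorem mem_NFp2_of_forall2 {s : G} {vl : List G} : ∀ {vl' : List G} {m : List ℕ},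
    List.Forall₂ (fun v c => s * v * s⁻¹ = elP 2 vl c) vl' m → (∀ c ∈ m, c < 2 ^ vl.length) →
    ∀ b ∈ vl', s * b * s⁻¹ ∈ NFp 2 vl := by
  intro vl' m h
  induction h with
  | nil => intro _ b hb; exact absurd hb List.not_mem_nil
  | @cons v c vl' m hd _ ih =>
    intro hm b hb
    rcases List.mem_cons.1 hb with rfl | hb
    · exact ⟨c, hm c List.mem_cons_self, hd⟩
    · exact ih (fun c hc => hm c (List.mem_cons_of_mem _ hc)) b hb

/-- the normal words of the normal subgroup other than 1 move one of two points -/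
theorem inj_of_chk {n : ℕ} {P : Subgroup (Equiv.Perm (Fin n))} {gs : List ↥P} {fs : List (ℕ → ℕ)}
    (hgs : List.Forall₂ (fun (g : ↥P) f => Acts g.1 f) gs fs) (p1 p2 : ℕ) (h1 : p1 < n) (h2 : p2 < n) (N : ℕ)
    (h : Cfsg.Agent.PF.allR 1 N (fun e => !(Nat.beq (evW fs e p1) p1 && Nat.beq (evW fs e p2) p2)) = true) :
    ∀ e : ℕ, 0 < e → e < N + 1 → elP 2 gs e ≠ 1 := by
  intro e he0 heN hone
  have hb := (Cfsg.Agent.PF.allR_iff.1 h) e he0 (by omega)
  have ha := acts_elP hgs e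
  rw [hone] at ha
  have e1 : evW fs e p1 = p1 := by
    have := ha p1 h1
    simpa using this.symm
  have e2 : evW fs e p2 = p2 := by
    have := ha p2 h2
    simpa using this.symm
  rw [e1, e2, Nat.beq_refl, Nat.beq_refl] at hb
  simp at hb

end Cfsg.Agent.Lib.Lead.Fi23Syl
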