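import Cfsg.Agent.Lib.Lead.Fi23Syl.FS

/-! # The Sylow 2-subgroups of Fi₂₃: the elements of the normal subgroup other than 1 move the point 1 or the point 3 (generated) -/

set_option autoImplicit false
set_option maxRecDepth 100000

namespace Cfsg.Agent.Fi23Syl

open Cfsg.Agent.PF Cfsg.Agent.Lib.Helper6 Cfsg.Agent.Lib.Helper6.TC
open Cfsg.Agent.PL (Acts evalF)
open Cfsg.Agent.Fi23Out (P)
open Cfsg.Agent.Lib.Lead.Fi23Syl

theorem inj_chk : allR 1 2047 (fun e => !(Nat.beq (evW FS7 e 1) 1 && Nat.beq (evW FS7 e 3) 3)) = true := by decide +kernel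

end Cfsg.Agent.Fi23Syl
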