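import Cfsg.Agent.Lib.Lead.Fi23Syl.Mat

/-! # The Sylow 2-subgroups of Fi₂₃: the matrices and the certificates (generated) -/

set_option autoImplicit false
set_option maxRecDepth 100000

namespace Cfsg.Agent.Fi23Syl

open Cfsg.Agent.Lib.Lead.Fi23Syl

/-- the matrices of the first seven elements on the normal subgroup -/
def msD : List (List ℕ) := [[459, 2, 63, 128, 512, 882, 64, 8, 256, 16, 1024], [1, 2, 4, 16, 8, 63, 1024, 748, 256, 1607, 64], [1372, 2, 882, 1446, 917, 63, 64, 1607, 256, 748, 1024], [1, 8, 748, 2, 882, 917, 64, 256, 128, 63, 1024], [1, 4, 2, 748, 128, 1265, 64, 16, 882, 1607, 1024], [1, 1265, 32, 1446, 512, 4, 64, 1607, 1690, 16, 1024], [1, 256, 882, 128, 748, 63, 64, 8, 2, 917, 1024]]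

/-- the numbers of the involutions -/
def invsD : List ℕ := [1, 2, 4, 5, 6, 8, 16, 18, 24, 32, 33, 36, 37, 40, 48, 54, 56, 64, 65, 66, 68, 69, 70, 72, 80, 82, 88, 96, 97, 100, 101, 104, 112, 118, 120]

/-- the images of the basis -/
def sigsD : List (List ℕ) := [[1, 2, 4, 8, 16, 32, 64, 128, 256, 512, 1024], [459, 2, 63, 128, 512, 882, 64, 8, 256, 16, 1024], [1, 2, 4, 16, 8, 63, 1024, 748, 256, 1607, 64], [459, 2, 63, 512, 128, 4, 1024, 917, 256, 1446, 64], [1372, 2, 882, 1446, 917, 63, 64, 1607, 256, 748, 1024], [2047, 2, 32, 1607, 748, 4, 64, 1446, 256, 917, 1024], [1372, 2, 882, 917, 1446, 32, 1024, 512, 256, 128, 64], [2047, 2, 32, 748, 1607, 882, 1024, 16, 256, 8, 64], [1, 8, 748, 2, 882, 917, 64, 256, 128, 63, 1024], [459, 128, 917, 2, 32, 748, 64, 256, 8, 4, 1024], [1, 16, 128, 2, 882, 1446, 1024, 256, 748, 32, 64], [459, 512, 8, 2, 32, 1607, 1024, 256, 917, 882, 64], [1372, 1446, 512, 2, 4, 16, 64, 256, 1607, 32, 1024], [2047, 1607, 16, 2, 63, 512, 64, 256, 1446, 882, 1024], [1372, 917, 1607, 2, 4, 8, 1024, 256, 512, 63, 64], [2047, 748, 1446, 2, 63,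 128, 1024, 256, 16, 4, 64], [1, 4, 2, 748, 128, 1265, 64, 16, 882, 1607, 1024], [459, 63, 2, 917, 8, 1265, 64, 512, 32, 1446, 1024], [1, 4, 2, 128, 748, 1690, 1024, 8, 882, 512, 64], [459, 63, 2, 8, 917, 1690, 1024, 128, 32, 16, 64], [1372, 882, 2, 512, 1607, 1265, 64, 917, 4, 128, 1024], [2047, 32, 2, 16, 1446, 1265, 64, 748, 63, 8, 1024], [1372, 882, 2, 1607, 512, 1690, 1024, 1446, 4, 748, 64], [2047, 32, 2, 1446, 16, 1690, 1024, 1607, 63, 917, 64], [1, 748, 8, 4, 256, 1446, 64, 882, 16, 1690, 1024], [459, 917, 128, 63, 256, 1607, 64, 32, 512, 1690, 1024], [1, 128, 16, 4, 256, 917, 1024, 882, 8, 1265, 64], [459, 8, 512, 63, 256, 748, 1024, 32, 128, 1265, 64], [1372, 512, 1446, 882, 256, 8, 64, 4, 917, 1690, 1024], [2047, 16, 1607, 32, 256, 128, 64, 63, 748, 1690, 1024], [1372, 1607, 917, 882, 256, 16, 1024, 4, 1446, 1265, 64], [2047, 1446, 748, 32, 256, 512, 1024, 63, 1607, 1265, 64], [1, 1265, 32, 1446, 512, 4, 64, 1607, 1690, 16, 1024], [459, 1265, 882, 1607, 16, 63, 64, 1446, 1690, 512, 1024], [1, 1690, 63, 917, 1607, 4, 1024, 512, 1265, 8, 64], [459, 1690,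 4, 748, 1446, 63, 1024, 16, 1265, 128, 64], [1372, 1265, 63, 8, 748, 882, 64, 128, 1690, 917, 1024], [2047, 1265, 4, 128, 917, 32, 64, 8, 1690, 748, 1024], [1372, 1690, 32, 16, 128, 882, 1024, 748, 1265, 1446, 64], [2047, 1690, 882, 512, 8, 32, 1024, 917, 1265, 1607, 64], [1, 1446, 917, 1265, 63, 748, 64, 1690, 1607, 882, 1024], [459, 1607, 748, 1265, 4, 917, 64, 1690, 1446, 32, 1024], [1, 917, 1446, 1690, 32, 128, 1024, 1265, 512, 882, 64], [459, 748, 1607, 1690, 882, 8, 1024, 1265, 16, 32, 64], [1372, 8, 16, 1265, 32, 512, 64, 1690, 128, 4, 1024], [2047, 128, 512, 1265, 882, 16, 64, 1690, 8, 63, 1024], [1372, 16, 8, 1690, 63, 1607, 1024, 1265, 748, 4, 64], [2047, 512, 128, 1690, 4, 1446, 1024, 1265, 917, 63, 64], [1, 32, 1265, 917, 1607, 2, 64, 512, 63, 128, 1024], [459, 882, 1265, 748, 1446, 2, 64, 16, 4, 8, 1024], [1, 63, 1690, 1446, 512, 2, 1024, 1607, 32, 748, 64], [459, 4, 1690, 1607, 16, 2, 1024, 1446, 882, 917, 64], [1372, 63, 1265, 16, 128, 2, 64, 748, 32, 1607, 1024], [2047, 4, 1265, 512, 8, 2, 64, 917, 882, 1446, 1024], [1372, 32, 1690, 8, 748, 2,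 1024, 128, 63, 512, 64], [2047, 882, 1690, 128, 917, 2, 1024, 8, 4, 16, 64], [1, 917, 1446, 32, 1690, 8, 64, 63, 512, 256, 1024], [459, 748, 1607, 882, 1690, 128, 64, 4, 16, 256, 1024], [1, 1446, 917, 63, 1265, 16, 1024, 32, 1607, 256, 64], [459, 1607, 748, 4, 1265, 512, 1024, 882, 1446, 256, 64], [1372, 16, 8, 63, 1690, 1446, 64, 32, 748, 256, 1024], [2047, 512, 128, 4, 1690, 1607, 64, 882, 917, 256, 1024], [1372, 8, 16, 32, 1265, 917, 1024, 63, 128, 256, 64], [2047, 128, 512, 882, 1265, 748, 1024, 4, 8, 256, 64], [1, 256, 882, 128, 748, 63, 64, 8, 2, 917, 1024], [459, 256, 32, 8, 917, 4, 64, 128, 2, 748, 1024], [1, 256, 882, 748, 128, 32, 1024, 16, 2, 1446, 64], [459, 256, 32, 917, 8, 882, 1024, 512, 2, 1607, 64], [1372, 256, 4, 1607, 512, 32, 64, 1446, 2, 16, 1024], [2047, 256, 63, 1446, 16, 882, 64, 1607, 2, 512, 1024], [1372, 256, 4, 512, 1607, 63, 1024, 917, 2, 8, 64], [2047, 256, 63, 16, 1446, 4, 1024, 748, 2, 128, 64], [1, 128, 16, 256, 4, 512, 64, 2, 8, 32, 1024], [459, 8, 512, 256, 63, 16, 64, 2, 128, 882, 1024], [1, 748, 8, 256, 4, 1607, 1024, 2, 16,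 63, 64], [459, 917, 128, 256, 63, 1446, 1024, 2, 512, 4, 64], [1372, 1607, 917, 256, 882, 748, 64, 2, 1446, 63, 1024], [2047, 1446, 748, 256, 32, 917, 64, 2, 1607, 4, 1024], [1372, 512, 1446, 256, 882, 128, 1024, 2, 917, 32, 64], [2047, 16, 1607, 256, 32, 8, 1024, 2, 748, 882, 64], [1, 882, 256, 16, 8, 1690, 64, 748, 4, 1446, 1024], [459, 32, 256, 512, 128, 1690, 64, 917, 63, 1607, 1024], [1, 882, 256, 8, 16, 1265, 1024, 128, 4, 917, 64], [459, 32, 256, 128, 512, 1265, 1024, 8, 63, 748, 64], [1372, 4, 256, 917, 1446, 1690, 64, 512, 882, 8, 1024], [2047, 63, 256, 748, 1607, 1690, 64, 16, 32, 128, 1024], [1372, 4, 256, 1446, 917, 1265, 1024, 1607, 882, 16, 64], [2047, 63, 256, 1607, 748, 1265, 1024, 1446, 32, 512, 64], [1, 16, 128, 882, 2, 1607, 64, 4, 748, 1265, 1024], [459, 512, 8, 32, 2, 1446, 64, 63, 917, 1265, 1024], [1, 8, 748, 882, 2, 512, 1024, 4, 128, 1690, 64], [459, 128, 917, 32, 2, 16, 1024, 63, 8, 1690, 64], [1372, 917, 1607, 4, 2, 128, 64, 882, 512, 1265, 1024], [2047, 748, 1446, 63, 2, 8, 64, 32, 16, 1265, 1024], [1372, 1446, 512, 4, 2, 748, 1024,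 882, 1607, 1690, 64], [2047, 1607, 16, 63, 2, 917, 1024, 32, 1446, 1690, 64], [1, 1690, 63, 1607, 917, 882, 64, 1446, 1265, 748, 1024], [459, 1690, 4, 1446, 748, 32, 64, 1607, 1265, 917, 1024], [1, 1265, 32, 512, 1446, 882, 1024, 917, 1690, 128, 64], [459, 1265, 882, 16, 1607, 32, 1024, 748, 1690, 8, 64], [1372, 1690, 32, 128, 16, 4, 64, 8, 1265, 512, 1024], [2047, 1690, 882, 8, 512, 63, 64, 128, 1265, 16, 1024], [1372, 1265, 63, 748, 8, 4, 1024, 16, 1690, 1607, 64], [2047, 1265, 4, 917, 128, 63, 1024, 512, 1690, 1446, 64], [1, 1607, 512, 1690, 32, 16, 64, 1265, 1446, 4, 1024], [459, 1446, 16, 1690, 882, 512, 64, 1265, 1607, 63, 1024], [1, 512, 1607, 1265, 63, 8, 1024, 1690, 917, 4, 64], [459, 16, 1446, 1265, 4, 128, 1024, 1690, 748, 63, 64], [1372, 128, 748, 1690, 63, 917, 64, 1265, 8, 882, 1024], [2047, 8, 917, 1690, 4, 748, 64, 1265, 128, 32, 1024], [1372, 748, 128, 1265, 32, 1446, 1024, 1690, 16, 882, 64], [2047, 917, 8, 1265, 882, 1607, 1024, 1690, 512, 32, 64], [1, 63, 1690, 512, 1446, 256, 64, 917, 32, 8, 1024], [459, 4, 1690, 16, 1607, 256, 64, 748, 882,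 128, 1024], [1, 32, 1265, 1607, 917, 256, 1024, 1446, 63, 16, 64], [459, 882, 1265, 1446, 748, 256, 1024, 1607, 4, 512, 64], [1372, 32, 1690, 748, 8, 256, 64, 16, 63, 1446, 1024], [2047, 882, 1690, 917, 128, 256, 64, 512, 4, 1607, 1024], [1372, 63, 1265, 128, 16, 256, 1024, 8, 32, 917, 64], [2047, 4, 1265, 8, 512, 256, 1024, 128, 882, 748, 64], [1, 512, 1607, 63, 1265, 128, 64, 32, 917, 2, 1024], [459, 16, 1446, 4, 1265, 8, 64, 882, 748, 2, 1024], [1, 1607, 512, 32, 1690, 748, 1024, 63, 1446, 2, 64], [459, 1446, 16, 882, 1690, 917, 1024, 4, 1607, 2, 64], [1372, 748, 128, 32, 1265, 1607, 64, 63, 16, 2, 1024], [2047, 917, 8, 882, 1265, 1446, 64, 4, 512, 2, 1024], [1372, 128, 748, 63, 1690, 512, 1024, 32, 8, 2, 64], [2047, 8, 917, 4, 1690, 16, 1024, 882, 128, 2, 64]]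

/-- the vectors for the rank of `M + 1` -/
def oneD : List (List ℕ) := [[], [1, 4, 8, 16], [8, 32, 64, 128], [], [1, 4, 8, 32], [1, 4, 8, 16], [1, 4, 8, 64], [], [2, 4, 16, 32], [], [], [], [], [], [], [], [2, 8, 16, 32], [], [2, 8, 16, 32], [], [], [], [], [], [2, 4, 16, 32], [], [], [], [], [], [], [], [2, 4, 8, 16], [1, 2, 4, 32], [], [], [1, 2, 4, 16], [1, 2, 8, 256], [], [], [2, 4, 8, 16], [], [], [], [], [], [], [], [2, 4, 8, 16], [], [], [], [], [], [1, 2, 4, 16], [], [2, 4, 8, 16], [], [], [], [], [], [], [], [2, 4, 8, 32], [1, 2, 4, 16], [2, 4, 8, 64], [], [1, 2, 8, 128], [1, 2, 4, 8], [1, 2, 8, 32], [], [2, 4, 8, 32], [], [], [], [], [], [], [], [2, 4, 8, 32], [], [2, 4, 32, 64], [], [], [], [], [], [2, 4, 8, 32], [], [], [], [], [], [], [], [2, 4, 8, 16], [1, 2, 8, 128], [], [], [1, 2, 4, 8], [1, 2, 4, 32], [], [], [2, 4, 8, 16], [], [], [], [], [], [], [], [2, 4, 8, 16], [], [], [], [], [], [1, 2, 4, 8], [], [2, 4, 8, 16], [], [], [], [], [], [], []]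

/-- the entries for the pairs -/
def tabD : List (List (List ℕ)) := [[[], [], [], [], [], [], [], [], [], [], [], [], [], [], [], [], [], [], [], [], [], [], [], [], [], [], [], [], [], [], [], [], [], [], [], [], [], [], [], [], [], [], [], [], [], [], [], [], [], [], [], [], [], [], [], [], [], [], [], [], [], [], [], [], [], [], [], [], [], [], [], [], [], [], [], [], [], [], [], [], [], [], [], [], [], [], [], [], [], [], [], [], [], [], [], [], [], [], [], [], [], [], [], [], [], [], [], [], [], [], [], [], [], [], [], [], [], [], [], [], [], [], [], [], [], [], [], []], [[], [], [0], [], [1, 4, 8, 16, 32], [1, 4, 8, 16, 32], [0], [], [1], [], [], [], [], [], [], [], [1], [], [0], [], [], [], [], [], [1], [], [], [], [], [], [], [], [1, 2, 4, 8, 16], [1, 2, 4, 8, 16], [], [], [1, 2, 4, 8, 16], [1, 2, 4, 8, 16], [], [], [1], [], [], [], [], [], [], [], [1], [], [], [], [], [], [0], [], [1], [], [], [], [], [], [], [], [1, 2, 4, 8, 16], [1, 2, 4, 8, 16], [0], [], [1, 2, 4, 8, 16], [1, 2, 4, 8, 16], [0], [], [1], [], [], [], [], [], [], [], [1], [], [0], [],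 [], [], [], [], [1], [], [], [], [], [], [], [], [1, 2, 4, 8, 16], [1, 2, 4, 8, 16], [], [], [1, 2, 4, 8, 16], [1, 2, 4, 8, 16], [], [], [1], [], [], [], [], [], [], [], [1], [], [], [], [], [], [0], [], [1], [], [], [], [], [], [], []], [[], [0], [], [], [1, 4, 8, 32, 64], [0], [1, 4, 8, 32, 64], [], [1], [], [], [], [], [], [], [], [2, 8, 16, 32, 64], [], [2, 8, 16, 32, 64], [], [], [], [], [], [1], [], [], [], [], [], [], [], [1], [0], [], [], [1], [0], [], [], [1], [], [], [], [], [], [], [], [1], [], [], [], [], [], [1], [], [1], [], [], [], [], [], [], [], [2, 4, 8, 32, 64], [0], [2, 4, 8, 32, 64], [], [1, 2, 8, 32, 64], [0], [1, 2, 8, 32, 64], [], [1], [], [], [], [], [], [], [], [2, 4, 8, 32, 64], [], [2, 4, 8, 32, 64], [], [], [], [], [], [1], [], [], [], [], [], [], [], [1], [0], [], [], [1], [0], [], [], [1], [], [], [], [], [], [], [], [1], [], [], [], [], [], [1], [], [1], [], [], [], [], [], [], []], [[], [], [], [], [], [], [], [], [], [], [], [], [], [], [], [], [], [], [], [], [], [], [], [], [], [], [], [], [], [], [], [], [], [], [], [], [],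 [], [], [], [], [], [], [], [], [], [], [], [], [], [], [], [], [], [], [], [], [], [], [], [], [], [], [], [], [], [], [], [], [], [], [], [], [], [], [], [], [], [], [], [], [], [], [], [], [], [], [], [], [], [], [], [], [], [], [], [], [], [], [], [], [], [], [], [], [], [], [], [], [], [], [], [], [], [], [], [], [], [], [], [], [], [], [], [], [], [], []], [[], [1, 4, 8, 16, 32], [1, 4, 8, 32, 64], [], [], [1, 4, 8, 16, 32], [1, 4, 8, 32, 64], [], [1], [], [], [], [], [], [], [], [1], [], [1], [], [], [], [], [], [1], [], [], [], [], [], [], [], [1, 2, 4, 8, 16], [1, 2, 4, 8, 32], [], [], [1, 2, 4, 8, 16], [1, 2, 4, 8, 32], [], [], [1], [], [], [], [], [], [], [], [1], [], [], [], [], [], [1], [], [1], [], [], [], [], [], [], [], [1, 2, 4, 8, 32], [1, 2, 4, 8, 16], [1, 2, 4, 8, 32], [], [1, 2, 4, 8, 32], [1, 2, 4, 8, 16], [1, 2, 4, 8, 32], [], [1], [], [], [], [], [], [], [], [1], [], [1], [], [], [], [], [], [1], [], [], [], [], [], [], [], [1, 2, 4, 8, 16], [1, 2, 4, 8, 32], [], [], [1, 2, 4, 8, 16], [1, 2, 4, 8, 32], [], [], [1], [], [], [], [], [], [],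 [], [1], [], [], [], [], [], [1], [], [1], [], [], [], [], [], [], []], [[], [1, 4, 8, 16, 32], [0], [], [1, 4, 8, 16, 32], [], [0], [], [1], [], [], [], [], [], [], [], [1], [], [0], [], [], [], [], [], [1], [], [], [], [], [], [], [], [1, 2, 4, 8, 16], [1, 2, 4, 8, 16], [], [], [1, 2, 4, 8, 16], [1, 2, 4, 8, 16], [], [], [1], [], [], [], [], [], [], [], [1], [], [], [], [], [], [0], [], [1], [], [], [], [], [], [], [], [1, 2, 4, 8, 16], [1, 2, 4, 8, 16], [0], [], [1, 2, 4, 8, 16], [1, 2, 4, 8, 16], [0], [], [1], [], [], [], [], [], [], [], [1], [], [0], [], [], [], [], [], [1], [], [], [], [], [], [], [], [1, 2, 4, 8, 16], [1, 2, 4, 8, 16], [], [], [1, 2, 4, 8, 16], [1, 2, 4, 8, 16], [], [], [1], [], [], [], [], [], [], [], [1], [], [], [], [], [], [0], [], [1], [], [], [], [], [], [], []], [[], [0], [1, 4, 8, 32, 64], [], [1, 4, 8, 32, 64], [0], [], [], [1], [], [], [], [], [], [], [], [1], [], [1], [], [], [], [], [], [1], [], [], [], [], [], [], [], [1], [0], [], [], [1], [0], [], [], [1], [], [], [], [], [], [], [], [1, 2, 4, 8, 16], [], [], [], [], [],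 [1, 2, 4, 8, 16], [], [1], [], [], [], [], [], [], [], [1, 2, 4, 8, 32], [0], [1, 2, 4, 8, 64], [], [1, 2, 4, 8, 64], [0], [1, 2, 4, 8, 32], [], [1], [], [], [], [], [], [], [], [1], [], [1], [], [], [], [], [], [1], [], [], [], [], [], [], [], [1], [0], [], [], [1], [0], [], [], [1], [], [], [], [], [], [], [], [1, 2, 4, 8, 16], [], [], [], [], [], [1, 2, 4, 8, 16], [], [1], [], [], [], [], [], [], []], [[], [], [], [], [], [], [], [], [], [], [], [], [], [], [], [], [], [], [], [], [], [], [], [], [], [], [], [], [], [], [], [], [], [], [], [], [], [], [], [], [], [], [], [], [], [], [], [], [], [], [], [], [], [], [], [], [], [], [], [], [], [], [], [], [], [], [], [], [], [], [], [], [], [], [], [], [], [], [], [], [], [], [], [], [], [], [], [], [], [], [], [], [], [], [], [], [], [], [], [], [], [], [], [], [], [], [], [], [], [], [], [], [], [], [], [], [], [], [], [], [], [], [], [], [], [], [], []], [[], [1], [1], [], [1], [1], [1], [], [], [], [], [], [], [], [], [], [2, 4, 8, 16, 32], [], [1], [], [], [], [], [], [2, 4, 8, 16, 32], [], [], [], [], [],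 [], [], [2, 4, 8, 16, 32], [1], [], [], [1], [1], [], [], [2, 4, 8, 16, 32], [], [], [], [], [], [], [], [2, 4, 8, 16, 32], [], [], [], [], [], [1], [], [2, 4, 8, 16, 32], [], [], [], [], [], [], [], [2, 4, 8, 16, 32], [1], [1], [], [1], [1], [1], [], [2, 4, 8, 16, 32], [], [], [], [], [], [], [], [2, 4, 8, 16, 32], [], [1], [], [], [], [], [], [2, 4, 8, 16, 32], [], [], [], [], [], [], [], [2, 4, 8, 16, 32], [1], [], [], [1], [1], [], [], [2, 4, 8, 16, 32], [], [], [], [], [], [], [], [2, 4, 8, 16, 32], [], [], [], [], [], [1], [], [2, 4, 8, 16, 32], [], [], [], [], [], [], []], [[], [], [], [], [], [], [], [], [], [], [], [], [], [], [], [], [], [], [], [], [], [], [], [], [], [], [], [], [], [], [], [], [], [], [], [], [], [], [], [], [], [], [], [], [], [], [], [], [], [], [], [], [], [], [], [], [], [], [], [], [], [], [], [], [], [], [], [], [], [], [], [], [], [], [], [], [], [], [], [], [], [], [], [], [], [], [], [], [], [], [], [], [], [], [], [], [], [], [], [], [], [], [], [], [], [], [], [], [], [], [], [], [], [], [], [], [], [], [], [], [], [],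 [], [], [], [], [], []], [[], [], [], [], [], [], [], [], [], [], [], [], [], [], [], [], [], [], [], [], [], [], [], [], [], [], [], [], [], [], [], [], [], [], [], [], [], [], [], [], [], [], [], [], [], [], [], [], [], [], [], [], [], [], [], [], [], [], [], [], [], [], [], [], [], [], [], [], [], [], [], [], [], [], [], [], [], [], [], [], [], [], [], [], [], [], [], [], [], [], [], [], [], [], [], [], [], [], [], [], [], [], [], [], [], [], [], [], [], [], [], [], [], [], [], [], [], [], [], [], [], [], [], [], [], [], [], []], [[], [], [], [], [], [], [], [], [], [], [], [], [], [], [], [], [], [], [], [], [], [], [], [], [], [], [], [], [], [], [], [], [], [], [], [], [], [], [], [], [], [], [], [], [], [], [], [], [], [], [], [], [], [], [], [], [], [], [], [], [], [], [], [], [], [], [], [], [], [], [], [], [], [], [], [], [], [], [], [], [], [], [], [], [], [], [], [], [], [], [], [], [], [], [], [], [], [], [], [], [], [], [], [], [], [], [], [], [], [], [], [], [], [], [], [], [], [], [], [], [], [], [], [], [], [], [], []], [[], [], [], [], [], [],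 [], [], [], [], [], [], [], [], [], [], [], [], [], [], [], [], [], [], [], [], [], [], [], [], [], [], [], [], [], [], [], [], [], [], [], [], [], [], [], [], [], [], [], [], [], [], [], [], [], [], [], [], [], [], [], [], [], [], [], [], [], [], [], [], [], [], [], [], [], [], [], [], [], [], [], [], [], [], [], [], [], [], [], [], [], [], [], [], [], [], [], [], [], [], [], [], [], [], [], [], [], [], [], [], [], [], [], [], [], [], [], [], [], [], [], [], [], [], [], [], [], []], [[], [], [], [], [], [], [], [], [], [], [], [], [], [], [], [], [], [], [], [], [], [], [], [], [], [], [], [], [], [], [], [], [], [], [], [], [], [], [], [], [], [], [], [], [], [], [], [], [], [], [], [], [], [], [], [], [], [], [], [], [], [], [], [], [], [], [], [], [], [], [], [], [], [], [], [], [], [], [], [], [], [], [], [], [], [], [], [], [], [], [], [], [], [], [], [], [], [], [], [], [], [], [], [], [], [], [], [], [], [], [], [], [], [], [], [], [], [], [], [], [], [], [], [], [], [], [], []], [[], [], [], [], [], [], [], [], [], [], [], [], [], [], [], [], [], [],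 [], [], [], [], [], [], [], [], [], [], [], [], [], [], [], [], [], [], [], [], [], [], [], [], [], [], [], [], [], [], [], [], [], [], [], [], [], [], [], [], [], [], [], [], [], [], [], [], [], [], [], [], [], [], [], [], [], [], [], [], [], [], [], [], [], [], [], [], [], [], [], [], [], [], [], [], [], [], [], [], [], [], [], [], [], [], [], [], [], [], [], [], [], [], [], [], [], [], [], [], [], [], [], [], [], [], [], [], [], []], [[], [], [], [], [], [], [], [], [], [], [], [], [], [], [], [], [], [], [], [], [], [], [], [], [], [], [], [], [], [], [], [], [], [], [], [], [], [], [], [], [], [], [], [], [], [], [], [], [], [], [], [], [], [], [], [], [], [], [], [], [], [], [], [], [], [], [], [], [], [], [], [], [], [], [], [], [], [], [], [], [], [], [], [], [], [], [], [], [], [], [], [], [], [], [], [], [], [], [], [], [], [], [], [], [], [], [], [], [], [], [], [], [], [], [], [], [], [], [], [], [], [], [], [], [], [], [], []], [[], [1], [2, 8, 16, 32, 64], [], [1], [1], [1], [], [2, 4, 8, 16, 32], [], [], [], [], [], [], [], [], [], [2, 8, 16, 32,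 64], [], [], [], [], [], [2, 4, 8, 16, 32], [], [], [], [], [], [], [], [2, 4, 8, 16, 32], [1], [], [], [1], [1], [], [], [2, 4, 8, 16, 32], [], [], [], [], [], [], [], [2, 4, 8, 16, 32], [], [], [], [], [], [1], [], [2, 4, 8, 16, 32], [], [], [], [], [], [], [], [2, 4, 8, 16, 32], [1], [2, 4, 8, 16, 32], [], [1], [1], [1], [], [2, 4, 8, 16, 32], [], [], [], [], [], [], [], [2, 4, 8, 16, 32], [], [2, 4, 8, 16, 32], [], [], [], [], [], [2, 4, 8, 16, 32], [], [], [], [], [], [], [], [2, 4, 8, 16, 32], [1], [], [], [1], [1], [], [], [2, 4, 8, 16, 32], [], [], [], [], [], [], [], [2, 4, 8, 16, 32], [], [], [], [], [], [1], [], [2, 4, 8, 16, 32], [], [], [], [], [], [], []], [[], [], [], [], [], [], [], [], [], [], [], [], [], [], [], [], [], [], [], [], [], [], [], [], [], [], [], [], [], [], [], [], [], [], [], [], [], [], [], [], [], [], [], [], [], [], [], [], [], [], [], [], [], [], [], [], [], [], [], [], [], [], [], [], [], [], [], [], [], [], [], [], [], [], [], [], [], [], [], [], [], [], [], [], [], [], [], [], [], [], [], [], [], [], [], [], [], [], [],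 [], [], [], [], [], [], [], [], [], [], [], [], [], [], [], [], [], [], [], [], [], [], [], [], [], [], [], [], []], [[], [0], [2, 8, 16, 32, 64], [], [1], [0], [1], [], [1], [], [], [], [], [], [], [], [2, 8, 16, 32, 64], [], [], [], [], [], [], [], [1], [], [], [], [], [], [], [], [1], [0], [], [], [1, 2, 4, 8, 16], [0], [], [], [1], [], [], [], [], [], [], [], [1], [], [], [], [], [], [1, 2, 4, 8, 16], [], [1], [], [], [], [], [], [], [], [2, 4, 8, 16, 32], [0], [2, 4, 8, 16, 32], [], [1], [0], [1], [], [1], [], [], [], [], [], [], [], [2, 4, 8, 16, 32], [], [2, 4, 8, 16, 32], [], [], [], [], [], [1], [], [], [], [], [], [], [], [1], [0], [], [], [1, 2, 4, 8, 16], [0], [], [], [1], [], [], [], [], [], [], [], [1], [], [], [], [], [], [1, 2, 4, 8, 16], [], [1], [], [], [], [], [], [], []], [[], [], [], [], [], [], [], [], [], [], [], [], [], [], [], [], [], [], [], [], [], [], [], [], [], [], [], [], [], [], [], [], [], [], [], [], [], [], [], [], [], [], [], [], [], [], [], [], [], [], [], [], [], [], [], [], [], [], [], [], [], [], [], [], [], [], [], [],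 [], [], [], [], [], [], [], [], [], [], [], [], [], [], [], [], [], [], [], [], [], [], [], [], [], [], [], [], [], [], [], [], [], [], [], [], [], [], [], [], [], [], [], [], [], [], [], [], [], [], [], [], [], [], [], [], [], [], [], []], [[], [], [], [], [], [], [], [], [], [], [], [], [], [], [], [], [], [], [], [], [], [], [], [], [], [], [], [], [], [], [], [], [], [], [], [], [], [], [], [], [], [], [], [], [], [], [], [], [], [], [], [], [], [], [], [], [], [], [], [], [], [], [], [], [], [], [], [], [], [], [], [], [], [], [], [], [], [], [], [], [], [], [], [], [], [], [], [], [], [], [], [], [], [], [], [], [], [], [], [], [], [], [], [], [], [], [], [], [], [], [], [], [], [], [], [], [], [], [], [], [], [], [], [], [], [], [], []], [[], [], [], [], [], [], [], [], [], [], [], [], [], [], [], [], [], [], [], [], [], [], [], [], [], [], [], [], [], [], [], [], [], [], [], [], [], [], [], [], [], [], [], [], [], [], [], [], [], [], [], [], [], [], [], [], [], [], [], [], [], [], [], [], [], [], [], [], [], [], [], [], [], [], [], [], [], [], [], [],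 [], [], [], [], [], [], [], [], [], [], [], [], [], [], [], [], [], [], [], [], [], [], [], [], [], [], [], [], [], [], [], [], [], [], [], [], [], [], [], [], [], [], [], [], [], [], [], []], [[], [], [], [], [], [], [], [], [], [], [], [], [], [], [], [], [], [], [], [], [], [], [], [], [], [], [], [], [], [], [], [], [], [], [], [], [], [], [], [], [], [], [], [], [], [], [], [], [], [], [], [], [], [], [], [], [], [], [], [], [], [], [], [], [], [], [], [], [], [], [], [], [], [], [], [], [], [], [], [], [], [], [], [], [], [], [], [], [], [], [], [], [], [], [], [], [], [], [], [], [], [], [], [], [], [], [], [], [], [], [], [], [], [], [], [], [], [], [], [], [], [], [], [], [], [], [], []], [[], [], [], [], [], [], [], [], [], [], [], [], [], [], [], [], [], [], [], [], [], [], [], [], [], [], [], [], [], [], [], [], [], [], [], [], [], [], [], [], [], [], [], [], [], [], [], [], [], [], [], [], [], [], [], [], [], [], [], [], [], [], [], [], [], [], [], [], [], [], [], [], [], [], [], [], [], [], [], [], [], [], [], [], [], [], [], [], [], [], [], [],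 [], [], [], [], [], [], [], [], [], [], [], [], [], [], [], [], [], [], [], [], [], [], [], [], [], [], [], [], [], [], [], [], [], [], [], []], [[], [1], [1], [], [1], [1], [1], [], [2, 4, 8, 16, 32], [], [], [], [], [], [], [], [2, 4, 8, 16, 32], [], [1], [], [], [], [], [], [], [], [], [], [], [], [], [], [2, 4, 8, 16, 32], [1], [], [], [1], [1], [], [], [2, 4, 8, 16, 32], [], [], [], [], [], [], [], [2, 4, 8, 16, 32], [], [], [], [], [], [1], [], [2, 4, 8, 16, 32], [], [], [], [], [], [], [], [2, 4, 8, 16, 32], [1], [1], [], [1], [1], [1], [], [2, 4, 8, 16, 32], [], [], [], [], [], [], [], [2, 4, 8, 16, 32], [], [1], [], [], [], [], [], [2, 4, 8, 16, 32], [], [], [], [], [], [], [], [2, 4, 8, 16, 32], [1], [], [], [1], [1], [], [], [2, 4, 8, 16, 32], [], [], [], [], [], [], [], [2, 4, 8, 16, 32], [], [], [], [], [], [1], [], [2, 4, 8, 16, 32], [], [], [], [], [], [], []], [[], [], [], [], [], [], [], [], [], [], [], [], [], [], [], [], [], [], [], [], [], [], [], [], [], [], [], [], [], [], [], [], [], [], [], [], [], [], [], [], [], [], [], [], [], [], [],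 [], [], [], [], [], [], [], [], [], [], [], [], [], [], [], [], [], [], [], [], [], [], [], [], [], [], [], [], [], [], [], [], [], [], [], [], [], [], [], [], [], [], [], [], [], [], [], [], [], [], [], [], [], [], [], [], [], [], [], [], [], [], [], [], [], [], [], [], [], [], [], [], [], [], [], [], [], [], [], [], []], [[], [], [], [], [], [], [], [], [], [], [], [], [], [], [], [], [], [], [], [], [], [], [], [], [], [], [], [], [], [], [], [], [], [], [], [], [], [], [], [], [], [], [], [], [], [], [], [], [], [], [], [], [], [], [], [], [], [], [], [], [], [], [], [], [], [], [], [], [], [], [], [], [], [], [], [], [], [], [], [], [], [], [], [], [], [], [], [], [], [], [], [], [], [], [], [], [], [], [], [], [], [], [], [], [], [], [], [], [], [], [], [], [], [], [], [], [], [], [], [], [], [], [], [], [], [], [], []], [[], [], [], [], [], [], [], [], [], [], [], [], [], [], [], [], [], [], [], [], [], [], [], [], [], [], [], [], [], [], [], [], [], [], [], [], [], [], [], [], [], [], [], [], [], [], [], [], [], [], [], [], [], [], [], [], [], [], [],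 [], [], [], [], [], [], [], [], [], [], [], [], [], [], [], [], [], [], [], [], [], [], [], [], [], [], [], [], [], [], [], [], [], [], [], [], [], [], [], [], [], [], [], [], [], [], [], [], [], [], [], [], [], [], [], [], [], [], [], [], [], [], [], [], [], [], [], [], []], [[], [], [], [], [], [], [], [], [], [], [], [], [], [], [], [], [], [], [], [], [], [], [], [], [], [], [], [], [], [], [], [], [], [], [], [], [], [], [], [], [], [], [], [], [], [], [], [], [], [], [], [], [], [], [], [], [], [], [], [], [], [], [], [], [], [], [], [], [], [], [], [], [], [], [], [], [], [], [], [], [], [], [], [], [], [], [], [], [], [], [], [], [], [], [], [], [], [], [], [], [], [], [], [], [], [], [], [], [], [], [], [], [], [], [], [], [], [], [], [], [], [], [], [], [], [], [], []], [[], [], [], [], [], [], [], [], [], [], [], [], [], [], [], [], [], [], [], [], [], [], [], [], [], [], [], [], [], [], [], [], [], [], [], [], [], [], [], [], [], [], [], [], [], [], [], [], [], [], [], [], [], [], [], [], [], [], [], [], [], [], [], [], [], [], [], [], [], [], [],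 [], [], [], [], [], [], [], [], [], [], [], [], [], [], [], [], [], [], [], [], [], [], [], [], [], [], [], [], [], [], [], [], [], [], [], [], [], [], [], [], [], [], [], [], [], [], [], [], [], [], [], [], [], [], [], [], []], [[], [], [], [], [], [], [], [], [], [], [], [], [], [], [], [], [], [], [], [], [], [], [], [], [], [], [], [], [], [], [], [], [], [], [], [], [], [], [], [], [], [], [], [], [], [], [], [], [], [], [], [], [], [], [], [], [], [], [], [], [], [], [], [], [], [], [], [], [], [], [], [], [], [], [], [], [], [], [], [], [], [], [], [], [], [], [], [], [], [], [], [], [], [], [], [], [], [], [], [], [], [], [], [], [], [], [], [], [], [], [], [], [], [], [], [], [], [], [], [], [], [], [], [], [], [], [], []], [[], [], [], [], [], [], [], [], [], [], [], [], [], [], [], [], [], [], [], [], [], [], [], [], [], [], [], [], [], [], [], [], [], [], [], [], [], [], [], [], [], [], [], [], [], [], [], [], [], [], [], [], [], [], [], [], [], [], [], [], [], [], [], [], [], [], [], [], [], [], [], [], [], [], [], [], [], [], [], [], [], [], [],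 [], [], [], [], [], [], [], [], [], [], [], [], [], [], [], [], [], [], [], [], [], [], [], [], [], [], [], [], [], [], [], [], [], [], [], [], [], [], [], [], [], [], [], [], []], [[], [1, 2, 4, 8, 16], [1], [], [1, 2, 4, 8, 16], [1, 2, 4, 8, 16], [1], [], [2, 4, 8, 16, 32], [], [], [], [], [], [], [], [2, 4, 8, 16, 32], [], [1], [], [], [], [], [], [2, 4, 8, 16, 32], [], [], [], [], [], [], [], [], [1, 2, 4, 8, 16], [], [], [1, 2, 4, 8, 16], [1, 2, 4, 8, 16], [], [], [2, 4, 8, 16, 32], [], [], [], [], [], [], [], [2, 4, 8, 16, 32], [], [], [], [], [], [1], [], [2, 4, 8, 16, 32], [], [], [], [], [], [], [], [2, 4, 8, 16, 32], [1, 2, 4, 8, 16], [1], [], [1, 2, 4, 8, 16], [1, 2, 4, 8, 16], [1], [], [2, 4, 8, 16, 32], [], [], [], [], [], [], [], [2, 4, 8, 16, 32], [], [1], [], [], [], [], [], [2, 4, 8, 16, 32], [], [], [], [], [], [], [], [2, 4, 8, 16, 32], [1, 2, 4, 8, 16], [], [], [1, 2, 4, 8, 16], [1, 2, 4, 8, 16], [], [], [2, 4, 8, 16, 32], [], [], [], [], [], [], [], [2, 4, 8, 16, 32], [], [], [], [], [], [1], [], [2, 4, 8, 16, 32], [], [], [], [], [], [],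 []], [[], [1, 2, 4, 8, 16], [0], [], [1, 2, 4, 8, 32], [1, 2, 4, 8, 16], [0], [], [1], [], [], [], [], [], [], [], [1], [], [0], [], [], [], [], [], [1], [], [], [], [], [], [], [], [1, 2, 4, 8, 16], [], [], [], [1, 2, 4, 8, 16], [1, 2, 4, 8, 32], [], [], [1], [], [], [], [], [], [], [], [1], [], [], [], [], [], [0], [], [1], [], [], [], [], [], [], [], [1, 2, 4, 8, 32], [1, 2, 4, 8, 16], [0], [], [1, 2, 4, 8, 32], [1, 2, 4, 8, 32], [0], [], [1], [], [], [], [], [], [], [], [1], [], [0], [], [], [], [], [], [1], [], [], [], [], [], [], [], [1, 2, 4, 8, 16], [1, 2, 4, 8, 32], [], [], [1, 2, 4, 8, 32], [1, 2, 4, 8, 32], [], [], [1], [], [], [], [], [], [], [], [1], [], [], [], [], [], [0], [], [1], [], [], [], [], [], [], []], [[], [], [], [], [], [], [], [], [], [], [], [], [], [], [], [], [], [], [], [], [], [], [], [], [], [], [], [], [], [], [], [], [], [], [], [], [], [], [], [], [], [], [], [], [], [], [], [], [], [], [], [], [], [], [], [], [], [], [], [], [], [], [], [], [], [], [], [], [], [], [], [], [], [], [], [], [], [], [], [], [], [], [], [], [],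 [], [], [], [], [], [], [], [], [], [], [], [], [], [], [], [], [], [], [], [], [], [], [], [], [], [], [], [], [], [], [], [], [], [], [], [], [], [], [], [], [], [], []], [[], [], [], [], [], [], [], [], [], [], [], [], [], [], [], [], [], [], [], [], [], [], [], [], [], [], [], [], [], [], [], [], [], [], [], [], [], [], [], [], [], [], [], [], [], [], [], [], [], [], [], [], [], [], [], [], [], [], [], [], [], [], [], [], [], [], [], [], [], [], [], [], [], [], [], [], [], [], [], [], [], [], [], [], [], [], [], [], [], [], [], [], [], [], [], [], [], [], [], [], [], [], [], [], [], [], [], [], [], [], [], [], [], [], [], [], [], [], [], [], [], [], [], [], [], [], [], []], [[], [1, 2, 4, 8, 16], [1], [], [1, 2, 4, 8, 16], [1, 2, 4, 8, 16], [1], [], [1], [], [], [], [], [], [], [], [1], [], [1, 2, 4, 8, 16], [], [], [], [], [], [1], [], [], [], [], [], [], [], [1, 2, 4, 8, 16], [1, 2, 4, 8, 16], [], [], [], [1, 2, 4, 8, 16], [], [], [1], [], [], [], [], [], [], [], [1], [], [], [], [], [], [1, 2, 4, 16, 32], [], [1], [], [], [], [], [], [], [], [1, 2, 4, 8,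 16], [1, 2, 4, 16, 32], [1], [], [1, 2, 4, 8, 16], [1, 2, 4, 8, 16], [1], [], [1], [], [], [], [], [], [], [], [1], [], [1, 2, 4, 16, 32], [], [], [], [], [], [1], [], [], [], [], [], [], [], [1, 2, 4, 8, 16], [1, 2, 4, 8, 16], [], [], [1, 2, 4, 8, 16], [1, 2, 4, 16, 32], [], [], [1], [], [], [], [], [], [], [], [1], [], [], [], [], [], [1, 2, 4, 8, 16], [], [1], [], [], [], [], [], [], []], [[], [1, 2, 4, 8, 16], [0], [], [1, 2, 4, 8, 32], [1, 2, 4, 8, 16], [0], [], [1], [], [], [], [], [], [], [], [1], [], [0], [], [], [], [], [], [1], [], [], [], [], [], [], [], [1, 2, 4, 8, 16], [1, 2, 4, 8, 32], [], [], [1, 2, 4, 8, 16], [], [], [], [1], [], [], [], [], [], [], [], [1], [], [], [], [], [], [0], [], [1], [], [], [], [], [], [], [], [1, 2, 4, 8, 32], [1, 2, 4, 8, 16], [0], [], [1, 2, 8, 128, 256], [1, 2, 4, 8, 16], [0], [], [1], [], [], [], [], [], [], [], [1], [], [0], [], [], [], [], [], [1], [], [], [], [], [], [], [], [1, 2, 4, 8, 16], [1, 2, 8, 128, 256], [], [], [1, 2, 4, 8, 16], [1, 2, 4, 8, 32], [], [], [1], [], [], [], [], [], [], [], [1], [], [],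 [], [], [], [0], [], [1], [], [], [], [], [], [], []], [[], [], [], [], [], [], [], [], [], [], [], [], [], [], [], [], [], [], [], [], [], [], [], [], [], [], [], [], [], [], [], [], [], [], [], [], [], [], [], [], [], [], [], [], [], [], [], [], [], [], [], [], [], [], [], [], [], [], [], [], [], [], [], [], [], [], [], [], [], [], [], [], [], [], [], [], [], [], [], [], [], [], [], [], [], [], [], [], [], [], [], [], [], [], [], [], [], [], [], [], [], [], [], [], [], [], [], [], [], [], [], [], [], [], [], [], [], [], [], [], [], [], [], [], [], [], [], []], [[], [], [], [], [], [], [], [], [], [], [], [], [], [], [], [], [], [], [], [], [], [], [], [], [], [], [], [], [], [], [], [], [], [], [], [], [], [], [], [], [], [], [], [], [], [], [], [], [], [], [], [], [], [], [], [], [], [], [], [], [], [], [], [], [], [], [], [], [], [], [], [], [], [], [], [], [], [], [], [], [], [], [], [], [], [], [], [], [], [], [], [], [], [], [], [], [], [], [], [], [], [], [], [], [], [], [], [], [], [], [], [], [], [], [], [], [], [], [], [], [], [], [], [], [], [], [],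 []], [[], [1], [1], [], [1], [1], [1], [], [2, 4, 8, 16, 32], [], [], [], [], [], [], [], [2, 4, 8, 16, 32], [], [1], [], [], [], [], [], [2, 4, 8, 16, 32], [], [], [], [], [], [], [], [2, 4, 8, 16, 32], [1], [], [], [1], [1], [], [], [], [], [], [], [], [], [], [], [2, 4, 8, 16, 32], [], [], [], [], [], [1], [], [2, 4, 8, 16, 32], [], [], [], [], [], [], [], [2, 4, 8, 16, 32], [1], [1], [], [1], [1], [1], [], [2, 4, 8, 16, 32], [], [], [], [], [], [], [], [2, 4, 8, 16, 32], [], [1], [], [], [], [], [], [2, 4, 8, 16, 32], [], [], [], [], [], [], [], [2, 4, 8, 16, 32], [1], [], [], [1], [1], [], [], [2, 4, 8, 16, 32], [], [], [], [], [], [], [], [2, 4, 8, 16, 32], [], [], [], [], [], [1], [], [2, 4, 8, 16, 32], [], [], [], [], [], [], []], [[], [], [], [], [], [], [], [], [], [], [], [], [], [], [], [], [], [], [], [], [], [], [], [], [], [], [], [], [], [], [], [], [], [], [], [], [], [], [], [], [], [], [], [], [], [], [], [], [], [], [], [], [], [], [], [], [], [], [], [], [], [], [], [], [], [], [], [], [], [], [], [], [], [], [], [], [], [], [], [], [], [],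 [], [], [], [], [], [], [], [], [], [], [], [], [], [], [], [], [], [], [], [], [], [], [], [], [], [], [], [], [], [], [], [], [], [], [], [], [], [], [], [], [], [], [], [], [], []], [[], [], [], [], [], [], [], [], [], [], [], [], [], [], [], [], [], [], [], [], [], [], [], [], [], [], [], [], [], [], [], [], [], [], [], [], [], [], [], [], [], [], [], [], [], [], [], [], [], [], [], [], [], [], [], [], [], [], [], [], [], [], [], [], [], [], [], [], [], [], [], [], [], [], [], [], [], [], [], [], [], [], [], [], [], [], [], [], [], [], [], [], [], [], [], [], [], [], [], [], [], [], [], [], [], [], [], [], [], [], [], [], [], [], [], [], [], [], [], [], [], [], [], [], [], [], [], []], [[], [], [], [], [], [], [], [], [], [], [], [], [], [], [], [], [], [], [], [], [], [], [], [], [], [], [], [], [], [], [], [], [], [], [], [], [], [], [], [], [], [], [], [], [], [], [], [], [], [], [], [], [], [], [], [], [], [], [], [], [], [], [], [], [], [], [], [], [], [], [], [], [], [], [], [], [], [], [], [], [], [], [], [], [], [], [], [], [], [], [], [], [], [],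 [], [], [], [], [], [], [], [], [], [], [], [], [], [], [], [], [], [], [], [], [], [], [], [], [], [], [], [], [], [], [], [], [], []], [[], [], [], [], [], [], [], [], [], [], [], [], [], [], [], [], [], [], [], [], [], [], [], [], [], [], [], [], [], [], [], [], [], [], [], [], [], [], [], [], [], [], [], [], [], [], [], [], [], [], [], [], [], [], [], [], [], [], [], [], [], [], [], [], [], [], [], [], [], [], [], [], [], [], [], [], [], [], [], [], [], [], [], [], [], [], [], [], [], [], [], [], [], [], [], [], [], [], [], [], [], [], [], [], [], [], [], [], [], [], [], [], [], [], [], [], [], [], [], [], [], [], [], [], [], [], [], []], [[], [], [], [], [], [], [], [], [], [], [], [], [], [], [], [], [], [], [], [], [], [], [], [], [], [], [], [], [], [], [], [], [], [], [], [], [], [], [], [], [], [], [], [], [], [], [], [], [], [], [], [], [], [], [], [], [], [], [], [], [], [], [], [], [], [], [], [], [], [], [], [], [], [], [], [], [], [], [], [], [], [], [], [], [], [], [], [], [], [], [], [], [], [], [], [], [], [], [], [], [], [], [], [], [], [],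 [], [], [], [], [], [], [], [], [], [], [], [], [], [], [], [], [], [], [], [], [], []], [[], [], [], [], [], [], [], [], [], [], [], [], [], [], [], [], [], [], [], [], [], [], [], [], [], [], [], [], [], [], [], [], [], [], [], [], [], [], [], [], [], [], [], [], [], [], [], [], [], [], [], [], [], [], [], [], [], [], [], [], [], [], [], [], [], [], [], [], [], [], [], [], [], [], [], [], [], [], [], [], [], [], [], [], [], [], [], [], [], [], [], [], [], [], [], [], [], [], [], [], [], [], [], [], [], [], [], [], [], [], [], [], [], [], [], [], [], [], [], [], [], [], [], [], [], [], [], []], [[], [], [], [], [], [], [], [], [], [], [], [], [], [], [], [], [], [], [], [], [], [], [], [], [], [], [], [], [], [], [], [], [], [], [], [], [], [], [], [], [], [], [], [], [], [], [], [], [], [], [], [], [], [], [], [], [], [], [], [], [], [], [], [], [], [], [], [], [], [], [], [], [], [], [], [], [], [], [], [], [], [], [], [], [], [], [], [], [], [], [], [], [], [], [], [], [], [], [], [], [], [], [], [], [], [], [], [], [], [], [], [], [], [], [], [], [], [],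 [], [], [], [], [], [], [], [], [], []], [[], [1], [1], [], [1], [1], [1, 2, 4, 8, 16], [], [2, 4, 8, 16, 32], [], [], [], [], [], [], [], [2, 4, 8, 16, 32], [], [1], [], [], [], [], [], [2, 4, 8, 16, 32], [], [], [], [], [], [], [], [2, 4, 8, 16, 32], [1], [], [], [1], [1], [], [], [2, 4, 8, 16, 32], [], [], [], [], [], [], [], [], [], [], [], [], [], [1, 2, 4, 8, 16], [], [2, 4, 8, 16, 32], [], [], [], [], [], [], [], [2, 4, 8, 16, 32], [1], [1], [], [1], [1], [1, 2, 4, 8, 16], [], [2, 4, 8, 16, 32], [], [], [], [], [], [], [], [2, 4, 8, 16, 32], [], [1], [], [], [], [], [], [2, 4, 8, 16, 32], [], [], [], [], [], [], [], [2, 4, 8, 16, 32], [1], [], [], [1], [1], [], [], [2, 4, 8, 16, 32], [], [], [], [], [], [], [], [2, 4, 8, 16, 32], [], [], [], [], [], [1, 2, 4, 8, 16], [], [2, 4, 8, 16, 32], [], [], [], [], [], [], []], [[], [], [], [], [], [], [], [], [], [], [], [], [], [], [], [], [], [], [], [], [], [], [], [], [], [], [], [], [], [], [], [], [], [], [], [], [], [], [], [], [], [], [], [], [], [], [], [], [], [], [], [], [], [], [], [], [], [], [], [],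 [], [], [], [], [], [], [], [], [], [], [], [], [], [], [], [], [], [], [], [], [], [], [], [], [], [], [], [], [], [], [], [], [], [], [], [], [], [], [], [], [], [], [], [], [], [], [], [], [], [], [], [], [], [], [], [], [], [], [], [], [], [], [], [], [], [], [], []], [[], [], [], [], [], [], [], [], [], [], [], [], [], [], [], [], [], [], [], [], [], [], [], [], [], [], [], [], [], [], [], [], [], [], [], [], [], [], [], [], [], [], [], [], [], [], [], [], [], [], [], [], [], [], [], [], [], [], [], [], [], [], [], [], [], [], [], [], [], [], [], [], [], [], [], [], [], [], [], [], [], [], [], [], [], [], [], [], [], [], [], [], [], [], [], [], [], [], [], [], [], [], [], [], [], [], [], [], [], [], [], [], [], [], [], [], [], [], [], [], [], [], [], [], [], [], [], []], [[], [], [], [], [], [], [], [], [], [], [], [], [], [], [], [], [], [], [], [], [], [], [], [], [], [], [], [], [], [], [], [], [], [], [], [], [], [], [], [], [], [], [], [], [], [], [], [], [], [], [], [], [], [], [], [], [], [], [], [], [], [], [], [], [], [], [], [], [], [], [], [],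 [], [], [], [], [], [], [], [], [], [], [], [], [], [], [], [], [], [], [], [], [], [], [], [], [], [], [], [], [], [], [], [], [], [], [], [], [], [], [], [], [], [], [], [], [], [], [], [], [], [], [], [], [], [], [], []], [[], [], [], [], [], [], [], [], [], [], [], [], [], [], [], [], [], [], [], [], [], [], [], [], [], [], [], [], [], [], [], [], [], [], [], [], [], [], [], [], [], [], [], [], [], [], [], [], [], [], [], [], [], [], [], [], [], [], [], [], [], [], [], [], [], [], [], [], [], [], [], [], [], [], [], [], [], [], [], [], [], [], [], [], [], [], [], [], [], [], [], [], [], [], [], [], [], [], [], [], [], [], [], [], [], [], [], [], [], [], [], [], [], [], [], [], [], [], [], [], [], [], [], [], [], [], [], []], [[], [], [], [], [], [], [], [], [], [], [], [], [], [], [], [], [], [], [], [], [], [], [], [], [], [], [], [], [], [], [], [], [], [], [], [], [], [], [], [], [], [], [], [], [], [], [], [], [], [], [], [], [], [], [], [], [], [], [], [], [], [], [], [], [], [], [], [], [], [], [], [], [], [], [], [], [], [], [], [], [], [], [], [],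 [], [], [], [], [], [], [], [], [], [], [], [], [], [], [], [], [], [], [], [], [], [], [], [], [], [], [], [], [], [], [], [], [], [], [], [], [], [], [], [], [], [], [], []], [[], [0], [1], [], [1], [0], [1, 2, 4, 8, 16], [], [1], [], [], [], [], [], [], [], [1], [], [1, 2, 4, 8, 16], [], [], [], [], [], [1], [], [], [], [], [], [], [], [1], [0], [], [], [1, 2, 4, 16, 32], [0], [], [], [1], [], [], [], [], [], [], [], [1, 2, 4, 8, 16], [], [], [], [], [], [], [], [1], [], [], [], [], [], [], [], [1, 2, 4, 8, 16], [0], [1], [], [1], [0], [1, 2, 4, 8, 16], [], [1], [], [], [], [], [], [], [], [1], [], [1, 2, 4, 16, 32], [], [], [], [], [], [1], [], [], [], [], [], [], [], [1], [0], [], [], [1, 2, 4, 8, 16], [0], [], [], [1], [], [], [], [], [], [], [], [1, 2, 4, 8, 16], [], [], [], [], [], [1, 2, 4, 8, 16], [], [1], [], [], [], [], [], [], []], [[], [], [], [], [], [], [], [], [], [], [], [], [], [], [], [], [], [], [], [], [], [], [], [], [], [], [], [], [], [], [], [], [], [], [], [], [], [], [], [], [], [], [], [], [], [], [], [], [], [], [], [], [], [], [],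 [], [], [], [], [], [], [], [], [], [], [], [], [], [], [], [], [], [], [], [], [], [], [], [], [], [], [], [], [], [], [], [], [], [], [], [], [], [], [], [], [], [], [], [], [], [], [], [], [], [], [], [], [], [], [], [], [], [], [], [], [], [], [], [], [], [], [], [], [], [], [], [], []], [[], [1], [1], [], [1], [1], [1], [], [2, 4, 8, 16, 32], [], [], [], [], [], [], [], [2, 4, 8, 16, 32], [], [1], [], [], [], [], [], [2, 4, 8, 16, 32], [], [], [], [], [], [], [], [2, 4, 8, 16, 32], [1], [], [], [1], [1], [], [], [2, 4, 8, 16, 32], [], [], [], [], [], [], [], [2, 4, 8, 16, 32], [], [], [], [], [], [1], [], [], [], [], [], [], [], [], [], [2, 4, 8, 16, 32], [1], [1], [], [1], [1], [1], [], [2, 4, 8, 16, 32], [], [], [], [], [], [], [], [2, 4, 8, 16, 32], [], [1], [], [], [], [], [], [2, 4, 8, 16, 32], [], [], [], [], [], [], [], [2, 4, 8, 16, 32], [1], [], [], [1], [1], [], [], [2, 4, 8, 16, 32], [], [], [], [], [], [], [], [2, 4, 8, 16, 32], [], [], [], [], [], [1], [], [2, 4, 8, 16, 32], [], [], [], [], [], [], []], [[], [], [], [], [], [], [], [], [], [],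 [], [], [], [], [], [], [], [], [], [], [], [], [], [], [], [], [], [], [], [], [], [], [], [], [], [], [], [], [], [], [], [], [], [], [], [], [], [], [], [], [], [], [], [], [], [], [], [], [], [], [], [], [], [], [], [], [], [], [], [], [], [], [], [], [], [], [], [], [], [], [], [], [], [], [], [], [], [], [], [], [], [], [], [], [], [], [], [], [], [], [], [], [], [], [], [], [], [], [], [], [], [], [], [], [], [], [], [], [], [], [], [], [], [], [], [], [], []], [[], [], [], [], [], [], [], [], [], [], [], [], [], [], [], [], [], [], [], [], [], [], [], [], [], [], [], [], [], [], [], [], [], [], [], [], [], [], [], [], [], [], [], [], [], [], [], [], [], [], [], [], [], [], [], [], [], [], [], [], [], [], [], [], [], [], [], [], [], [], [], [], [], [], [], [], [], [], [], [], [], [], [], [], [], [], [], [], [], [], [], [], [], [], [], [], [], [], [], [], [], [], [], [], [], [], [], [], [], [], [], [], [], [], [], [], [], [], [], [], [], [], [], [], [], [], [], []], [[], [], [], [], [], [], [], [], [], [], [], [], [], [], [], [], [], [], [], [], [], [],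 [], [], [], [], [], [], [], [], [], [], [], [], [], [], [], [], [], [], [], [], [], [], [], [], [], [], [], [], [], [], [], [], [], [], [], [], [], [], [], [], [], [], [], [], [], [], [], [], [], [], [], [], [], [], [], [], [], [], [], [], [], [], [], [], [], [], [], [], [], [], [], [], [], [], [], [], [], [], [], [], [], [], [], [], [], [], [], [], [], [], [], [], [], [], [], [], [], [], [], [], [], [], [], [], [], []], [[], [], [], [], [], [], [], [], [], [], [], [], [], [], [], [], [], [], [], [], [], [], [], [], [], [], [], [], [], [], [], [], [], [], [], [], [], [], [], [], [], [], [], [], [], [], [], [], [], [], [], [], [], [], [], [], [], [], [], [], [], [], [], [], [], [], [], [], [], [], [], [], [], [], [], [], [], [], [], [], [], [], [], [], [], [], [], [], [], [], [], [], [], [], [], [], [], [], [], [], [], [], [], [], [], [], [], [], [], [], [], [], [], [], [], [], [], [], [], [], [], [], [], [], [], [], [], []], [[], [], [], [], [], [], [], [], [], [], [], [], [], [], [], [], [], [], [], [], [], [], [], [], [], [], [], [], [], [], [], [], [], [],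 [], [], [], [], [], [], [], [], [], [], [], [], [], [], [], [], [], [], [], [], [], [], [], [], [], [], [], [], [], [], [], [], [], [], [], [], [], [], [], [], [], [], [], [], [], [], [], [], [], [], [], [], [], [], [], [], [], [], [], [], [], [], [], [], [], [], [], [], [], [], [], [], [], [], [], [], [], [], [], [], [], [], [], [], [], [], [], [], [], [], [], [], [], []], [[], [], [], [], [], [], [], [], [], [], [], [], [], [], [], [], [], [], [], [], [], [], [], [], [], [], [], [], [], [], [], [], [], [], [], [], [], [], [], [], [], [], [], [], [], [], [], [], [], [], [], [], [], [], [], [], [], [], [], [], [], [], [], [], [], [], [], [], [], [], [], [], [], [], [], [], [], [], [], [], [], [], [], [], [], [], [], [], [], [], [], [], [], [], [], [], [], [], [], [], [], [], [], [], [], [], [], [], [], [], [], [], [], [], [], [], [], [], [], [], [], [], [], [], [], [], [], []], [[], [], [], [], [], [], [], [], [], [], [], [], [], [], [], [], [], [], [], [], [], [], [], [], [], [], [], [], [], [], [], [], [], [], [], [], [], [], [], [], [], [], [], [], [], [],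 [], [], [], [], [], [], [], [], [], [], [], [], [], [], [], [], [], [], [], [], [], [], [], [], [], [], [], [], [], [], [], [], [], [], [], [], [], [], [], [], [], [], [], [], [], [], [], [], [], [], [], [], [], [], [], [], [], [], [], [], [], [], [], [], [], [], [], [], [], [], [], [], [], [], [], [], [], [], [], [], [], []], [[], [1, 2, 4, 8, 16], [2, 4, 8, 32, 64], [], [1, 2, 4, 8, 32], [1, 2, 4, 8, 16], [1, 2, 4, 8, 32], [], [2, 4, 8, 16, 32], [], [], [], [], [], [], [], [2, 4, 8, 16, 32], [], [2, 4, 8, 16, 32], [], [], [], [], [], [2, 4, 8, 16, 32], [], [], [], [], [], [], [], [2, 4, 8, 16, 32], [1, 2, 4, 8, 32], [], [], [1, 2, 4, 8, 16], [1, 2, 4, 8, 32], [], [], [2, 4, 8, 16, 32], [], [], [], [], [], [], [], [2, 4, 8, 16, 32], [], [], [], [], [], [1, 2, 4, 8, 16], [], [2, 4, 8, 16, 32], [], [], [], [], [], [], [], [], [1, 2, 4, 8, 16], [2, 4, 8, 32, 64], [], [1, 2, 4, 8, 32], [1, 2, 4, 8, 16], [1, 2, 4, 8, 32], [], [2, 4, 8, 16, 32], [], [], [], [], [], [], [], [2, 4, 8, 16, 32], [], [2, 4, 8, 16, 32], [], [], [], [], [], [2, 4, 8, 16, 32], [], [], [],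 [], [], [], [], [2, 4, 8, 16, 32], [1, 2, 4, 8, 32], [], [], [1, 2, 4, 8, 16], [1, 2, 4, 8, 32], [], [], [2, 4, 8, 16, 32], [], [], [], [], [], [], [], [2, 4, 8, 16, 32], [], [], [], [], [], [1, 2, 4, 8, 16], [], [2, 4, 8, 16, 32], [], [], [], [], [], [], []], [[], [1, 2, 4, 8, 16], [0], [], [1, 2, 4, 8, 16], [1, 2, 4, 8, 16], [0], [], [1], [], [], [], [], [], [], [], [1], [], [0], [], [], [], [], [], [1], [], [], [], [], [], [], [], [1, 2, 4, 8, 16], [1, 2, 4, 8, 16], [], [], [1, 2, 4, 16, 32], [1, 2, 4, 8, 16], [], [], [1], [], [], [], [], [], [], [], [1], [], [], [], [], [], [0], [], [1], [], [], [], [], [], [], [], [1, 2, 4, 8, 16], [], [0], [], [1, 2, 4, 8, 16], [1, 2, 4, 8, 16], [0], [], [1], [], [], [], [], [], [], [], [1], [], [0], [], [], [], [], [], [1], [], [], [], [], [], [], [], [1, 2, 4, 8, 16], [1, 2, 4, 8, 16], [], [], [1, 2, 4, 8, 16], [1, 2, 4, 16, 32], [], [], [1], [], [], [], [], [], [], [], [1], [], [], [], [], [], [0], [], [1], [], [], [], [], [], [], []], [[], [0], [2, 4, 8, 32, 64], [], [1, 2, 4, 8, 32], [0], [1, 2, 4, 8, 64], [], [1],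 [], [], [], [], [], [], [], [2, 4, 8, 16, 32], [], [2, 4, 8, 16, 32], [], [], [], [], [], [1], [], [], [], [], [], [], [], [1], [0], [], [], [1], [0], [], [], [1], [], [], [], [], [], [], [], [1], [], [], [], [], [], [1], [], [1], [], [], [], [], [], [], [], [2, 4, 8, 32, 64], [0], [], [], [1, 2, 4, 8, 64], [0], [1, 2, 4, 8, 32], [], [1], [], [], [], [], [], [], [], [2, 4, 8, 16, 32], [], [2, 4, 8, 16, 32], [], [], [], [], [], [1], [], [], [], [], [], [], [], [1], [0], [], [], [1], [0], [], [], [1], [], [], [], [], [], [], [], [1], [], [], [], [], [], [1], [], [1], [], [], [], [], [], [], []], [[], [], [], [], [], [], [], [], [], [], [], [], [], [], [], [], [], [], [], [], [], [], [], [], [], [], [], [], [], [], [], [], [], [], [], [], [], [], [], [], [], [], [], [], [], [], [], [], [], [], [], [], [], [], [], [], [], [], [], [], [], [], [], [], [], [], [], [], [], [], [], [], [], [], [], [], [], [], [], [], [], [], [], [], [], [], [], [], [], [], [], [], [], [], [], [], [], [], [], [], [], [], [], [], [], [], [], [], [], [], [], [], [], [], [], [], [], [], [],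 [], [], [], [], [], [], [], [], []], [[], [1, 2, 4, 8, 16], [1, 2, 8, 32, 64], [], [1, 2, 4, 8, 32], [1, 2, 4, 8, 16], [1, 2, 4, 8, 64], [], [1], [], [], [], [], [], [], [], [1], [], [1], [], [], [], [], [], [1], [], [], [], [], [], [], [], [1, 2, 4, 8, 16], [1, 2, 4, 8, 32], [], [], [1, 2, 4, 8, 16], [1, 2, 8, 128, 256], [], [], [1], [], [], [], [], [], [], [], [1], [], [], [], [], [], [1], [], [1], [], [], [], [], [], [], [], [1, 2, 4, 8, 32], [1, 2, 4, 8, 16], [1, 2, 4, 8, 64], [], [], [1, 2, 4, 8, 16], [1, 2, 8, 32, 64], [], [1], [], [], [], [], [], [], [], [1], [], [1], [], [], [], [], [], [1], [], [], [], [], [], [], [], [1, 2, 4, 8, 16], [1, 2, 8, 128, 256], [], [], [1, 2, 4, 8, 16], [1, 2, 4, 8, 32], [], [], [1], [], [], [], [], [], [], [], [1], [], [], [], [], [], [1], [], [1], [], [], [], [], [], [], []], [[], [1, 2, 4, 8, 16], [0], [], [1, 2, 4, 8, 16], [1, 2, 4, 8, 16], [0], [], [1], [], [], [], [], [], [], [], [1], [], [0], [], [], [], [], [], [1], [], [], [], [], [], [], [], [1, 2, 4, 8, 16], [1, 2, 4, 8, 32], [], [], [1, 2, 4, 8, 16], [1, 2, 4,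 8, 16], [], [], [1], [], [], [], [], [], [], [], [1], [], [], [], [], [], [0], [], [1], [], [], [], [], [], [], [], [1, 2, 4, 8, 16], [1, 2, 4, 8, 16], [0], [], [1, 2, 4, 8, 16], [], [0], [], [1], [], [], [], [], [], [], [], [1], [], [0], [], [], [], [], [], [1], [], [], [], [], [], [], [], [1, 2, 4, 8, 16], [1, 2, 4, 8, 16], [], [], [1, 2, 4, 8, 32], [1, 2, 4, 8, 16], [], [], [1], [], [], [], [], [], [], [], [1], [], [], [], [], [], [0], [], [1], [], [], [], [], [], [], []], [[], [0], [1, 2, 8, 32, 64], [], [1, 2, 4, 8, 32], [0], [1, 2, 4, 8, 32], [], [1], [], [], [], [], [], [], [], [1], [], [1], [], [], [], [], [], [1], [], [], [], [], [], [], [], [1], [0], [], [], [1], [0], [], [], [1], [], [], [], [], [], [], [], [1, 2, 4, 8, 16], [], [], [], [], [], [1, 2, 4, 8, 16], [], [1], [], [], [], [], [], [], [], [1, 2, 4, 8, 32], [0], [1, 2, 4, 8, 32], [], [1, 2, 8, 32, 64], [0], [], [], [1], [], [], [], [], [], [], [], [1], [], [1], [], [], [], [], [], [1], [], [], [], [], [], [], [], [1], [0], [], [], [1], [0], [], [], [1], [], [], [], [], [], [], [], [1, 2, 4,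 8, 16], [], [], [], [], [], [1, 2, 4, 8, 16], [], [1], [], [], [], [], [], [], []], [[], [], [], [], [], [], [], [], [], [], [], [], [], [], [], [], [], [], [], [], [], [], [], [], [], [], [], [], [], [], [], [], [], [], [], [], [], [], [], [], [], [], [], [], [], [], [], [], [], [], [], [], [], [], [], [], [], [], [], [], [], [], [], [], [], [], [], [], [], [], [], [], [], [], [], [], [], [], [], [], [], [], [], [], [], [], [], [], [], [], [], [], [], [], [], [], [], [], [], [], [], [], [], [], [], [], [], [], [], [], [], [], [], [], [], [], [], [], [], [], [], [], [], [], [], [], [], []], [[], [1], [1], [], [1], [1], [1], [], [2, 4, 8, 16, 32], [], [], [], [], [], [], [], [2, 4, 8, 16, 32], [], [1], [], [], [], [], [], [2, 4, 8, 16, 32], [], [], [], [], [], [], [], [2, 4, 8, 16, 32], [1], [], [], [1], [1], [], [], [2, 4, 8, 16, 32], [], [], [], [], [], [], [], [2, 4, 8, 16, 32], [], [], [], [], [], [1], [], [2, 4, 8, 16, 32], [], [], [], [], [], [], [], [2, 4, 8, 16, 32], [1], [1], [], [1], [1], [1], [], [], [], [], [], [], [], [], [], [2, 4, 8, 16, 32], [],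 [1], [], [], [], [], [], [2, 4, 8, 16, 32], [], [], [], [], [], [], [], [2, 4, 8, 16, 32], [1], [], [], [1], [1], [], [], [2, 4, 8, 16, 32], [], [], [], [], [], [], [], [2, 4, 8, 16, 32], [], [], [], [], [], [1], [], [2, 4, 8, 16, 32], [], [], [], [], [], [], []], [[], [], [], [], [], [], [], [], [], [], [], [], [], [], [], [], [], [], [], [], [], [], [], [], [], [], [], [], [], [], [], [], [], [], [], [], [], [], [], [], [], [], [], [], [], [], [], [], [], [], [], [], [], [], [], [], [], [], [], [], [], [], [], [], [], [], [], [], [], [], [], [], [], [], [], [], [], [], [], [], [], [], [], [], [], [], [], [], [], [], [], [], [], [], [], [], [], [], [], [], [], [], [], [], [], [], [], [], [], [], [], [], [], [], [], [], [], [], [], [], [], [], [], [], [], [], [], []], [[], [], [], [], [], [], [], [], [], [], [], [], [], [], [], [], [], [], [], [], [], [], [], [], [], [], [], [], [], [], [], [], [], [], [], [], [], [], [], [], [], [], [], [], [], [], [], [], [], [], [], [], [], [], [], [], [], [], [], [], [], [], [], [], [], [], [], [], [], [], [], [], [], [],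 [], [], [], [], [], [], [], [], [], [], [], [], [], [], [], [], [], [], [], [], [], [], [], [], [], [], [], [], [], [], [], [], [], [], [], [], [], [], [], [], [], [], [], [], [], [], [], [], [], [], [], [], [], []], [[], [], [], [], [], [], [], [], [], [], [], [], [], [], [], [], [], [], [], [], [], [], [], [], [], [], [], [], [], [], [], [], [], [], [], [], [], [], [], [], [], [], [], [], [], [], [], [], [], [], [], [], [], [], [], [], [], [], [], [], [], [], [], [], [], [], [], [], [], [], [], [], [], [], [], [], [], [], [], [], [], [], [], [], [], [], [], [], [], [], [], [], [], [], [], [], [], [], [], [], [], [], [], [], [], [], [], [], [], [], [], [], [], [], [], [], [], [], [], [], [], [], [], [], [], [], [], []], [[], [], [], [], [], [], [], [], [], [], [], [], [], [], [], [], [], [], [], [], [], [], [], [], [], [], [], [], [], [], [], [], [], [], [], [], [], [], [], [], [], [], [], [], [], [], [], [], [], [], [], [], [], [], [], [], [], [], [], [], [], [], [], [], [], [], [], [], [], [], [], [], [], [], [], [], [], [], [], [], [], [], [], [], [], [],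 [], [], [], [], [], [], [], [], [], [], [], [], [], [], [], [], [], [], [], [], [], [], [], [], [], [], [], [], [], [], [], [], [], [], [], [], [], [], [], [], [], []], [[], [], [], [], [], [], [], [], [], [], [], [], [], [], [], [], [], [], [], [], [], [], [], [], [], [], [], [], [], [], [], [], [], [], [], [], [], [], [], [], [], [], [], [], [], [], [], [], [], [], [], [], [], [], [], [], [], [], [], [], [], [], [], [], [], [], [], [], [], [], [], [], [], [], [], [], [], [], [], [], [], [], [], [], [], [], [], [], [], [], [], [], [], [], [], [], [], [], [], [], [], [], [], [], [], [], [], [], [], [], [], [], [], [], [], [], [], [], [], [], [], [], [], [], [], [], [], []], [[], [], [], [], [], [], [], [], [], [], [], [], [], [], [], [], [], [], [], [], [], [], [], [], [], [], [], [], [], [], [], [], [], [], [], [], [], [], [], [], [], [], [], [], [], [], [], [], [], [], [], [], [], [], [], [], [], [], [], [], [], [], [], [], [], [], [], [], [], [], [], [], [], [], [], [], [], [], [], [], [], [], [], [], [], [], [], [], [], [], [], [], [], [], [], [], [], [],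 [], [], [], [], [], [], [], [], [], [], [], [], [], [], [], [], [], [], [], [], [], [], [], [], [], [], [], [], [], []], [[], [], [], [], [], [], [], [], [], [], [], [], [], [], [], [], [], [], [], [], [], [], [], [], [], [], [], [], [], [], [], [], [], [], [], [], [], [], [], [], [], [], [], [], [], [], [], [], [], [], [], [], [], [], [], [], [], [], [], [], [], [], [], [], [], [], [], [], [], [], [], [], [], [], [], [], [], [], [], [], [], [], [], [], [], [], [], [], [], [], [], [], [], [], [], [], [], [], [], [], [], [], [], [], [], [], [], [], [], [], [], [], [], [], [], [], [], [], [], [], [], [], [], [], [], [], [], []], [[], [1], [2, 4, 8, 32, 64], [], [1], [1], [1], [], [2, 4, 8, 16, 32], [], [], [], [], [], [], [], [2, 4, 8, 16, 32], [], [2, 4, 8, 16, 32], [], [], [], [], [], [2, 4, 8, 16, 32], [], [], [], [], [], [], [], [2, 4, 8, 16, 32], [1], [], [], [1], [1], [], [], [2, 4, 8, 16, 32], [], [], [], [], [], [], [], [2, 4, 8, 16, 32], [], [], [], [], [], [1], [], [2, 4, 8, 16, 32], [], [], [], [], [], [], [], [2, 4, 8, 16, 32], [1], [2, 4, 8, 16, 32],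 [], [1], [1], [1], [], [2, 4, 8, 16, 32], [], [], [], [], [], [], [], [], [], [2, 4, 8, 32, 64], [], [], [], [], [], [2, 4, 8, 16, 32], [], [], [], [], [], [], [], [2, 4, 8, 16, 32], [1], [], [], [1], [1], [], [], [2, 4, 8, 16, 32], [], [], [], [], [], [], [], [2, 4, 8, 16, 32], [], [], [], [], [], [1], [], [2, 4, 8, 16, 32], [], [], [], [], [], [], []], [[], [], [], [], [], [], [], [], [], [], [], [], [], [], [], [], [], [], [], [], [], [], [], [], [], [], [], [], [], [], [], [], [], [], [], [], [], [], [], [], [], [], [], [], [], [], [], [], [], [], [], [], [], [], [], [], [], [], [], [], [], [], [], [], [], [], [], [], [], [], [], [], [], [], [], [], [], [], [], [], [], [], [], [], [], [], [], [], [], [], [], [], [], [], [], [], [], [], [], [], [], [], [], [], [], [], [], [], [], [], [], [], [], [], [], [], [], [], [], [], [], [], [], [], [], [], [], []], [[], [0], [2, 4, 8, 32, 64], [], [1], [0], [1], [], [1], [], [], [], [], [], [], [], [2, 4, 8, 16, 32], [], [2, 4, 8, 16, 32], [], [], [], [], [], [1], [], [], [], [], [], [], [], [1], [0], [], [], [1, 2,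 4, 16, 32], [0], [], [], [1], [], [], [], [], [], [], [], [1], [], [], [], [], [], [1, 2, 4, 16, 32], [], [1], [], [], [], [], [], [], [], [2, 4, 8, 16, 32], [0], [2, 4, 8, 16, 32], [], [1], [0], [1], [], [1], [], [], [], [], [], [], [], [2, 4, 8, 32, 64], [], [], [], [], [], [], [], [1], [], [], [], [], [], [], [], [1], [0], [], [], [1, 2, 4, 8, 32], [0], [], [], [1], [], [], [], [], [], [], [], [1], [], [], [], [], [], [1, 2, 4, 8, 32], [], [1], [], [], [], [], [], [], []], [[], [], [], [], [], [], [], [], [], [], [], [], [], [], [], [], [], [], [], [], [], [], [], [], [], [], [], [], [], [], [], [], [], [], [], [], [], [], [], [], [], [], [], [], [], [], [], [], [], [], [], [], [], [], [], [], [], [], [], [], [], [], [], [], [], [], [], [], [], [], [], [], [], [], [], [], [], [], [], [], [], [], [], [], [], [], [], [], [], [], [], [], [], [], [], [], [], [], [], [], [], [], [], [], [], [], [], [], [], [], [], [], [], [], [], [], [], [], [], [], [], [], [], [], [], [], [], []], [[], [], [], [], [], [], [], [], [], [], [], [], [], [], [], [], [], [], [], [],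 [], [], [], [], [], [], [], [], [], [], [], [], [], [], [], [], [], [], [], [], [], [], [], [], [], [], [], [], [], [], [], [], [], [], [], [], [], [], [], [], [], [], [], [], [], [], [], [], [], [], [], [], [], [], [], [], [], [], [], [], [], [], [], [], [], [], [], [], [], [], [], [], [], [], [], [], [], [], [], [], [], [], [], [], [], [], [], [], [], [], [], [], [], [], [], [], [], [], [], [], [], [], [], [], [], [], [], []], [[], [], [], [], [], [], [], [], [], [], [], [], [], [], [], [], [], [], [], [], [], [], [], [], [], [], [], [], [], [], [], [], [], [], [], [], [], [], [], [], [], [], [], [], [], [], [], [], [], [], [], [], [], [], [], [], [], [], [], [], [], [], [], [], [], [], [], [], [], [], [], [], [], [], [], [], [], [], [], [], [], [], [], [], [], [], [], [], [], [], [], [], [], [], [], [], [], [], [], [], [], [], [], [], [], [], [], [], [], [], [], [], [], [], [], [], [], [], [], [], [], [], [], [], [], [], [], []], [[], [], [], [], [], [], [], [], [], [], [], [], [], [], [], [], [], [], [], [], [], [], [], [], [], [], [], [], [], [], [], [],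 [], [], [], [], [], [], [], [], [], [], [], [], [], [], [], [], [], [], [], [], [], [], [], [], [], [], [], [], [], [], [], [], [], [], [], [], [], [], [], [], [], [], [], [], [], [], [], [], [], [], [], [], [], [], [], [], [], [], [], [], [], [], [], [], [], [], [], [], [], [], [], [], [], [], [], [], [], [], [], [], [], [], [], [], [], [], [], [], [], [], [], [], [], [], [], []], [[], [], [], [], [], [], [], [], [], [], [], [], [], [], [], [], [], [], [], [], [], [], [], [], [], [], [], [], [], [], [], [], [], [], [], [], [], [], [], [], [], [], [], [], [], [], [], [], [], [], [], [], [], [], [], [], [], [], [], [], [], [], [], [], [], [], [], [], [], [], [], [], [], [], [], [], [], [], [], [], [], [], [], [], [], [], [], [], [], [], [], [], [], [], [], [], [], [], [], [], [], [], [], [], [], [], [], [], [], [], [], [], [], [], [], [], [], [], [], [], [], [], [], [], [], [], [], []], [[], [1], [1], [], [1], [1], [1], [], [2, 4, 8, 16, 32], [], [], [], [], [], [], [], [2, 4, 8, 16, 32], [], [1], [], [], [], [], [], [2, 4, 8, 16, 32], [], [], [], [], [], [], [],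 [2, 4, 8, 16, 32], [1], [], [], [1], [1], [], [], [2, 4, 8, 16, 32], [], [], [], [], [], [], [], [2, 4, 8, 16, 32], [], [], [], [], [], [1], [], [2, 4, 8, 16, 32], [], [], [], [], [], [], [], [2, 4, 8, 16, 32], [1], [1], [], [1], [1], [1], [], [2, 4, 8, 16, 32], [], [], [], [], [], [], [], [2, 4, 8, 16, 32], [], [1], [], [], [], [], [], [], [], [], [], [], [], [], [], [2, 4, 8, 16, 32], [1], [], [], [1], [1], [], [], [2, 4, 8, 16, 32], [], [], [], [], [], [], [], [2, 4, 8, 16, 32], [], [], [], [], [], [1], [], [2, 4, 8, 16, 32], [], [], [], [], [], [], []], [[], [], [], [], [], [], [], [], [], [], [], [], [], [], [], [], [], [], [], [], [], [], [], [], [], [], [], [], [], [], [], [], [], [], [], [], [], [], [], [], [], [], [], [], [], [], [], [], [], [], [], [], [], [], [], [], [], [], [], [], [], [], [], [], [], [], [], [], [], [], [], [], [], [], [], [], [], [], [], [], [], [], [], [], [], [], [], [], [], [], [], [], [], [], [], [], [], [], [], [], [], [], [], [], [], [], [], [], [], [], [], [], [], [], [], [], [], [], [], [], [], [], [], [], [], [], [], []],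 [[], [], [], [], [], [], [], [], [], [], [], [], [], [], [], [], [], [], [], [], [], [], [], [], [], [], [], [], [], [], [], [], [], [], [], [], [], [], [], [], [], [], [], [], [], [], [], [], [], [], [], [], [], [], [], [], [], [], [], [], [], [], [], [], [], [], [], [], [], [], [], [], [], [], [], [], [], [], [], [], [], [], [], [], [], [], [], [], [], [], [], [], [], [], [], [], [], [], [], [], [], [], [], [], [], [], [], [], [], [], [], [], [], [], [], [], [], [], [], [], [], [], [], [], [], [], [], []], [[], [], [], [], [], [], [], [], [], [], [], [], [], [], [], [], [], [], [], [], [], [], [], [], [], [], [], [], [], [], [], [], [], [], [], [], [], [], [], [], [], [], [], [], [], [], [], [], [], [], [], [], [], [], [], [], [], [], [], [], [], [], [], [], [], [], [], [], [], [], [], [], [], [], [], [], [], [], [], [], [], [], [], [], [], [], [], [], [], [], [], [], [], [], [], [], [], [], [], [], [], [], [], [], [], [], [], [], [], [], [], [], [], [], [], [], [], [], [], [], [], [], [], [], [], [], [], []], [[], [], [], [], [], [], [], [], [], [], [], [],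 [], [], [], [], [], [], [], [], [], [], [], [], [], [], [], [], [], [], [], [], [], [], [], [], [], [], [], [], [], [], [], [], [], [], [], [], [], [], [], [], [], [], [], [], [], [], [], [], [], [], [], [], [], [], [], [], [], [], [], [], [], [], [], [], [], [], [], [], [], [], [], [], [], [], [], [], [], [], [], [], [], [], [], [], [], [], [], [], [], [], [], [], [], [], [], [], [], [], [], [], [], [], [], [], [], [], [], [], [], [], [], [], [], [], [], []], [[], [], [], [], [], [], [], [], [], [], [], [], [], [], [], [], [], [], [], [], [], [], [], [], [], [], [], [], [], [], [], [], [], [], [], [], [], [], [], [], [], [], [], [], [], [], [], [], [], [], [], [], [], [], [], [], [], [], [], [], [], [], [], [], [], [], [], [], [], [], [], [], [], [], [], [], [], [], [], [], [], [], [], [], [], [], [], [], [], [], [], [], [], [], [], [], [], [], [], [], [], [], [], [], [], [], [], [], [], [], [], [], [], [], [], [], [], [], [], [], [], [], [], [], [], [], [], []], [[], [], [], [], [], [], [], [], [], [], [], [], [], [], [], [], [], [], [], [], [], [], [], [],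 [], [], [], [], [], [], [], [], [], [], [], [], [], [], [], [], [], [], [], [], [], [], [], [], [], [], [], [], [], [], [], [], [], [], [], [], [], [], [], [], [], [], [], [], [], [], [], [], [], [], [], [], [], [], [], [], [], [], [], [], [], [], [], [], [], [], [], [], [], [], [], [], [], [], [], [], [], [], [], [], [], [], [], [], [], [], [], [], [], [], [], [], [], [], [], [], [], [], [], [], [], [], [], []], [[], [], [], [], [], [], [], [], [], [], [], [], [], [], [], [], [], [], [], [], [], [], [], [], [], [], [], [], [], [], [], [], [], [], [], [], [], [], [], [], [], [], [], [], [], [], [], [], [], [], [], [], [], [], [], [], [], [], [], [], [], [], [], [], [], [], [], [], [], [], [], [], [], [], [], [], [], [], [], [], [], [], [], [], [], [], [], [], [], [], [], [], [], [], [], [], [], [], [], [], [], [], [], [], [], [], [], [], [], [], [], [], [], [], [], [], [], [], [], [], [], [], [], [], [], [], [], []], [[], [1, 2, 4, 8, 16], [1], [], [1, 2, 4, 8, 16], [1, 2, 4, 8, 16], [1], [], [2, 4, 8, 16, 32], [], [], [], [], [], [], [], [2, 4, 8, 16, 32], [],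 [1], [], [], [], [], [], [2, 4, 8, 16, 32], [], [], [], [], [], [], [], [2, 4, 8, 16, 32], [1, 2, 4, 8, 16], [], [], [1, 2, 4, 8, 16], [1, 2, 4, 8, 16], [], [], [2, 4, 8, 16, 32], [], [], [], [], [], [], [], [2, 4, 8, 16, 32], [], [], [], [], [], [1], [], [2, 4, 8, 16, 32], [], [], [], [], [], [], [], [2, 4, 8, 16, 32], [1, 2, 4, 8, 16], [1], [], [1, 2, 4, 8, 16], [1, 2, 4, 8, 16], [1], [], [2, 4, 8, 16, 32], [], [], [], [], [], [], [], [2, 4, 8, 16, 32], [], [1], [], [], [], [], [], [2, 4, 8, 16, 32], [], [], [], [], [], [], [], [], [1, 2, 4, 8, 16], [], [], [1, 2, 4, 8, 16], [1, 2, 4, 8, 16], [], [], [2, 4, 8, 16, 32], [], [], [], [], [], [], [], [2, 4, 8, 16, 32], [], [], [], [], [], [1], [], [2, 4, 8, 16, 32], [], [], [], [], [], [], []], [[], [1, 2, 4, 8, 16], [0], [], [1, 2, 4, 8, 32], [1, 2, 4, 8, 16], [0], [], [1], [], [], [], [], [], [], [], [1], [], [0], [], [], [], [], [], [1], [], [], [], [], [], [], [], [1, 2, 4, 8, 16], [1, 2, 4, 8, 32], [], [], [1, 2, 4, 8, 16], [1, 2, 8, 128, 256], [], [], [1], [], [], [], [], [], [], [], [1], [], [], [], [], [],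 [0], [], [1], [], [], [], [], [], [], [], [1, 2, 4, 8, 32], [1, 2, 4, 8, 16], [0], [], [1, 2, 8, 128, 256], [1, 2, 4, 8, 16], [0], [], [1], [], [], [], [], [], [], [], [1], [], [0], [], [], [], [], [], [1], [], [], [], [], [], [], [], [1, 2, 4, 8, 16], [], [], [], [1, 2, 4, 8, 16], [1, 2, 4, 8, 32], [], [], [1], [], [], [], [], [], [], [], [1], [], [], [], [], [], [0], [], [1], [], [], [], [], [], [], []], [[], [], [], [], [], [], [], [], [], [], [], [], [], [], [], [], [], [], [], [], [], [], [], [], [], [], [], [], [], [], [], [], [], [], [], [], [], [], [], [], [], [], [], [], [], [], [], [], [], [], [], [], [], [], [], [], [], [], [], [], [], [], [], [], [], [], [], [], [], [], [], [], [], [], [], [], [], [], [], [], [], [], [], [], [], [], [], [], [], [], [], [], [], [], [], [], [], [], [], [], [], [], [], [], [], [], [], [], [], [], [], [], [], [], [], [], [], [], [], [], [], [], [], [], [], [], [], []], [[], [], [], [], [], [], [], [], [], [], [], [], [], [], [], [], [], [], [], [], [], [], [], [], [], [], [], [], [], [], [], [], [], [], [], [], [], [],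 [], [], [], [], [], [], [], [], [], [], [], [], [], [], [], [], [], [], [], [], [], [], [], [], [], [], [], [], [], [], [], [], [], [], [], [], [], [], [], [], [], [], [], [], [], [], [], [], [], [], [], [], [], [], [], [], [], [], [], [], [], [], [], [], [], [], [], [], [], [], [], [], [], [], [], [], [], [], [], [], [], [], [], [], [], [], [], [], [], []], [[], [1, 2, 4, 8, 16], [1], [], [1, 2, 4, 8, 16], [1, 2, 4, 8, 16], [1], [], [1], [], [], [], [], [], [], [], [1], [], [1, 2, 4, 8, 16], [], [], [], [], [], [1], [], [], [], [], [], [], [], [1, 2, 4, 8, 16], [1, 2, 4, 8, 32], [], [], [1, 2, 4, 8, 16], [1, 2, 4, 8, 16], [], [], [1], [], [], [], [], [], [], [], [1], [], [], [], [], [], [1, 2, 4, 8, 16], [], [1], [], [], [], [], [], [], [], [1, 2, 4, 8, 16], [1, 2, 4, 8, 16], [1], [], [1, 2, 4, 8, 16], [1, 2, 4, 8, 32], [1], [], [1], [], [], [], [], [], [], [], [1], [], [1, 2, 4, 8, 32], [], [], [], [], [], [1], [], [], [], [], [], [], [], [1, 2, 4, 8, 16], [1, 2, 4, 8, 16], [], [], [], [1, 2, 4, 8, 16], [], [], [1], [], [], [], [], [], [], [], [1], [], [], [],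 [], [], [1, 2, 4, 8, 32], [], [1], [], [], [], [], [], [], []], [[], [1, 2, 4, 8, 16], [0], [], [1, 2, 4, 8, 32], [1, 2, 4, 8, 16], [0], [], [1], [], [], [], [], [], [], [], [1], [], [0], [], [], [], [], [], [1], [], [], [], [], [], [], [], [1, 2, 4, 8, 16], [1, 2, 4, 8, 32], [], [], [1, 2, 4, 16, 32], [1, 2, 4, 8, 32], [], [], [1], [], [], [], [], [], [], [], [1], [], [], [], [], [], [0], [], [1], [], [], [], [], [], [], [], [1, 2, 4, 8, 32], [1, 2, 4, 16, 32], [0], [], [1, 2, 4, 8, 32], [1, 2, 4, 8, 16], [0], [], [1], [], [], [], [], [], [], [], [1], [], [0], [], [], [], [], [], [1], [], [], [], [], [], [], [], [1, 2, 4, 8, 16], [1, 2, 4, 8, 32], [], [], [1, 2, 4, 8, 16], [], [], [], [1], [], [], [], [], [], [], [], [1], [], [], [], [], [], [0], [], [1], [], [], [], [], [], [], []], [[], [], [], [], [], [], [], [], [], [], [], [], [], [], [], [], [], [], [], [], [], [], [], [], [], [], [], [], [], [], [], [], [], [], [], [], [], [], [], [], [], [], [], [], [], [], [], [], [], [], [], [], [], [], [], [], [], [], [], [], [], [], [], [], [], [], [], [], [], [],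 [], [], [], [], [], [], [], [], [], [], [], [], [], [], [], [], [], [], [], [], [], [], [], [], [], [], [], [], [], [], [], [], [], [], [], [], [], [], [], [], [], [], [], [], [], [], [], [], [], [], [], [], [], [], [], [], [], []], [[], [], [], [], [], [], [], [], [], [], [], [], [], [], [], [], [], [], [], [], [], [], [], [], [], [], [], [], [], [], [], [], [], [], [], [], [], [], [], [], [], [], [], [], [], [], [], [], [], [], [], [], [], [], [], [], [], [], [], [], [], [], [], [], [], [], [], [], [], [], [], [], [], [], [], [], [], [], [], [], [], [], [], [], [], [], [], [], [], [], [], [], [], [], [], [], [], [], [], [], [], [], [], [], [], [], [], [], [], [], [], [], [], [], [], [], [], [], [], [], [], [], [], [], [], [], [], []], [[], [1], [1], [], [1], [1], [1], [], [2, 4, 8, 16, 32], [], [], [], [], [], [], [], [2, 4, 8, 16, 32], [], [1], [], [], [], [], [], [2, 4, 8, 16, 32], [], [], [], [], [], [], [], [2, 4, 8, 16, 32], [1], [], [], [1], [1], [], [], [2, 4, 8, 16, 32], [], [], [], [], [], [], [], [2, 4, 8, 16, 32], [], [], [], [], [], [1], [], [2,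 4, 8, 16, 32], [], [], [], [], [], [], [], [2, 4, 8, 16, 32], [1], [1], [], [1], [1], [1], [], [2, 4, 8, 16, 32], [], [], [], [], [], [], [], [2, 4, 8, 16, 32], [], [1], [], [], [], [], [], [2, 4, 8, 16, 32], [], [], [], [], [], [], [], [2, 4, 8, 16, 32], [1], [], [], [1], [1], [], [], [], [], [], [], [], [], [], [], [2, 4, 8, 16, 32], [], [], [], [], [], [1], [], [2, 4, 8, 16, 32], [], [], [], [], [], [], []], [[], [], [], [], [], [], [], [], [], [], [], [], [], [], [], [], [], [], [], [], [], [], [], [], [], [], [], [], [], [], [], [], [], [], [], [], [], [], [], [], [], [], [], [], [], [], [], [], [], [], [], [], [], [], [], [], [], [], [], [], [], [], [], [], [], [], [], [], [], [], [], [], [], [], [], [], [], [], [], [], [], [], [], [], [], [], [], [], [], [], [], [], [], [], [], [], [], [], [], [], [], [], [], [], [], [], [], [], [], [], [], [], [], [], [], [], [], [], [], [], [], [], [], [], [], [], [], []], [[], [], [], [], [], [], [], [], [], [], [], [], [], [], [], [], [], [], [], [], [], [], [], [], [], [], [], [], [], [], [], [], [], [], [], [], [],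 [], [], [], [], [], [], [], [], [], [], [], [], [], [], [], [], [], [], [], [], [], [], [], [], [], [], [], [], [], [], [], [], [], [], [], [], [], [], [], [], [], [], [], [], [], [], [], [], [], [], [], [], [], [], [], [], [], [], [], [], [], [], [], [], [], [], [], [], [], [], [], [], [], [], [], [], [], [], [], [], [], [], [], [], [], [], [], [], [], [], []], [[], [], [], [], [], [], [], [], [], [], [], [], [], [], [], [], [], [], [], [], [], [], [], [], [], [], [], [], [], [], [], [], [], [], [], [], [], [], [], [], [], [], [], [], [], [], [], [], [], [], [], [], [], [], [], [], [], [], [], [], [], [], [], [], [], [], [], [], [], [], [], [], [], [], [], [], [], [], [], [], [], [], [], [], [], [], [], [], [], [], [], [], [], [], [], [], [], [], [], [], [], [], [], [], [], [], [], [], [], [], [], [], [], [], [], [], [], [], [], [], [], [], [], [], [], [], [], []], [[], [], [], [], [], [], [], [], [], [], [], [], [], [], [], [], [], [], [], [], [], [], [], [], [], [], [], [], [], [], [], [], [], [], [], [], [], [], [], [], [], [], [], [], [], [], [], [], [],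 [], [], [], [], [], [], [], [], [], [], [], [], [], [], [], [], [], [], [], [], [], [], [], [], [], [], [], [], [], [], [], [], [], [], [], [], [], [], [], [], [], [], [], [], [], [], [], [], [], [], [], [], [], [], [], [], [], [], [], [], [], [], [], [], [], [], [], [], [], [], [], [], [], [], [], [], [], [], []], [[], [], [], [], [], [], [], [], [], [], [], [], [], [], [], [], [], [], [], [], [], [], [], [], [], [], [], [], [], [], [], [], [], [], [], [], [], [], [], [], [], [], [], [], [], [], [], [], [], [], [], [], [], [], [], [], [], [], [], [], [], [], [], [], [], [], [], [], [], [], [], [], [], [], [], [], [], [], [], [], [], [], [], [], [], [], [], [], [], [], [], [], [], [], [], [], [], [], [], [], [], [], [], [], [], [], [], [], [], [], [], [], [], [], [], [], [], [], [], [], [], [], [], [], [], [], [], []], [[], [], [], [], [], [], [], [], [], [], [], [], [], [], [], [], [], [], [], [], [], [], [], [], [], [], [], [], [], [], [], [], [], [], [], [], [], [], [], [], [], [], [], [], [], [], [], [], [], [], [], [], [], [], [], [], [], [], [], [], [],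 [], [], [], [], [], [], [], [], [], [], [], [], [], [], [], [], [], [], [], [], [], [], [], [], [], [], [], [], [], [], [], [], [], [], [], [], [], [], [], [], [], [], [], [], [], [], [], [], [], [], [], [], [], [], [], [], [], [], [], [], [], [], [], [], [], [], []], [[], [], [], [], [], [], [], [], [], [], [], [], [], [], [], [], [], [], [], [], [], [], [], [], [], [], [], [], [], [], [], [], [], [], [], [], [], [], [], [], [], [], [], [], [], [], [], [], [], [], [], [], [], [], [], [], [], [], [], [], [], [], [], [], [], [], [], [], [], [], [], [], [], [], [], [], [], [], [], [], [], [], [], [], [], [], [], [], [], [], [], [], [], [], [], [], [], [], [], [], [], [], [], [], [], [], [], [], [], [], [], [], [], [], [], [], [], [], [], [], [], [], [], [], [], [], [], []], [[], [1], [1], [], [1], [1], [1, 2, 4, 8, 16], [], [2, 4, 8, 16, 32], [], [], [], [], [], [], [], [2, 4, 8, 16, 32], [], [1], [], [], [], [], [], [2, 4, 8, 16, 32], [], [], [], [], [], [], [], [2, 4, 8, 16, 32], [1], [], [], [1], [1], [], [], [2, 4, 8, 16, 32], [], [], [], [], [], [], [], [2,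 4, 8, 16, 32], [], [], [], [], [], [1, 2, 4, 8, 16], [], [2, 4, 8, 16, 32], [], [], [], [], [], [], [], [2, 4, 8, 16, 32], [1], [1], [], [1], [1], [1, 2, 4, 8, 16], [], [2, 4, 8, 16, 32], [], [], [], [], [], [], [], [2, 4, 8, 16, 32], [], [1], [], [], [], [], [], [2, 4, 8, 16, 32], [], [], [], [], [], [], [], [2, 4, 8, 16, 32], [1], [], [], [1], [1], [], [], [2, 4, 8, 16, 32], [], [], [], [], [], [], [], [], [], [], [], [], [], [1, 2, 4, 8, 16], [], [2, 4, 8, 16, 32], [], [], [], [], [], [], []], [[], [], [], [], [], [], [], [], [], [], [], [], [], [], [], [], [], [], [], [], [], [], [], [], [], [], [], [], [], [], [], [], [], [], [], [], [], [], [], [], [], [], [], [], [], [], [], [], [], [], [], [], [], [], [], [], [], [], [], [], [], [], [], [], [], [], [], [], [], [], [], [], [], [], [], [], [], [], [], [], [], [], [], [], [], [], [], [], [], [], [], [], [], [], [], [], [], [], [], [], [], [], [], [], [], [], [], [], [], [], [], [], [], [], [], [], [], [], [], [], [], [], [], [], [], [], [], []], [[], [], [], [], [], [], [], [], [], [], [], [], [], [], [],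 [], [], [], [], [], [], [], [], [], [], [], [], [], [], [], [], [], [], [], [], [], [], [], [], [], [], [], [], [], [], [], [], [], [], [], [], [], [], [], [], [], [], [], [], [], [], [], [], [], [], [], [], [], [], [], [], [], [], [], [], [], [], [], [], [], [], [], [], [], [], [], [], [], [], [], [], [], [], [], [], [], [], [], [], [], [], [], [], [], [], [], [], [], [], [], [], [], [], [], [], [], [], [], [], [], [], [], [], [], [], [], [], []], [[], [], [], [], [], [], [], [], [], [], [], [], [], [], [], [], [], [], [], [], [], [], [], [], [], [], [], [], [], [], [], [], [], [], [], [], [], [], [], [], [], [], [], [], [], [], [], [], [], [], [], [], [], [], [], [], [], [], [], [], [], [], [], [], [], [], [], [], [], [], [], [], [], [], [], [], [], [], [], [], [], [], [], [], [], [], [], [], [], [], [], [], [], [], [], [], [], [], [], [], [], [], [], [], [], [], [], [], [], [], [], [], [], [], [], [], [], [], [], [], [], [], [], [], [], [], [], []], [[], [], [], [], [], [], [], [], [], [], [], [], [], [], [], [], [], [], [], [], [], [], [], [], [], [], [],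 [], [], [], [], [], [], [], [], [], [], [], [], [], [], [], [], [], [], [], [], [], [], [], [], [], [], [], [], [], [], [], [], [], [], [], [], [], [], [], [], [], [], [], [], [], [], [], [], [], [], [], [], [], [], [], [], [], [], [], [], [], [], [], [], [], [], [], [], [], [], [], [], [], [], [], [], [], [], [], [], [], [], [], [], [], [], [], [], [], [], [], [], [], [], [], [], [], [], [], [], []], [[], [], [], [], [], [], [], [], [], [], [], [], [], [], [], [], [], [], [], [], [], [], [], [], [], [], [], [], [], [], [], [], [], [], [], [], [], [], [], [], [], [], [], [], [], [], [], [], [], [], [], [], [], [], [], [], [], [], [], [], [], [], [], [], [], [], [], [], [], [], [], [], [], [], [], [], [], [], [], [], [], [], [], [], [], [], [], [], [], [], [], [], [], [], [], [], [], [], [], [], [], [], [], [], [], [], [], [], [], [], [], [], [], [], [], [], [], [], [], [], [], [], [], [], [], [], [], []], [[], [0], [1], [], [1], [0], [1, 2, 4, 8, 16], [], [1], [], [], [], [], [], [], [], [1], [], [1, 2, 4, 8, 16], [], [], [], [], [], [1], [], [], [], [], [], [],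 [], [1], [0], [], [], [1, 2, 4, 8, 16], [0], [], [], [1], [], [], [], [], [], [], [], [1, 2, 4, 8, 16], [], [], [], [], [], [1, 2, 4, 8, 16], [], [1], [], [], [], [], [], [], [], [1, 2, 4, 8, 16], [0], [1], [], [1], [0], [1, 2, 4, 8, 16], [], [1], [], [], [], [], [], [], [], [1], [], [1, 2, 4, 8, 32], [], [], [], [], [], [1], [], [], [], [], [], [], [], [1], [0], [], [], [1, 2, 4, 8, 32], [0], [], [], [1], [], [], [], [], [], [], [], [1, 2, 4, 8, 16], [], [], [], [], [], [], [], [1], [], [], [], [], [], [], []], [[], [], [], [], [], [], [], [], [], [], [], [], [], [], [], [], [], [], [], [], [], [], [], [], [], [], [], [], [], [], [], [], [], [], [], [], [], [], [], [], [], [], [], [], [], [], [], [], [], [], [], [], [], [], [], [], [], [], [], [], [], [], [], [], [], [], [], [], [], [], [], [], [], [], [], [], [], [], [], [], [], [], [], [], [], [], [], [], [], [], [], [], [], [], [], [], [], [], [], [], [], [], [], [], [], [], [], [], [], [], [], [], [], [], [], [], [], [], [], [], [], [], [], [], [], [], [], []], [[], [1], [1], [], [1], [1], [1], [], [2, 4,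 8, 16, 32], [], [], [], [], [], [], [], [2, 4, 8, 16, 32], [], [1], [], [], [], [], [], [2, 4, 8, 16, 32], [], [], [], [], [], [], [], [2, 4, 8, 16, 32], [1], [], [], [1], [1], [], [], [2, 4, 8, 16, 32], [], [], [], [], [], [], [], [2, 4, 8, 16, 32], [], [], [], [], [], [1], [], [2, 4, 8, 16, 32], [], [], [], [], [], [], [], [2, 4, 8, 16, 32], [1], [1], [], [1], [1], [1], [], [2, 4, 8, 16, 32], [], [], [], [], [], [], [], [2, 4, 8, 16, 32], [], [1], [], [], [], [], [], [2, 4, 8, 16, 32], [], [], [], [], [], [], [], [2, 4, 8, 16, 32], [1], [], [], [1], [1], [], [], [2, 4, 8, 16, 32], [], [], [], [], [], [], [], [2, 4, 8, 16, 32], [], [], [], [], [], [1], [], [], [], [], [], [], [], [], []], [[], [], [], [], [], [], [], [], [], [], [], [], [], [], [], [], [], [], [], [], [], [], [], [], [], [], [], [], [], [], [], [], [], [], [], [], [], [], [], [], [], [], [], [], [], [], [], [], [], [], [], [], [], [], [], [], [], [], [], [], [], [], [], [], [], [], [], [], [], [], [], [], [], [], [], [], [], [], [], [], [], [], [], [], [], [], [], [], [], [], [], [], [], [],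 [], [], [], [], [], [], [], [], [], [], [], [], [], [], [], [], [], [], [], [], [], [], [], [], [], [], [], [], [], [], [], [], [], []], [[], [], [], [], [], [], [], [], [], [], [], [], [], [], [], [], [], [], [], [], [], [], [], [], [], [], [], [], [], [], [], [], [], [], [], [], [], [], [], [], [], [], [], [], [], [], [], [], [], [], [], [], [], [], [], [], [], [], [], [], [], [], [], [], [], [], [], [], [], [], [], [], [], [], [], [], [], [], [], [], [], [], [], [], [], [], [], [], [], [], [], [], [], [], [], [], [], [], [], [], [], [], [], [], [], [], [], [], [], [], [], [], [], [], [], [], [], [], [], [], [], [], [], [], [], [], [], []], [[], [], [], [], [], [], [], [], [], [], [], [], [], [], [], [], [], [], [], [], [], [], [], [], [], [], [], [], [], [], [], [], [], [], [], [], [], [], [], [], [], [], [], [], [], [], [], [], [], [], [], [], [], [], [], [], [], [], [], [], [], [], [], [], [], [], [], [], [], [], [], [], [], [], [], [], [], [], [], [], [], [], [], [], [], [], [], [], [], [], [], [], [], [], [], [], [], [], [], [], [], [], [], [], [], [],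 [], [], [], [], [], [], [], [], [], [], [], [], [], [], [], [], [], [], [], [], [], []], [[], [], [], [], [], [], [], [], [], [], [], [], [], [], [], [], [], [], [], [], [], [], [], [], [], [], [], [], [], [], [], [], [], [], [], [], [], [], [], [], [], [], [], [], [], [], [], [], [], [], [], [], [], [], [], [], [], [], [], [], [], [], [], [], [], [], [], [], [], [], [], [], [], [], [], [], [], [], [], [], [], [], [], [], [], [], [], [], [], [], [], [], [], [], [], [], [], [], [], [], [], [], [], [], [], [], [], [], [], [], [], [], [], [], [], [], [], [], [], [], [], [], [], [], [], [], [], []], [[], [], [], [], [], [], [], [], [], [], [], [], [], [], [], [], [], [], [], [], [], [], [], [], [], [], [], [], [], [], [], [], [], [], [], [], [], [], [], [], [], [], [], [], [], [], [], [], [], [], [], [], [], [], [], [], [], [], [], [], [], [], [], [], [], [], [], [], [], [], [], [], [], [], [], [], [], [], [], [], [], [], [], [], [], [], [], [], [], [], [], [], [], [], [], [], [], [], [], [], [], [], [], [], [], [], [], [], [], [], [], [], [], [], [], [], [], [],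 [], [], [], [], [], [], [], [], [], []], [[], [], [], [], [], [], [], [], [], [], [], [], [], [], [], [], [], [], [], [], [], [], [], [], [], [], [], [], [], [], [], [], [], [], [], [], [], [], [], [], [], [], [], [], [], [], [], [], [], [], [], [], [], [], [], [], [], [], [], [], [], [], [], [], [], [], [], [], [], [], [], [], [], [], [], [], [], [], [], [], [], [], [], [], [], [], [], [], [], [], [], [], [], [], [], [], [], [], [], [], [], [], [], [], [], [], [], [], [], [], [], [], [], [], [], [], [], [], [], [], [], [], [], [], [], [], [], []], [[], [], [], [], [], [], [], [], [], [], [], [], [], [], [], [], [], [], [], [], [], [], [], [], [], [], [], [], [], [], [], [], [], [], [], [], [], [], [], [], [], [], [], [], [], [], [], [], [], [], [], [], [], [], [], [], [], [], [], [], [], [], [], [], [], [], [], [], [], [], [], [], [], [], [], [], [], [], [], [], [], [], [], [], [], [], [], [], [], [], [], [], [], [], [], [], [], [], [], [], [], [], [], [], [], [], [], [], [], [], [], [], [], [], [], [], [], [], [], [], [], [], [], [], [], [], [], []]]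

theorem off_ok : offFacts msD invsD sigsD oneD tabD = true := by decide +kernel

theorem cols_ok : ∀ m ∈ msD, ∀ c ∈ m, c < 2048 := by decide

end Cfsg.Agent.Fi23Syl
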