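import Cfsg.Agent.Lib.Lead.Fi23Syl.FS

/-! # The Sylow 2-subgroups of Fi₂₃: the checks of the relations of the element number 1, part 1 (generated) -/

set_option autoImplicit false
set_option maxRecDepth 100000

namespace Cfsg.Agent.Fi23Syl

open Cfsg.Agent.PF Cfsg.Agent.Lib.Helper6 Cfsg.Agent.Lib.Helper6.TC
open Cfsg.Agent.PL (Acts evalF)
open Cfsg.Agent.Fi23Out (P)
open Cfsg.Agent.Lib.Lead.Fi23Syl

theorem cj1_5_0 : allR 0 7918 (fun q => Nat.beq ((fun q => g1 (g5 q)) q) ((fun q => evW FS2 1272 (g1 q)) q)) = true := by decide +kernel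

theorem cj1_5_1 : allR 7918 7918 (fun q => Nat.beq ((fun q => g1 (g5 q)) q) ((fun q => evW FS2 1272 (g1 q)) q)) = true := by decide +kernel

theorem cj1_5_2 : allR 15836 7918 (fun q => Nat.beq ((fun q => g1 (g5 q)) q) ((fun q => evW FS2 1272 (g1 q)) q)) = true := by decide +kernel

theorem cj1_5_3 : allR 23754 7917 (fun q => Nat.beq ((fun q => g1 (g5 q)) q) ((fun q => evW FS2 1272 (g1 q)) q)) = true := by decide +kernel

theorem cj1_6_0 : allR 0 6335 (fun q => Nat.beq ((fun q => g1 (g6 q)) q) ((fun q => evW FS2 28368 (g1 q)) q)) = true := by decide +kernel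

theorem cj1_6_1 : allR 6335 6335 (fun q => Nat.beq ((fun q => g1 (g6 q)) q) ((fun q => evW FS2 28368 (g1 q)) q)) = true := by decide +kernel

theorem cj1_6_2 : allR 12670 6335 (fun q => Nat.beq ((fun q => g1 (g6 q)) q) ((fun q => evW FS2 28368 (g1 q)) q)) = true := by decide +kernel

theorem cj1_6_3 : allR 19005 6335 (fun q => Nat.beq ((fun q => g1 (g6 q)) q) ((fun q => evW FS2 28368 (g1 q)) q)) = true := by decide +kernel

theorem cj1_6_4 : allR 25340 6331 (fun q => Nat.beq ((fun q => g1 (g6 q)) q) ((fun q => evW FS2 28368 (g1 q)) q)) = true := by decide +kernel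

theorem cj1_7_0 : allR 0 10557 (fun q => Nat.beq ((fun q => g1 (g7 q)) q) ((fun q => evW FS7 1 (g1 q)) q)) = true := by decide +kernel

theorem cj1_7_1 : allR 10557 10557 (fun q => Nat.beq ((fun q => g1 (g7 q)) q) ((fun q => evW FS7 1 (g1 q)) q)) = true := by decide +kernel

theorem cj1_7_2 : allR 21114 10557 (fun q => Nat.beq ((fun q => g1 (g7 q)) q) ((fun q => evW FS7 1 (g1 q)) q)) = true := by decide +kernel

theorem cj1_8_0 : allR 0 10557 (fun q => Nat.beq ((fun q => g1 (g8 q)) q) ((fun q => evW FS7 2 (g1 q)) q)) = true := by decide +kernel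

theorem cj1_8_1 : allR 10557 10557 (fun q => Nat.beq ((fun q => g1 (g8 q)) q) ((fun q => evW FS7 2 (g1 q)) q)) = true := by decide +kernel

theorem cj1_8_2 : allR 21114 10557 (fun q => Nat.beq ((fun q => g1 (g8 q)) q) ((fun q => evW FS7 2 (g1 q)) q)) = true := by decide +kernel


end Cfsg.Agent.Fi23Syl
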