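import Cfsg.Agent.Lib.Lead.Fi23Syl.RC1p0
import Cfsg.Agent.Lib.Lead.Fi23Syl.RC1p1
import Cfsg.Agent.Lib.Lead.Fi23Syl.RC1p2
import Cfsg.Agent.Lib.Lead.Fi23Syl.RC1p3
import Cfsg.Agent.Lib.Lead.Fi23Syl.RC1p4

/-! # The Sylow 2-subgroups of Fi₂₃: the relations of the element number 1 (generated) -/

set_option autoImplicit false
set_option maxRecDepth 100000

namespace Cfsg.Agent.Fi23Syl

open Cfsg.Agent.PF Cfsg.Agent.Lib.Helper6 Cfsg.Agent.Lib.Helper6.TC
open Cfsg.Agent.PL (Acts evalF)
open Cfsg.Agent.Fi23Out (P)
open Cfsg.Agent.Lib.Lead.Fi23Syl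

/-- the square of the element number 1 -/
theorem pw1 : ∀ q < 31671, (fun q => g1 (g1 q)) q = (fun q => evW FS2 19808 q) q :=
  eq_of_chunks (f := (fun q => g1 (g1 q))) (g := (fun q => evW FS2 19808 q)) [(0, 7918), (7918, 7918), (15836, 7918), (23754, 7917)] (by decide) (by
    intro c hc
    simp only [List.mem_cons, List.not_mem_nil, or_false] at hc
    rcases hc with rfl | rfl | rfl | rfl
    · exact pw1_0
    · exact pw1_1
    · exact pw1_2
    · exact pw1_3
  )

/-- the conjugate of the element number 2 by the element number 1 -/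
theorem cj1_2 : ∀ q < 31671, (fun q => g1 (g2 q)) q = (fun q => evW FS2 9025 (g1 q)) q :=
  eq_of_chunks (f := (fun q => g1 (g2 q))) (g := (fun q => evW FS2 9025 (g1 q))) [(0, 7918), (7918, 7918), (15836, 7918), (23754, 7917)] (by decide) (by
    intro c hc
    simp only [List.mem_cons, List.not_mem_nil, or_false] at hc
    rcases hc with rfl | rfl | rfl | rfl
    · exact cj1_2_0
    · exact cj1_2_1
    · exact cj1_2_2
    · exact cj1_2_3
  )

/-- the conjugate of the element number 3 by the element number 1 -/
theorem cj1_3 : ∀ q < 31671, (fun q => g1 (g3 q)) q = (fun q => evW FS2 54742 (g1 q)) q :=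
  eq_of_chunks (f := (fun q => g1 (g3 q))) (g := (fun q => evW FS2 54742 (g1 q))) [(0, 6335), (6335, 6335), (12670, 6335), (19005, 6335), (25340, 6331)] (by decide) (by
    intro c hc
    simp only [List.mem_cons, List.not_mem_nil, or_false] at hc
    rcases hc with rfl | rfl | rfl | rfl | rfl
    · exact cj1_3_0
    · exact cj1_3_1
    · exact cj1_3_2
    · exact cj1_3_3
    · exact cj1_3_4
  )

/-- the conjugate of the element number 4 by the element number 1 -/
theorem cj1_4 : ∀ q < 31671, (fun q => g1 (g4 q)) q = (fun q => evW FS2 23684 (g1 q)) q :=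
  eq_of_chunks (f := (fun q => g1 (g4 q))) (g := (fun q => evW FS2 23684 (g1 q))) [(0, 7918), (7918, 7918), (15836, 7918), (23754, 7917)] (by decide) (by
    intro c hc
    simp only [List.mem_cons, List.not_mem_nil, or_false] at hc
    rcases hc with rfl | rfl | rfl | rfl
    · exact cj1_4_0
    · exact cj1_4_1
    · exact cj1_4_2
    · exact cj1_4_3
  )

/-- the conjugate of the element number 5 by the element number 1 -/
theorem cj1_5 : ∀ q < 31671, (fun q => g1 (g5 q)) q = (fun q => evW FS2 1272 (g1 q)) q :=
  eq_of_chunks (f := (fun q => g1 (g5 q))) (g := (fun q => evW FS2 1272 (g1 q))) [(0, 7918), (7918, 7918), (15836, 7918), (23754, 7917)] (by decide) (by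
    intro c hc
    simp only [List.mem_cons, List.not_mem_nil, or_false] at hc
    rcases hc with rfl | rfl | rfl | rfl
    · exact cj1_5_0
    · exact cj1_5_1
    · exact cj1_5_2
    · exact cj1_5_3
  )

/-- the conjugate of the element number 6 by the element number 1 -/
theorem cj1_6 : ∀ q < 31671, (fun q => g1 (g6 q)) q = (fun q => evW FS2 28368 (g1 q)) q :=
  eq_of_chunks (f := (fun q => g1 (g6 q))) (g := (fun q => evW FS2 28368 (g1 q))) [(0, 6335), (6335, 6335), (12670, 6335), (19005, 6335), (25340, 6331)] (by decide) (by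
    intro c hc
    simp only [List.mem_cons, List.not_mem_nil, or_false] at hc
    rcases hc with rfl | rfl | rfl | rfl | rfl
    · exact cj1_6_0
    · exact cj1_6_1
    · exact cj1_6_2
    · exact cj1_6_3
    · exact cj1_6_4
  )

/-- the conjugate of the element number 7 by the element number 1 -/
theorem cj1_7 : ∀ q < 31671, (fun q => g1 (g7 q)) q = (fun q => evW FS7 1 (g1 q)) q :=
  eq_of_chunks (f := (fun q => g1 (g7 q))) (g := (fun q => evW FS7 1 (g1 q))) [(0, 10557), (10557, 10557), (21114, 10557)] (by decide) (by
    intro c hc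
    simp only [List.mem_cons, List.not_mem_nil, or_false] at hc
    rcases hc with rfl | rfl | rfl
    · exact cj1_7_0
    · exact cj1_7_1
    · exact cj1_7_2
  )

/-- the conjugate of the element number 8 by the element number 1 -/
theorem cj1_8 : ∀ q < 31671, (fun q => g1 (g8 q)) q = (fun q => evW FS7 2 (g1 q)) q :=
  eq_of_chunks (f := (fun q => g1 (g8 q))) (g := (fun q => evW FS7 2 (g1 q))) [(0, 10557), (10557, 10557), (21114, 10557)] (by decide) (by
    intro c hc
    simp only [List.mem_cons, List.not_mem_nil, or_false] at hc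
    rcases hc with rfl | rfl | rfl
    · exact cj1_8_0
    · exact cj1_8_1
    · exact cj1_8_2
  )

/-- the conjugate of the element number 9 by the element number 1 -/
theorem cj1_9 : ∀ q < 31671, (fun q => g1 (g9 q)) q = (fun q => evW FS7 4 (g1 q)) q :=
  eq_of_chunks (f := (fun q => g1 (g9 q))) (g := (fun q => evW FS7 4 (g1 q))) [(0, 10557), (10557, 10557), (21114, 10557)] (by decide) (by
    intro c hc
    simp only [List.mem_cons, List.not_mem_nil, or_false] at hc
    rcases hc with rfl | rfl | rfl
    · exact cj1_9_0
    · exact cj1_9_1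
    · exact cj1_9_2
  )

/-- the conjugate of the element number 10 by the element number 1 -/
theorem cj1_10 : ∀ q < 31671, (fun q => g1 (g10 q)) q = (fun q => evW FS7 16 (g1 q)) q :=
  eq_of_chunks (f := (fun q => g1 (g10 q))) (g := (fun q => evW FS7 16 (g1 q))) [(0, 10557), (10557, 10557), (21114, 10557)] (by decide) (by
    intro c hc
    simp only [List.mem_cons, List.not_mem_nil, or_false] at hc
    rcases hc with rfl | rfl | rfl
    · exact cj1_10_0
    · exact cj1_10_1
    · exact cj1_10_2
  )

/-- the conjugate of the element number 11 by the element number 1 -/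
theorem cj1_11 : ∀ q < 31671, (fun q => g1 (g11 q)) q = (fun q => evW FS7 8 (g1 q)) q :=
  eq_of_chunks (f := (fun q => g1 (g11 q))) (g := (fun q => evW FS7 8 (g1 q))) [(0, 10557), (10557, 10557), (21114, 10557)] (by decide) (by
    intro c hc
    simp only [List.mem_cons, List.not_mem_nil, or_false] at hc
    rcases hc with rfl | rfl | rfl
    · exact cj1_11_0
    · exact cj1_11_1
    · exact cj1_11_2
  )

/-- the conjugate of the element number 12 by the element number 1 -/
theorem cj1_12 : ∀ q < 31671, (fun q => g1 (g12 q)) q = (fun q => evW FS7 63 (g1 q)) q :=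
  eq_of_chunks (f := (fun q => g1 (g12 q))) (g := (fun q => evW FS7 63 (g1 q))) [(0, 7918), (7918, 7918), (15836, 7918), (23754, 7917)] (by decide) (by
    intro c hc
    simp only [List.mem_cons, List.not_mem_nil, or_false] at hc
    rcases hc with rfl | rfl | rfl | rfl
    · exact cj1_12_0
    · exact cj1_12_1
    · exact cj1_12_2
    · exact cj1_12_3
  )

/-- the conjugate of the element number 13 by the element number 1 -/
theorem cj1_13 : ∀ q < 31671, (fun q => g1 (g13 q)) q = (fun q => evW FS7 1024 (g1 q)) q :=
  eq_of_chunks (f := (fun q => g1 (g13 q))) (g := (fun q => evW FS7 1024 (g1 q))) [(0, 10557), (10557, 10557), (21114, 10557)] (by decide) (by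
    intro c hc
    simp only [List.mem_cons, List.not_mem_nil, or_false] at hc
    rcases hc with rfl | rfl | rfl
    · exact cj1_13_0
    · exact cj1_13_1
    · exact cj1_13_2
  )

/-- the conjugate of the element number 14 by the element number 1 -/
theorem cj1_14 : ∀ q < 31671, (fun q => g1 (g14 q)) q = (fun q => evW FS7 748 (g1 q)) q :=
  eq_of_chunks (f := (fun q => g1 (g14 q))) (g := (fun q => evW FS7 748 (g1 q))) [(0, 7918), (7918, 7918), (15836, 7918), (23754, 7917)] (by decide) (by
    intro c hc
    simp only [List.mem_cons, List.not_mem_nil, or_false] at hc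
    rcases hc with rfl | rfl | rfl | rfl
    · exact cj1_14_0
    · exact cj1_14_1
    · exact cj1_14_2
    · exact cj1_14_3
  )

/-- the conjugate of the element number 15 by the element number 1 -/
theorem cj1_15 : ∀ q < 31671, (fun q => g1 (g15 q)) q = (fun q => evW FS7 256 (g1 q)) q :=
  eq_of_chunks (f := (fun q => g1 (g15 q))) (g := (fun q => evW FS7 256 (g1 q))) [(0, 10557), (10557, 10557), (21114, 10557)] (by decide) (by
    intro c hc
    simp only [List.mem_cons, List.not_mem_nil, or_false] at hc
    rcases hc with rfl | rfl | rfl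
    · exact cj1_15_0
    · exact cj1_15_1
    · exact cj1_15_2
  )

/-- the conjugate of the element number 16 by the element number 1 -/
theorem cj1_16 : ∀ q < 31671, (fun q => g1 (g16 q)) q = (fun q => evW FS7 1607 (g1 q)) q :=
  eq_of_chunks (f := (fun q => g1 (g16 q))) (g := (fun q => evW FS7 1607 (g1 q))) [(0, 7918), (7918, 7918), (15836, 7918), (23754, 7917)] (by decide) (by
    intro c hc
    simp only [List.mem_cons, List.not_mem_nil, or_false] at hc
    rcases hc with rfl | rfl | rfl | rfl
    · exact cj1_16_0
    · exact cj1_16_1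
    · exact cj1_16_2
    · exact cj1_16_3
  )

/-- the conjugate of the element number 17 by the element number 1 -/
theorem cj1_17 : ∀ q < 31671, (fun q => g1 (g17 q)) q = (fun q => evW FS7 64 (g1 q)) q :=
  eq_of_chunks (f := (fun q => g1 (g17 q))) (g := (fun q => evW FS7 64 (g1 q))) [(0, 10557), (10557, 10557), (21114, 10557)] (by decide) (by
    intro c hc
    simp only [List.mem_cons, List.not_mem_nil, or_false] at hc
    rcases hc with rfl | rfl | rfl
    · exact cj1_17_0
    · exact cj1_17_1
    · exact cj1_17_2
  )


end Cfsg.Agent.Fi23Syl
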