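import Cfsg.Agent.Lib.Lead.Fi23Syl.RC15

/-! # The Sylow 2-subgroups of Fi₂₃: the relations of the element number 15 (generated) -/

set_option autoImplicit false
set_option maxRecDepth 100000

namespace Cfsg.Agent.Fi23Syl

open Cfsg.Agent.PF Cfsg.Agent.Lib.Helper6 Cfsg.Agent.Lib.Helper6.TC
open Cfsg.Agent.PL (Acts evalF)
open Cfsg.Agent.Fi23Out (P)
open Cfsg.Agent.Lib.Lead.Fi23Syl

/-- the elements number 15 and 16 commute -/
theorem cj15_16 : ∀ q < 31671, (fun q => g15 (g16 q)) q = (fun q => g16 (g15 q)) q :=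
  eq_of_chunks (f := (fun q => g15 (g16 q))) (g := (fun q => g16 (g15 q))) [(0, 31671)] (by decide) (by
    intro c hc
    simp only [List.mem_cons, List.not_mem_nil, or_false] at hc
    rcases hc with rfl
    · exact cj15_16_0
  )

/-- the elements number 15 and 17 commute -/
theorem cj15_17 : ∀ q < 31671, (fun q => g15 (g17 q)) q = (fun q => g17 (g15 q)) q :=
  eq_of_chunks (f := (fun q => g15 (g17 q))) (g := (fun q => g17 (g15 q))) [(0, 31671)] (by decide) (by
    intro c hc
    simp only [List.mem_cons, List.not_mem_nil, or_false] at hc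
    rcases hc with rfl
    · exact cj15_17_0
  )


end Cfsg.Agent.Fi23Syl
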