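import Cfsg.Agent.Lib.Lead.Fi23Syl.RC2p0
import Cfsg.Agent.Lib.Lead.Fi23Syl.RC2p1
import Cfsg.Agent.Lib.Lead.Fi23Syl.RC2p2
import Cfsg.Agent.Lib.Lead.Fi23Syl.RC2p3

/-! # The Sylow 2-subgroups of Fi₂₃: the relations of the element number 2 (generated) -/

set_option autoImplicit false
set_option maxRecDepth 100000

namespace Cfsg.Agent.Fi23Syl

open Cfsg.Agent.PF Cfsg.Agent.Lib.Helper6 Cfsg.Agent.Lib.Helper6.TC
open Cfsg.Agent.PL (Acts evalF)
open Cfsg.Agent.Fi23Out (P)
open Cfsg.Agent.Lib.Lead.Fi23Syl

/-- the square of the element number 2 -/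
theorem pw2 : ∀ q < 31671, (fun q => g2 (g2 q)) q = (fun q => evW FS3 14752 q) q :=
  eq_of_chunks (f := (fun q => g2 (g2 q))) (g := (fun q => evW FS3 14752 q)) [(0, 7918), (7918, 7918), (15836, 7918), (23754, 7917)] (by decide) (by
    intro c hc
    simp only [List.mem_cons, List.not_mem_nil, or_false] at hc
    rcases hc with rfl | rfl | rfl | rfl
    · exact pw2_0
    · exact pw2_1
    · exact pw2_2
    · exact pw2_3
  )

/-- the conjugate of the element number 3 by the element number 2 -/
theorem cj2_3 : ∀ q < 31671, (fun q => g2 (g3 q)) q = (fun q => evW FS3 16581 (g2 q)) q :=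
  eq_of_chunks (f := (fun q => g2 (g3 q))) (g := (fun q => evW FS3 16581 (g2 q))) [(0, 7918), (7918, 7918), (15836, 7918), (23754, 7917)] (by decide) (by
    intro c hc
    simp only [List.mem_cons, List.not_mem_nil, or_false] at hc
    rcases hc with rfl | rfl | rfl | rfl
    · exact cj2_3_0
    · exact cj2_3_1
    · exact cj2_3_2
    · exact cj2_3_3
  )

/-- the conjugate of the element number 4 by the element number 2 -/
theorem cj2_4 : ∀ q < 31671, (fun q => g2 (g4 q)) q = (fun q => evW FS3 13018 (g2 q)) q :=
  eq_of_chunks (f := (fun q => g2 (g4 q))) (g := (fun q => evW FS3 13018 (g2 q))) [(0, 6335), (6335, 6335), (12670, 6335), (19005, 6335), (25340, 6331)] (by decide) (by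
    intro c hc
    simp only [List.mem_cons, List.not_mem_nil, or_false] at hc
    rcases hc with rfl | rfl | rfl | rfl | rfl
    · exact cj2_4_0
    · exact cj2_4_1
    · exact cj2_4_2
    · exact cj2_4_3
    · exact cj2_4_4
  )

/-- the conjugate of the element number 5 by the element number 2 -/
theorem cj2_5 : ∀ q < 31671, (fun q => g2 (g5 q)) q = (fun q => evW FS3 28036 (g2 q)) q :=
  eq_of_chunks (f := (fun q => g2 (g5 q))) (g := (fun q => evW FS3 28036 (g2 q))) [(0, 7918), (7918, 7918), (15836, 7918), (23754, 7917)] (by decide) (by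
    intro c hc
    simp only [List.mem_cons, List.not_mem_nil, or_false] at hc
    rcases hc with rfl | rfl | rfl | rfl
    · exact cj2_5_0
    · exact cj2_5_1
    · exact cj2_5_2
    · exact cj2_5_3
  )

/-- the conjugate of the element number 6 by the element number 2 -/
theorem cj2_6 : ∀ q < 31671, (fun q => g2 (g6 q)) q = (fun q => evW FS3 27592 (g2 q)) q :=
  eq_of_chunks (f := (fun q => g2 (g6 q))) (g := (fun q => evW FS3 27592 (g2 q))) [(0, 6335), (6335, 6335), (12670, 6335), (19005, 6335), (25340, 6331)] (by decide) (by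
    intro c hc
    simp only [List.mem_cons, List.not_mem_nil, or_false] at hc
    rcases hc with rfl | rfl | rfl | rfl | rfl
    · exact cj2_6_0
    · exact cj2_6_1
    · exact cj2_6_2
    · exact cj2_6_3
    · exact cj2_6_4
  )

/-- the conjugate of the element number 7 by the element number 2 -/
theorem cj2_7 : ∀ q < 31671, (fun q => g2 (g7 q)) q = (fun q => evW FS7 1372 (g2 q)) q :=
  eq_of_chunks (f := (fun q => g2 (g7 q))) (g := (fun q => evW FS7 1372 (g2 q))) [(0, 7918), (7918, 7918), (15836, 7918), (23754, 7917)] (by decide) (by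
    intro c hc
    simp only [List.mem_cons, List.not_mem_nil, or_false] at hc
    rcases hc with rfl | rfl | rfl | rfl
    · exact cj2_7_0
    · exact cj2_7_1
    · exact cj2_7_2
    · exact cj2_7_3
  )

/-- the conjugate of the element number 8 by the element number 2 -/
theorem cj2_8 : ∀ q < 31671, (fun q => g2 (g8 q)) q = (fun q => evW FS7 2 (g2 q)) q :=
  eq_of_chunks (f := (fun q => g2 (g8 q))) (g := (fun q => evW FS7 2 (g2 q))) [(0, 10557), (10557, 10557), (21114, 10557)] (by decide) (by
    intro c hc
    simp only [List.mem_cons, List.not_mem_nil, or_false] at hc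
    rcases hc with rfl | rfl | rfl
    · exact cj2_8_0
    · exact cj2_8_1
    · exact cj2_8_2
  )

/-- the conjugate of the element number 9 by the element number 2 -/
theorem cj2_9 : ∀ q < 31671, (fun q => g2 (g9 q)) q = (fun q => evW FS7 882 (g2 q)) q :=
  eq_of_chunks (f := (fun q => g2 (g9 q))) (g := (fun q => evW FS7 882 (g2 q))) [(0, 7918), (7918, 7918), (15836, 7918), (23754, 7917)] (by decide) (by
    intro c hc
    simp only [List.mem_cons, List.not_mem_nil, or_false] at hc
    rcases hc with rfl | rfl | rfl | rfl
    · exact cj2_9_0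
    · exact cj2_9_1
    · exact cj2_9_2
    · exact cj2_9_3
  )

/-- the conjugate of the element number 10 by the element number 2 -/
theorem cj2_10 : ∀ q < 31671, (fun q => g2 (g10 q)) q = (fun q => evW FS7 1446 (g2 q)) q :=
  eq_of_chunks (f := (fun q => g2 (g10 q))) (g := (fun q => evW FS7 1446 (g2 q))) [(0, 7918), (7918, 7918), (15836, 7918), (23754, 7917)] (by decide) (by
    intro c hc
    simp only [List.mem_cons, List.not_mem_nil, or_false] at hc
    rcases hc with rfl | rfl | rfl | rfl
    · exact cj2_10_0
    · exact cj2_10_1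
    · exact cj2_10_2
    · exact cj2_10_3
  )

/-- the conjugate of the element number 11 by the element number 2 -/
theorem cj2_11 : ∀ q < 31671, (fun q => g2 (g11 q)) q = (fun q => evW FS7 917 (g2 q)) q :=
  eq_of_chunks (f := (fun q => g2 (g11 q))) (g := (fun q => evW FS7 917 (g2 q))) [(0, 7918), (7918, 7918), (15836, 7918), (23754, 7917)] (by decide) (by
    intro c hc
    simp only [List.mem_cons, List.not_mem_nil, or_false] at hc
    rcases hc with rfl | rfl | rfl | rfl
    · exact cj2_11_0
    · exact cj2_11_1
    · exact cj2_11_2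
    · exact cj2_11_3
  )

/-- the conjugate of the element number 12 by the element number 2 -/
theorem cj2_12 : ∀ q < 31671, (fun q => g2 (g12 q)) q = (fun q => evW FS7 63 (g2 q)) q :=
  eq_of_chunks (f := (fun q => g2 (g12 q))) (g := (fun q => evW FS7 63 (g2 q))) [(0, 7918), (7918, 7918), (15836, 7918), (23754, 7917)] (by decide) (by
    intro c hc
    simp only [List.mem_cons, List.not_mem_nil, or_false] at hc
    rcases hc with rfl | rfl | rfl | rfl
    · exact cj2_12_0
    · exact cj2_12_1
    · exact cj2_12_2
    · exact cj2_12_3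
  )

/-- the conjugate of the element number 13 by the element number 2 -/
theorem cj2_13 : ∀ q < 31671, (fun q => g2 (g13 q)) q = (fun q => evW FS7 64 (g2 q)) q :=
  eq_of_chunks (f := (fun q => g2 (g13 q))) (g := (fun q => evW FS7 64 (g2 q))) [(0, 10557), (10557, 10557), (21114, 10557)] (by decide) (by
    intro c hc
    simp only [List.mem_cons, List.not_mem_nil, or_false] at hc
    rcases hc with rfl | rfl | rfl
    · exact cj2_13_0
    · exact cj2_13_1
    · exact cj2_13_2
  )

/-- the conjugate of the element number 14 by the element number 2 -/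
theorem cj2_14 : ∀ q < 31671, (fun q => g2 (g14 q)) q = (fun q => evW FS7 1607 (g2 q)) q :=
  eq_of_chunks (f := (fun q => g2 (g14 q))) (g := (fun q => evW FS7 1607 (g2 q))) [(0, 7918), (7918, 7918), (15836, 7918), (23754, 7917)] (by decide) (by
    intro c hc
    simp only [List.mem_cons, List.not_mem_nil, or_false] at hc
    rcases hc with rfl | rfl | rfl | rfl
    · exact cj2_14_0
    · exact cj2_14_1
    · exact cj2_14_2
    · exact cj2_14_3
  )

/-- the conjugate of the element number 15 by the element number 2 -/
theorem cj2_15 : ∀ q < 31671, (fun q => g2 (g15 q)) q = (fun q => evW FS7 256 (g2 q)) q :=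
  eq_of_chunks (f := (fun q => g2 (g15 q))) (g := (fun q => evW FS7 256 (g2 q))) [(0, 10557), (10557, 10557), (21114, 10557)] (by decide) (by
    intro c hc
    simp only [List.mem_cons, List.not_mem_nil, or_false] at hc
    rcases hc with rfl | rfl | rfl
    · exact cj2_15_0
    · exact cj2_15_1
    · exact cj2_15_2
  )

/-- the conjugate of the element number 16 by the element number 2 -/
theorem cj2_16 : ∀ q < 31671, (fun q => g2 (g16 q)) q = (fun q => evW FS7 748 (g2 q)) q :=
  eq_of_chunks (f := (fun q => g2 (g16 q))) (g := (fun q => evW FS7 748 (g2 q))) [(0, 7918), (7918, 7918), (15836, 7918), (23754, 7917)] (by decide) (by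
    intro c hc
    simp only [List.mem_cons, List.not_mem_nil, or_false] at hc
    rcases hc with rfl | rfl | rfl | rfl
    · exact cj2_16_0
    · exact cj2_16_1
    · exact cj2_16_2
    · exact cj2_16_3
  )

/-- the conjugate of the element number 17 by the element number 2 -/
theorem cj2_17 : ∀ q < 31671, (fun q => g2 (g17 q)) q = (fun q => evW FS7 1024 (g2 q)) q :=
  eq_of_chunks (f := (fun q => g2 (g17 q))) (g := (fun q => evW FS7 1024 (g2 q))) [(0, 10557), (10557, 10557), (21114, 10557)] (by decide) (by
    intro c hc
    simp only [List.mem_cons, List.not_mem_nil, or_false] at hc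
    rcases hc with rfl | rfl | rfl
    · exact cj2_17_0
    · exact cj2_17_1
    · exact cj2_17_2
  )


end Cfsg.Agent.Fi23Syl
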