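import Cfsg.Agent.Lib.Lead.Fi23Syl.RC3

/-! # The Sylow 2-subgroups of Fi₂₃: the relations of the element number 3 (generated) -/

set_option autoImplicit false
set_option maxRecDepth 100000

namespace Cfsg.Agent.Fi23Syl

open Cfsg.Agent.PF Cfsg.Agent.Lib.Helper6 Cfsg.Agent.Lib.Helper6.TC
open Cfsg.Agent.PL (Acts evalF)
open Cfsg.Agent.Fi23Out (P)
open Cfsg.Agent.Lib.Lead.Fi23Syl

/-- the square of the element number 3 -/
theorem pw3 : ∀ q < 31671, (fun q => g3 (g3 q)) q = (fun q => evW FS4 3152 q) q :=
  eq_of_chunks (f := (fun q => g3 (g3 q))) (g := (fun q => evW FS4 3152 q)) [(0, 15836), (15836, 15835)] (by decide) (by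
    intro c hc
    simp only [List.mem_cons, List.not_mem_nil, or_false] at hc
    rcases hc with rfl | rfl
    · exact pw3_0
    · exact pw3_1
  )

/-- the conjugate of the element number 4 by the element number 3 -/
theorem cj3_4 : ∀ q < 31671, (fun q => g3 (g4 q)) q = (fun q => evW FS4 3593 (g3 q)) q :=
  eq_of_chunks (f := (fun q => g3 (g4 q))) (g := (fun q => evW FS4 3593 (g3 q))) [(0, 15836), (15836, 15835)] (by decide) (by
    intro c hc
    simp only [List.mem_cons, List.not_mem_nil, or_false] at hc
    rcases hc with rfl | rfl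
    · exact cj3_4_0
    · exact cj3_4_1
  )

/-- the conjugate of the element number 5 by the element number 3 -/
theorem cj3_5 : ∀ q < 31671, (fun q => g3 (g5 q)) q = (fun q => evW FS4 1714 (g3 q)) q :=
  eq_of_chunks (f := (fun q => g3 (g5 q))) (g := (fun q => evW FS4 1714 (g3 q))) [(0, 15836), (15836, 15835)] (by decide) (by
    intro c hc
    simp only [List.mem_cons, List.not_mem_nil, or_false] at hc
    rcases hc with rfl | rfl
    · exact cj3_5_0
    · exact cj3_5_1
  )

/-- the conjugate of the element number 6 by the element number 3 -/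
theorem cj3_6 : ∀ q < 31671, (fun q => g3 (g6 q)) q = (fun q => evW FS4 1772 (g3 q)) q :=
  eq_of_chunks (f := (fun q => g3 (g6 q))) (g := (fun q => evW FS4 1772 (g3 q))) [(0, 15836), (15836, 15835)] (by decide) (by
    intro c hc
    simp only [List.mem_cons, List.not_mem_nil, or_false] at hc
    rcases hc with rfl | rfl
    · exact cj3_6_0
    · exact cj3_6_1
  )

/-- the conjugate of the element number 7 by the element number 3 -/
theorem cj3_7 : ∀ q < 31671, (fun q => g3 (g7 q)) q = (fun q => evW FS7 1 (g3 q)) q :=
  eq_of_chunks (f := (fun q => g3 (g7 q))) (g := (fun q => evW FS7 1 (g3 q))) [(0, 31671)] (by decide) (by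
    intro c hc
    simp only [List.mem_cons, List.not_mem_nil, or_false] at hc
    rcases hc with rfl
    · exact cj3_7_0
  )

/-- the conjugate of the element number 8 by the element number 3 -/
theorem cj3_8 : ∀ q < 31671, (fun q => g3 (g8 q)) q = (fun q => evW FS7 8 (g3 q)) q :=
  eq_of_chunks (f := (fun q => g3 (g8 q))) (g := (fun q => evW FS7 8 (g3 q))) [(0, 31671)] (by decide) (by
    intro c hc
    simp only [List.mem_cons, List.not_mem_nil, or_false] at hc
    rcases hc with rfl
    · exact cj3_8_0
  )

/-- the conjugate of the element number 9 by the element number 3 -/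
theorem cj3_9 : ∀ q < 31671, (fun q => g3 (g9 q)) q = (fun q => evW FS7 748 (g3 q)) q :=
  eq_of_chunks (f := (fun q => g3 (g9 q))) (g := (fun q => evW FS7 748 (g3 q))) [(0, 15836), (15836, 15835)] (by decide) (by
    intro c hc
    simp only [List.mem_cons, List.not_mem_nil, or_false] at hc
    rcases hc with rfl | rfl
    · exact cj3_9_0
    · exact cj3_9_1
  )

/-- the conjugate of the element number 10 by the element number 3 -/
theorem cj3_10 : ∀ q < 31671, (fun q => g3 (g10 q)) q = (fun q => evW FS7 2 (g3 q)) q :=
  eq_of_chunks (f := (fun q => g3 (g10 q))) (g := (fun q => evW FS7 2 (g3 q))) [(0, 31671)] (by decide) (by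
    intro c hc
    simp only [List.mem_cons, List.not_mem_nil, or_false] at hc
    rcases hc with rfl
    · exact cj3_10_0
  )

/-- the conjugate of the element number 11 by the element number 3 -/
theorem cj3_11 : ∀ q < 31671, (fun q => g3 (g11 q)) q = (fun q => evW FS7 882 (g3 q)) q :=
  eq_of_chunks (f := (fun q => g3 (g11 q))) (g := (fun q => evW FS7 882 (g3 q))) [(0, 15836), (15836, 15835)] (by decide) (by
    intro c hc
    simp only [List.mem_cons, List.not_mem_nil, or_false] at hc
    rcases hc with rfl | rfl
    · exact cj3_11_0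
    · exact cj3_11_1
  )

/-- the conjugate of the element number 12 by the element number 3 -/
theorem cj3_12 : ∀ q < 31671, (fun q => g3 (g12 q)) q = (fun q => evW FS7 917 (g3 q)) q :=
  eq_of_chunks (f := (fun q => g3 (g12 q))) (g := (fun q => evW FS7 917 (g3 q))) [(0, 15836), (15836, 15835)] (by decide) (by
    intro c hc
    simp only [List.mem_cons, List.not_mem_nil, or_false] at hc
    rcases hc with rfl | rfl
    · exact cj3_12_0
    · exact cj3_12_1
  )

/-- the conjugate of the element number 13 by the element number 3 -/
theorem cj3_13 : ∀ q < 31671, (fun q => g3 (g13 q)) q = (fun q => evW FS7 64 (g3 q)) q :=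
  eq_of_chunks (f := (fun q => g3 (g13 q))) (g := (fun q => evW FS7 64 (g3 q))) [(0, 31671)] (by decide) (by
    intro c hc
    simp only [List.mem_cons, List.not_mem_nil, or_false] at hc
    rcases hc with rfl
    · exact cj3_13_0
  )

/-- the conjugate of the element number 14 by the element number 3 -/
theorem cj3_14 : ∀ q < 31671, (fun q => g3 (g14 q)) q = (fun q => evW FS7 256 (g3 q)) q :=
  eq_of_chunks (f := (fun q => g3 (g14 q))) (g := (fun q => evW FS7 256 (g3 q))) [(0, 31671)] (by decide) (by
    intro c hc
    simp only [List.mem_cons, List.not_mem_nil, or_false] at hc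
    rcases hc with rfl
    · exact cj3_14_0
  )

/-- the conjugate of the element number 15 by the element number 3 -/
theorem cj3_15 : ∀ q < 31671, (fun q => g3 (g15 q)) q = (fun q => evW FS7 128 (g3 q)) q :=
  eq_of_chunks (f := (fun q => g3 (g15 q))) (g := (fun q => evW FS7 128 (g3 q))) [(0, 31671)] (by decide) (by
    intro c hc
    simp only [List.mem_cons, List.not_mem_nil, or_false] at hc
    rcases hc with rfl
    · exact cj3_15_0
  )

/-- the conjugate of the element number 16 by the element number 3 -/
theorem cj3_16 : ∀ q < 31671, (fun q => g3 (g16 q)) q = (fun q => evW FS7 63 (g3 q)) q :=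
  eq_of_chunks (f := (fun q => g3 (g16 q))) (g := (fun q => evW FS7 63 (g3 q))) [(0, 15836), (15836, 15835)] (by decide) (by
    intro c hc
    simp only [List.mem_cons, List.not_mem_nil, or_false] at hc
    rcases hc with rfl | rfl
    · exact cj3_16_0
    · exact cj3_16_1
  )

/-- the conjugate of the element number 17 by the element number 3 -/
theorem cj3_17 : ∀ q < 31671, (fun q => g3 (g17 q)) q = (fun q => evW FS7 1024 (g3 q)) q :=
  eq_of_chunks (f := (fun q => g3 (g17 q))) (g := (fun q => evW FS7 1024 (g3 q))) [(0, 31671)] (by decide) (by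
    intro c hc
    simp only [List.mem_cons, List.not_mem_nil, or_false] at hc
    rcases hc with rfl
    · exact cj3_17_0
  )


end Cfsg.Agent.Fi23Syl
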