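import Cfsg.Agent.Lib.Lead.Fi23Syl.RC5

/-! # The Sylow 2-subgroups of Fi₂₃: the relations of the element number 5 (generated) -/

set_option autoImplicit false
set_option maxRecDepth 100000

namespace Cfsg.Agent.Fi23Syl

open Cfsg.Agent.PF Cfsg.Agent.Lib.Helper6 Cfsg.Agent.Lib.Helper6.TC
open Cfsg.Agent.PL (Acts evalF)
open Cfsg.Agent.Fi23Out (P)
open Cfsg.Agent.Lib.Lead.Fi23Syl

/-- the square of the element number 5 -/
theorem pw5 : ∀ q < 31671, (fun q => g5 (g5 q)) q = (fun q => evW FS6 2478 q) q :=
  eq_of_chunks (f := (fun q => g5 (g5 q))) (g := (fun q => evW FS6 2478 q)) [(0, 15836), (15836, 15835)] (by decide) (by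
    intro c hc
    simp only [List.mem_cons, List.not_mem_nil, or_false] at hc
    rcases hc with rfl | rfl
    · exact pw5_0
    · exact pw5_1
  )

/-- the conjugate of the element number 6 by the element number 5 -/
theorem cj5_6 : ∀ q < 31671, (fun q => g5 (g6 q)) q = (fun q => evW FS6 3343 (g5 q)) q :=
  eq_of_chunks (f := (fun q => g5 (g6 q))) (g := (fun q => evW FS6 3343 (g5 q))) [(0, 15836), (15836, 15835)] (by decide) (by
    intro c hc
    simp only [List.mem_cons, List.not_mem_nil, or_false] at hc
    rcases hc with rfl | rfl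
    · exact cj5_6_0
    · exact cj5_6_1
  )

/-- the conjugate of the element number 7 by the element number 5 -/
theorem cj5_7 : ∀ q < 31671, (fun q => g5 (g7 q)) q = (fun q => evW FS7 1 (g5 q)) q :=
  eq_of_chunks (f := (fun q => g5 (g7 q))) (g := (fun q => evW FS7 1 (g5 q))) [(0, 31671)] (by decide) (by
    intro c hc
    simp only [List.mem_cons, List.not_mem_nil, or_false] at hc
    rcases hc with rfl
    · exact cj5_7_0
  )

/-- the conjugate of the element number 8 by the element number 5 -/
theorem cj5_8 : ∀ q < 31671, (fun q => g5 (g8 q)) q = (fun q => evW FS7 1265 (g5 q)) q :=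
  eq_of_chunks (f := (fun q => g5 (g8 q))) (g := (fun q => evW FS7 1265 (g5 q))) [(0, 15836), (15836, 15835)] (by decide) (by
    intro c hc
    simp only [List.mem_cons, List.not_mem_nil, or_false] at hc
    rcases hc with rfl | rfl
    · exact cj5_8_0
    · exact cj5_8_1
  )

/-- the conjugate of the element number 9 by the element number 5 -/
theorem cj5_9 : ∀ q < 31671, (fun q => g5 (g9 q)) q = (fun q => evW FS7 32 (g5 q)) q :=
  eq_of_chunks (f := (fun q => g5 (g9 q))) (g := (fun q => evW FS7 32 (g5 q))) [(0, 31671)] (by decide) (by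
    intro c hc
    simp only [List.mem_cons, List.not_mem_nil, or_false] at hc
    rcases hc with rfl
    · exact cj5_9_0
  )

/-- the conjugate of the element number 10 by the element number 5 -/
theorem cj5_10 : ∀ q < 31671, (fun q => g5 (g10 q)) q = (fun q => evW FS7 1446 (g5 q)) q :=
  eq_of_chunks (f := (fun q => g5 (g10 q))) (g := (fun q => evW FS7 1446 (g5 q))) [(0, 15836), (15836, 15835)] (by decide) (by
    intro c hc
    simp only [List.mem_cons, List.not_mem_nil, or_false] at hc
    rcases hc with rfl | rfl
    · exact cj5_10_0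
    · exact cj5_10_1
  )

/-- the conjugate of the element number 11 by the element number 5 -/
theorem cj5_11 : ∀ q < 31671, (fun q => g5 (g11 q)) q = (fun q => evW FS7 512 (g5 q)) q :=
  eq_of_chunks (f := (fun q => g5 (g11 q))) (g := (fun q => evW FS7 512 (g5 q))) [(0, 31671)] (by decide) (by
    intro c hc
    simp only [List.mem_cons, List.not_mem_nil, or_false] at hc
    rcases hc with rfl
    · exact cj5_11_0
  )

/-- the conjugate of the element number 12 by the element number 5 -/
theorem cj5_12 : ∀ q < 31671, (fun q => g5 (g12 q)) q = (fun q => evW FS7 4 (g5 q)) q :=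
  eq_of_chunks (f := (fun q => g5 (g12 q))) (g := (fun q => evW FS7 4 (g5 q))) [(0, 31671)] (by decide) (by
    intro c hc
    simp only [List.mem_cons, List.not_mem_nil, or_false] at hc
    rcases hc with rfl
    · exact cj5_12_0
  )

/-- the conjugate of the element number 13 by the element number 5 -/
theorem cj5_13 : ∀ q < 31671, (fun q => g5 (g13 q)) q = (fun q => evW FS7 64 (g5 q)) q :=
  eq_of_chunks (f := (fun q => g5 (g13 q))) (g := (fun q => evW FS7 64 (g5 q))) [(0, 31671)] (by decide) (by
    intro c hc
    simp only [List.mem_cons, List.not_mem_nil, or_false] at hc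
    rcases hc with rfl
    · exact cj5_13_0
  )

/-- the conjugate of the element number 14 by the element number 5 -/
theorem cj5_14 : ∀ q < 31671, (fun q => g5 (g14 q)) q = (fun q => evW FS7 1607 (g5 q)) q :=
  eq_of_chunks (f := (fun q => g5 (g14 q))) (g := (fun q => evW FS7 1607 (g5 q))) [(0, 15836), (15836, 15835)] (by decide) (by
    intro c hc
    simp only [List.mem_cons, List.not_mem_nil, or_false] at hc
    rcases hc with rfl | rfl
    · exact cj5_14_0
    · exact cj5_14_1
  )

/-- the conjugate of the element number 15 by the element number 5 -/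
theorem cj5_15 : ∀ q < 31671, (fun q => g5 (g15 q)) q = (fun q => evW FS7 1690 (g5 q)) q :=
  eq_of_chunks (f := (fun q => g5 (g15 q))) (g := (fun q => evW FS7 1690 (g5 q))) [(0, 15836), (15836, 15835)] (by decide) (by
    intro c hc
    simp only [List.mem_cons, List.not_mem_nil, or_false] at hc
    rcases hc with rfl | rfl
    · exact cj5_15_0
    · exact cj5_15_1
  )

/-- the conjugate of the element number 16 by the element number 5 -/
theorem cj5_16 : ∀ q < 31671, (fun q => g5 (g16 q)) q = (fun q => evW FS7 16 (g5 q)) q :=
  eq_of_chunks (f := (fun q => g5 (g16 q))) (g := (fun q => evW FS7 16 (g5 q))) [(0, 31671)] (by decide) (by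
    intro c hc
    simp only [List.mem_cons, List.not_mem_nil, or_false] at hc
    rcases hc with rfl
    · exact cj5_16_0
  )

/-- the conjugate of the element number 17 by the element number 5 -/
theorem cj5_17 : ∀ q < 31671, (fun q => g5 (g17 q)) q = (fun q => evW FS7 1024 (g5 q)) q :=
  eq_of_chunks (f := (fun q => g5 (g17 q))) (g := (fun q => evW FS7 1024 (g5 q))) [(0, 31671)] (by decide) (by
    intro c hc
    simp only [List.mem_cons, List.not_mem_nil, or_false] at hc
    rcases hc with rfl
    · exact cj5_17_0
  )


end Cfsg.Agent.Fi23Syl
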