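import Cfsg.Agent.Lib.Lead.Fi23Syl.RC6

/-! # The Sylow 2-subgroups of Fi₂₃: the relations of the element number 6 (generated) -/

set_option autoImplicit false
set_option maxRecDepth 100000

namespace Cfsg.Agent.Fi23Syl

open Cfsg.Agent.PF Cfsg.Agent.Lib.Helper6 Cfsg.Agent.Lib.Helper6.TC
open Cfsg.Agent.PL (Acts evalF)
open Cfsg.Agent.Fi23Out (P)
open Cfsg.Agent.Lib.Lead.Fi23Syl

/-- the square of the element number 6 -/
theorem pw6 : ∀ q < 31671, (fun q => g6 (g6 q)) q = (fun q => evW FS7 619 q) q :=
  eq_of_chunks (f := (fun q => g6 (g6 q))) (g := (fun q => evW FS7 619 q)) [(0, 15836), (15836, 15835)] (by decide) (by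
    intro c hc
    simp only [List.mem_cons, List.not_mem_nil, or_false] at hc
    rcases hc with rfl | rfl
    · exact pw6_0
    · exact pw6_1
  )

/-- the conjugate of the element number 7 by the element number 6 -/
theorem cj6_7 : ∀ q < 31671, (fun q => g6 (g7 q)) q = (fun q => evW FS7 1 (g6 q)) q :=
  eq_of_chunks (f := (fun q => g6 (g7 q))) (g := (fun q => evW FS7 1 (g6 q))) [(0, 31671)] (by decide) (by
    intro c hc
    simp only [List.mem_cons, List.not_mem_nil, or_false] at hc
    rcases hc with rfl
    · exact cj6_7_0
  )

/-- the conjugate of the element number 8 by the element number 6 -/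
theorem cj6_8 : ∀ q < 31671, (fun q => g6 (g8 q)) q = (fun q => evW FS7 256 (g6 q)) q :=
  eq_of_chunks (f := (fun q => g6 (g8 q))) (g := (fun q => evW FS7 256 (g6 q))) [(0, 31671)] (by decide) (by
    intro c hc
    simp only [List.mem_cons, List.not_mem_nil, or_false] at hc
    rcases hc with rfl
    · exact cj6_8_0
  )

/-- the conjugate of the element number 9 by the element number 6 -/
theorem cj6_9 : ∀ q < 31671, (fun q => g6 (g9 q)) q = (fun q => evW FS7 882 (g6 q)) q :=
  eq_of_chunks (f := (fun q => g6 (g9 q))) (g := (fun q => evW FS7 882 (g6 q))) [(0, 15836), (15836, 15835)] (by decide) (by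
    intro c hc
    simp only [List.mem_cons, List.not_mem_nil, or_false] at hc
    rcases hc with rfl | rfl
    · exact cj6_9_0
    · exact cj6_9_1
  )

/-- the conjugate of the element number 10 by the element number 6 -/
theorem cj6_10 : ∀ q < 31671, (fun q => g6 (g10 q)) q = (fun q => evW FS7 128 (g6 q)) q :=
  eq_of_chunks (f := (fun q => g6 (g10 q))) (g := (fun q => evW FS7 128 (g6 q))) [(0, 31671)] (by decide) (by
    intro c hc
    simp only [List.mem_cons, List.not_mem_nil, or_false] at hc
    rcases hc with rfl
    · exact cj6_10_0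
  )

/-- the conjugate of the element number 11 by the element number 6 -/
theorem cj6_11 : ∀ q < 31671, (fun q => g6 (g11 q)) q = (fun q => evW FS7 748 (g6 q)) q :=
  eq_of_chunks (f := (fun q => g6 (g11 q))) (g := (fun q => evW FS7 748 (g6 q))) [(0, 15836), (15836, 15835)] (by decide) (by
    intro c hc
    simp only [List.mem_cons, List.not_mem_nil, or_false] at hc
    rcases hc with rfl | rfl
    · exact cj6_11_0
    · exact cj6_11_1
  )

/-- the conjugate of the element number 12 by the element number 6 -/
theorem cj6_12 : ∀ q < 31671, (fun q => g6 (g12 q)) q = (fun q => evW FS7 63 (g6 q)) q :=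
  eq_of_chunks (f := (fun q => g6 (g12 q))) (g := (fun q => evW FS7 63 (g6 q))) [(0, 15836), (15836, 15835)] (by decide) (by
    intro c hc
    simp only [List.mem_cons, List.not_mem_nil, or_false] at hc
    rcases hc with rfl | rfl
    · exact cj6_12_0
    · exact cj6_12_1
  )

/-- the conjugate of the element number 13 by the element number 6 -/
theorem cj6_13 : ∀ q < 31671, (fun q => g6 (g13 q)) q = (fun q => evW FS7 64 (g6 q)) q :=
  eq_of_chunks (f := (fun q => g6 (g13 q))) (g := (fun q => evW FS7 64 (g6 q))) [(0, 31671)] (by decide) (by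
    intro c hc
    simp only [List.mem_cons, List.not_mem_nil, or_false] at hc
    rcases hc with rfl
    · exact cj6_13_0
  )

/-- the conjugate of the element number 14 by the element number 6 -/
theorem cj6_14 : ∀ q < 31671, (fun q => g6 (g14 q)) q = (fun q => evW FS7 8 (g6 q)) q :=
  eq_of_chunks (f := (fun q => g6 (g14 q))) (g := (fun q => evW FS7 8 (g6 q))) [(0, 31671)] (by decide) (by
    intro c hc
    simp only [List.mem_cons, List.not_mem_nil, or_false] at hc
    rcases hc with rfl
    · exact cj6_14_0
  )

/-- the conjugate of the element number 15 by the element number 6 -/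
theorem cj6_15 : ∀ q < 31671, (fun q => g6 (g15 q)) q = (fun q => evW FS7 2 (g6 q)) q :=
  eq_of_chunks (f := (fun q => g6 (g15 q))) (g := (fun q => evW FS7 2 (g6 q))) [(0, 31671)] (by decide) (by
    intro c hc
    simp only [List.mem_cons, List.not_mem_nil, or_false] at hc
    rcases hc with rfl
    · exact cj6_15_0
  )

/-- the conjugate of the element number 16 by the element number 6 -/
theorem cj6_16 : ∀ q < 31671, (fun q => g6 (g16 q)) q = (fun q => evW FS7 917 (g6 q)) q :=
  eq_of_chunks (f := (fun q => g6 (g16 q))) (g := (fun q => evW FS7 917 (g6 q))) [(0, 15836), (15836, 15835)] (by decide) (by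
    intro c hc
    simp only [List.mem_cons, List.not_mem_nil, or_false] at hc
    rcases hc with rfl | rfl
    · exact cj6_16_0
    · exact cj6_16_1
  )

/-- the conjugate of the element number 17 by the element number 6 -/
theorem cj6_17 : ∀ q < 31671, (fun q => g6 (g17 q)) q = (fun q => evW FS7 1024 (g6 q)) q :=
  eq_of_chunks (f := (fun q => g6 (g17 q))) (g := (fun q => evW FS7 1024 (g6 q))) [(0, 31671)] (by decide) (by
    intro c hc
    simp only [List.mem_cons, List.not_mem_nil, or_false] at hc
    rcases hc with rfl
    · exact cj6_17_0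
  )


end Cfsg.Agent.Fi23Syl
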