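import Cfsg.Agent.Lib.Lead.Fi23Syl.RC7

/-! # The Sylow 2-subgroups of Fi₂₃: the relations of the element number 7 (generated) -/

set_option autoImplicit false
set_option maxRecDepth 100000

namespace Cfsg.Agent.Fi23Syl

open Cfsg.Agent.PF Cfsg.Agent.Lib.Helper6 Cfsg.Agent.Lib.Helper6.TC
open Cfsg.Agent.PL (Acts evalF)
open Cfsg.Agent.Fi23Out (P)
open Cfsg.Agent.Lib.Lead.Fi23Syl

/-- the elements number 7 and 8 commute -/
theorem cj7_8 : ∀ q < 31671, (fun q => g7 (g8 q)) q = (fun q => g8 (g7 q)) q :=
  eq_of_chunks (f := (fun q => g7 (g8 q))) (g := (fun q => g8 (g7 q))) [(0, 31671)] (by decide) (by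
    intro c hc
    simp only [List.mem_cons, List.not_mem_nil, or_false] at hc
    rcases hc with rfl
    · exact cj7_8_0
  )

/-- the elements number 7 and 9 commute -/
theorem cj7_9 : ∀ q < 31671, (fun q => g7 (g9 q)) q = (fun q => g9 (g7 q)) q :=
  eq_of_chunks (f := (fun q => g7 (g9 q))) (g := (fun q => g9 (g7 q))) [(0, 31671)] (by decide) (by
    intro c hc
    simp only [List.mem_cons, List.not_mem_nil, or_false] at hc
    rcases hc with rfl
    · exact cj7_9_0
  )

/-- the elements number 7 and 10 commute -/
theorem cj7_10 : ∀ q < 31671, (fun q => g7 (g10 q)) q = (fun q => g10 (g7 q)) q :=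
  eq_of_chunks (f := (fun q => g7 (g10 q))) (g := (fun q => g10 (g7 q))) [(0, 31671)] (by decide) (by
    intro c hc
    simp only [List.mem_cons, List.not_mem_nil, or_false] at hc
    rcases hc with rfl
    · exact cj7_10_0
  )

/-- the elements number 7 and 11 commute -/
theorem cj7_11 : ∀ q < 31671, (fun q => g7 (g11 q)) q = (fun q => g11 (g7 q)) q :=
  eq_of_chunks (f := (fun q => g7 (g11 q))) (g := (fun q => g11 (g7 q))) [(0, 31671)] (by decide) (by
    intro c hc
    simp only [List.mem_cons, List.not_mem_nil, or_false] at hc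
    rcases hc with rfl
    · exact cj7_11_0
  )

/-- the elements number 7 and 12 commute -/
theorem cj7_12 : ∀ q < 31671, (fun q => g7 (g12 q)) q = (fun q => g12 (g7 q)) q :=
  eq_of_chunks (f := (fun q => g7 (g12 q))) (g := (fun q => g12 (g7 q))) [(0, 31671)] (by decide) (by
    intro c hc
    simp only [List.mem_cons, List.not_mem_nil, or_false] at hc
    rcases hc with rfl
    · exact cj7_12_0
  )

/-- the elements number 7 and 13 commute -/
theorem cj7_13 : ∀ q < 31671, (fun q => g7 (g13 q)) q = (fun q => g13 (g7 q)) q :=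
  eq_of_chunks (f := (fun q => g7 (g13 q))) (g := (fun q => g13 (g7 q))) [(0, 31671)] (by decide) (by
    intro c hc
    simp only [List.mem_cons, List.not_mem_nil, or_false] at hc
    rcases hc with rfl
    · exact cj7_13_0
  )

/-- the elements number 7 and 14 commute -/
theorem cj7_14 : ∀ q < 31671, (fun q => g7 (g14 q)) q = (fun q => g14 (g7 q)) q :=
  eq_of_chunks (f := (fun q => g7 (g14 q))) (g := (fun q => g14 (g7 q))) [(0, 31671)] (by decide) (by
    intro c hc
    simp only [List.mem_cons, List.not_mem_nil, or_false] at hc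
    rcases hc with rfl
    · exact cj7_14_0
  )

/-- the elements number 7 and 15 commute -/
theorem cj7_15 : ∀ q < 31671, (fun q => g7 (g15 q)) q = (fun q => g15 (g7 q)) q :=
  eq_of_chunks (f := (fun q => g7 (g15 q))) (g := (fun q => g15 (g7 q))) [(0, 31671)] (by decide) (by
    intro c hc
    simp only [List.mem_cons, List.not_mem_nil, or_false] at hc
    rcases hc with rfl
    · exact cj7_15_0
  )

/-- the elements number 7 and 16 commute -/
theorem cj7_16 : ∀ q < 31671, (fun q => g7 (g16 q)) q = (fun q => g16 (g7 q)) q :=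
  eq_of_chunks (f := (fun q => g7 (g16 q))) (g := (fun q => g16 (g7 q))) [(0, 31671)] (by decide) (by
    intro c hc
    simp only [List.mem_cons, List.not_mem_nil, or_false] at hc
    rcases hc with rfl
    · exact cj7_16_0
  )

/-- the elements number 7 and 17 commute -/
theorem cj7_17 : ∀ q < 31671, (fun q => g7 (g17 q)) q = (fun q => g17 (g7 q)) q :=
  eq_of_chunks (f := (fun q => g7 (g17 q))) (g := (fun q => g17 (g7 q))) [(0, 31671)] (by decide) (by
    intro c hc
    simp only [List.mem_cons, List.not_mem_nil, or_false] at hc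
    rcases hc with rfl
    · exact cj7_17_0
  )


end Cfsg.Agent.Fi23Syl
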