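import Cfsg.Agent.Lib.Lead.Fi23Syl.RC8

/-! # The Sylow 2-subgroups of Fi₂₃: the relations of the element number 8 (generated) -/

set_option autoImplicit false
set_option maxRecDepth 100000

namespace Cfsg.Agent.Fi23Syl

open Cfsg.Agent.PF Cfsg.Agent.Lib.Helper6 Cfsg.Agent.Lib.Helper6.TC
open Cfsg.Agent.PL (Acts evalF)
open Cfsg.Agent.Fi23Out (P)
open Cfsg.Agent.Lib.Lead.Fi23Syl

/-- the elements number 8 and 9 commute -/
theorem cj8_9 : ∀ q < 31671, (fun q => g8 (g9 q)) q = (fun q => g9 (g8 q)) q :=
  eq_of_chunks (f := (fun q => g8 (g9 q))) (g := (fun q => g9 (g8 q))) [(0, 31671)] (by decide) (by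
    intro c hc
    simp only [List.mem_cons, List.not_mem_nil, or_false] at hc
    rcases hc with rfl
    · exact cj8_9_0
  )

/-- the elements number 8 and 10 commute -/
theorem cj8_10 : ∀ q < 31671, (fun q => g8 (g10 q)) q = (fun q => g10 (g8 q)) q :=
  eq_of_chunks (f := (fun q => g8 (g10 q))) (g := (fun q => g10 (g8 q))) [(0, 31671)] (by decide) (by
    intro c hc
    simp only [List.mem_cons, List.not_mem_nil, or_false] at hc
    rcases hc with rfl
    · exact cj8_10_0
  )

/-- the elements number 8 and 11 commute -/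
theorem cj8_11 : ∀ q < 31671, (fun q => g8 (g11 q)) q = (fun q => g11 (g8 q)) q :=
  eq_of_chunks (f := (fun q => g8 (g11 q))) (g := (fun q => g11 (g8 q))) [(0, 31671)] (by decide) (by
    intro c hc
    simp only [List.mem_cons, List.not_mem_nil, or_false] at hc
    rcases hc with rfl
    · exact cj8_11_0
  )

/-- the elements number 8 and 12 commute -/
theorem cj8_12 : ∀ q < 31671, (fun q => g8 (g12 q)) q = (fun q => g12 (g8 q)) q :=
  eq_of_chunks (f := (fun q => g8 (g12 q))) (g := (fun q => g12 (g8 q))) [(0, 31671)] (by decide) (by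
    intro c hc
    simp only [List.mem_cons, List.not_mem_nil, or_false] at hc
    rcases hc with rfl
    · exact cj8_12_0
  )

/-- the elements number 8 and 13 commute -/
theorem cj8_13 : ∀ q < 31671, (fun q => g8 (g13 q)) q = (fun q => g13 (g8 q)) q :=
  eq_of_chunks (f := (fun q => g8 (g13 q))) (g := (fun q => g13 (g8 q))) [(0, 31671)] (by decide) (by
    intro c hc
    simp only [List.mem_cons, List.not_mem_nil, or_false] at hc
    rcases hc with rfl
    · exact cj8_13_0
  )

/-- the elements number 8 and 14 commute -/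
theorem cj8_14 : ∀ q < 31671, (fun q => g8 (g14 q)) q = (fun q => g14 (g8 q)) q :=
  eq_of_chunks (f := (fun q => g8 (g14 q))) (g := (fun q => g14 (g8 q))) [(0, 31671)] (by decide) (by
    intro c hc
    simp only [List.mem_cons, List.not_mem_nil, or_false] at hc
    rcases hc with rfl
    · exact cj8_14_0
  )

/-- the elements number 8 and 15 commute -/
theorem cj8_15 : ∀ q < 31671, (fun q => g8 (g15 q)) q = (fun q => g15 (g8 q)) q :=
  eq_of_chunks (f := (fun q => g8 (g15 q))) (g := (fun q => g15 (g8 q))) [(0, 31671)] (by decide) (by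
    intro c hc
    simp only [List.mem_cons, List.not_mem_nil, or_false] at hc
    rcases hc with rfl
    · exact cj8_15_0
  )

/-- the elements number 8 and 16 commute -/
theorem cj8_16 : ∀ q < 31671, (fun q => g8 (g16 q)) q = (fun q => g16 (g8 q)) q :=
  eq_of_chunks (f := (fun q => g8 (g16 q))) (g := (fun q => g16 (g8 q))) [(0, 31671)] (by decide) (by
    intro c hc
    simp only [List.mem_cons, List.not_mem_nil, or_false] at hc
    rcases hc with rfl
    · exact cj8_16_0
  )

/-- the elements number 8 and 17 commute -/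
theorem cj8_17 : ∀ q < 31671, (fun q => g8 (g17 q)) q = (fun q => g17 (g8 q)) q :=
  eq_of_chunks (f := (fun q => g8 (g17 q))) (g := (fun q => g17 (g8 q))) [(0, 31671)] (by decide) (by
    intro c hc
    simp only [List.mem_cons, List.not_mem_nil, or_false] at hc
    rcases hc with rfl
    · exact cj8_17_0
  )


end Cfsg.Agent.Fi23Syl
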