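import Cfsg.Agent.Lib.Lead.Fi23Syl.RCV0

/-! # The Sylow 2-subgroups of Fi₂₃: the squares of the elements of the normal subgroup (generated) -/

set_option autoImplicit false
set_option maxRecDepth 100000

namespace Cfsg.Agent.Fi23Syl

open Cfsg.Agent.PF Cfsg.Agent.Lib.Helper6 Cfsg.Agent.Lib.Helper6.TC
open Cfsg.Agent.PL (Acts evalF)
open Cfsg.Agent.Fi23Out (P)
open Cfsg.Agent.Lib.Lead.Fi23Syl

/-- the square of the element number 7 -/
theorem pw7 : ∀ q < 31671, (fun q => g7 (g7 q)) q = (fun q => q) q :=
  eq_of_chunks (f := (fun q => g7 (g7 q))) (g := (fun q => q)) [(0, 31671)] (by decide) (by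
    intro c hc
    simp only [List.mem_cons, List.not_mem_nil, or_false] at hc
    rcases hc with rfl
    · exact pw7_0
  )

/-- the square of the element number 8 -/
theorem pw8 : ∀ q < 31671, (fun q => g8 (g8 q)) q = (fun q => q) q :=
  eq_of_chunks (f := (fun q => g8 (g8 q))) (g := (fun q => q)) [(0, 31671)] (by decide) (by
    intro c hc
    simp only [List.mem_cons, List.not_mem_nil, or_false] at hc
    rcases hc with rfl
    · exact pw8_0
  )

/-- the square of the element number 9 -/
theorem pw9 : ∀ q < 31671, (fun q => g9 (g9 q)) q = (fun q => q) q :=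
  eq_of_chunks (f := (fun q => g9 (g9 q))) (g := (fun q => q)) [(0, 31671)] (by decide) (by
    intro c hc
    simp only [List.mem_cons, List.not_mem_nil, or_false] at hc
    rcases hc with rfl
    · exact pw9_0
  )

/-- the square of the element number 10 -/
theorem pw10 : ∀ q < 31671, (fun q => g10 (g10 q)) q = (fun q => q) q :=
  eq_of_chunks (f := (fun q => g10 (g10 q))) (g := (fun q => q)) [(0, 31671)] (by decide) (by
    intro c hc
    simp only [List.mem_cons, List.not_mem_nil, or_false] at hc
    rcases hc with rfl
    · exact pw10_0
  )

/-- the square of the element number 11 -/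
theorem pw11 : ∀ q < 31671, (fun q => g11 (g11 q)) q = (fun q => q) q :=
  eq_of_chunks (f := (fun q => g11 (g11 q))) (g := (fun q => q)) [(0, 31671)] (by decide) (by
    intro c hc
    simp only [List.mem_cons, List.not_mem_nil, or_false] at hc
    rcases hc with rfl
    · exact pw11_0
  )

/-- the square of the element number 12 -/
theorem pw12 : ∀ q < 31671, (fun q => g12 (g12 q)) q = (fun q => q) q :=
  eq_of_chunks (f := (fun q => g12 (g12 q))) (g := (fun q => q)) [(0, 31671)] (by decide) (by
    intro c hc
    simp only [List.mem_cons, List.not_mem_nil, or_false] at hc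
    rcases hc with rfl
    · exact pw12_0
  )

/-- the square of the element number 13 -/
theorem pw13 : ∀ q < 31671, (fun q => g13 (g13 q)) q = (fun q => q) q :=
  eq_of_chunks (f := (fun q => g13 (g13 q))) (g := (fun q => q)) [(0, 31671)] (by decide) (by
    intro c hc
    simp only [List.mem_cons, List.not_mem_nil, or_false] at hc
    rcases hc with rfl
    · exact pw13_0
  )

/-- the square of the element number 14 -/
theorem pw14 : ∀ q < 31671, (fun q => g14 (g14 q)) q = (fun q => q) q :=
  eq_of_chunks (f := (fun q => g14 (g14 q))) (g := (fun q => q)) [(0, 31671)] (by decide) (by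
    intro c hc
    simp only [List.mem_cons, List.not_mem_nil, or_false] at hc
    rcases hc with rfl
    · exact pw14_0
  )

/-- the square of the element number 15 -/
theorem pw15 : ∀ q < 31671, (fun q => g15 (g15 q)) q = (fun q => q) q :=
  eq_of_chunks (f := (fun q => g15 (g15 q))) (g := (fun q => q)) [(0, 31671)] (by decide) (by
    intro c hc
    simp only [List.mem_cons, List.not_mem_nil, or_false] at hc
    rcases hc with rfl
    · exact pw15_0
  )

/-- the square of the element number 16 -/
theorem pw16 : ∀ q < 31671, (fun q => g16 (g16 q)) q = (fun q => q) q :=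
  eq_of_chunks (f := (fun q => g16 (g16 q))) (g := (fun q => q)) [(0, 31671)] (by decide) (by
    intro c hc
    simp only [List.mem_cons, List.not_mem_nil, or_false] at hc
    rcases hc with rfl
    · exact pw16_0
  )

/-- the square of the element number 17 -/
theorem pw17 : ∀ q < 31671, (fun q => g17 (g17 q)) q = (fun q => q) q :=
  eq_of_chunks (f := (fun q => g17 (g17 q))) (g := (fun q => q)) [(0, 31671)] (by decide) (by
    intro c hc
    simp only [List.mem_cons, List.not_mem_nil, or_false] at hc
    rcases hc with rfl
    · exact pw17_0
  )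


end Cfsg.Agent.Fi23Syl
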