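import Cfsg.Agent.Lib.Lead.Fi23Syl.R0
import Cfsg.Agent.Lib.Lead.Fi23Syl.R1
import Cfsg.Agent.Lib.Lead.Fi23Syl.R2
import Cfsg.Agent.Lib.Lead.Fi23Syl.R3
import Cfsg.Agent.Lib.Lead.Fi23Syl.R4
import Cfsg.Agent.Lib.Lead.Fi23Syl.R5
import Cfsg.Agent.Lib.Lead.Fi23Syl.R6
import Cfsg.Agent.Lib.Lead.Fi23Syl.R7
import Cfsg.Agent.Lib.Lead.Fi23Syl.R8
import Cfsg.Agent.Lib.Lead.Fi23Syl.R9
import Cfsg.Agent.Lib.Lead.Fi23Syl.R10
import Cfsg.Agent.Lib.Lead.Fi23Syl.R11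
import Cfsg.Agent.Lib.Lead.Fi23Syl.R12
import Cfsg.Agent.Lib.Lead.Fi23Syl.R13
import Cfsg.Agent.Lib.Lead.Fi23Syl.R14
import Cfsg.Agent.Lib.Lead.Fi23Syl.R15
import Cfsg.Agent.Lib.Lead.Fi23Syl.R16
import Cfsg.Agent.Lib.Lead.Fi23Syl.RV0
import Cfsg.Agent.Lib.Lead.Fi23Syl.Inj
import Cfsg.Agent.Lib.Lead.Fi23Syl.GS
import Cfsg.Agent.Lib.Lead.Fi23Syl.MatData
import Cfsg.Agent.Lib.Lead.Fi23Syl.Glue
import Cfsg.Agent.Lib.Helper6.Fi23Simple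
import Cfsg.Agent.Lib.Helper8.SylTransfer

/-! # The Sylow 2-subgroups of Fi₂₃: the normal elementary abelian subgroup of order `2 ^ 11` (generated) -/

set_option autoImplicit false
set_option maxRecDepth 100000

namespace Cfsg.Agent.Fi23Syl

open Cfsg.Agent.PF Cfsg.Agent.Lib.Helper6 Cfsg.Agent.Lib.Helper6.TC
open Cfsg.Agent.PL (Acts evalF)
open Cfsg.Agent.Fi23Out (P)
open Cfsg.Agent.Lib.Lead.Fi23Syl
open Cfsg Cfsg.Spor Cfsg.Agent.PL.Cox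

theorem len7 : GS7.length = 11 := rfl

/-- the elements of the normal subgroup are involutions -/
theorem vsq : ∀ v ∈ GS7, v * v = 1 :=
  (List.forall_mem_cons.2 ⟨sq_one_of_maps ax7 pw7, (List.forall_mem_cons.2 ⟨sq_one_of_maps ax8 pw8, (List.forall_mem_cons.2 ⟨sq_one_of_maps ax9 pw9, (List.forall_mem_cons.2 ⟨sq_one_of_maps ax10 pw10, (List.forall_mem_cons.2 ⟨sq_one_of_maps ax11 pw11, (List.forall_mem_cons.2 ⟨sq_one_of_maps ax12 pw12, (List.forall_mem_cons.2 ⟨sq_one_of_maps ax13 pw13, (List.forall_mem_cons.2 ⟨sq_one_of_maps ax14 pw14, (List.forall_mem_cons.2 ⟨sq_one_of_maps ax15 pw15, (List.forall_mem_cons.2 ⟨sq_one_of_maps ax16 pw16, (List.forall_mem_cons.2 ⟨sq_one_of_maps ax17 pw17, (fun _ h => absurd h List.not_mem_nil)⟩)⟩)⟩)⟩)⟩)⟩)⟩)⟩)⟩)⟩)⟩)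

/-- the elements of the normal subgroup commute -/
theorem vcomm : GS7.Pairwise (fun v w => v * w = w * v) :=
  (List.Pairwise.cons (List.forall_mem_cons.2 ⟨comm_of_maps ax7 ax8 cj7_8, (List.forall_mem_cons.2 ⟨comm_of_maps ax7 ax9 cj7_9, (List.forall_mem_cons.2 ⟨comm_of_maps ax7 ax10 cj7_10, (List.forall_mem_cons.2 ⟨comm_of_maps ax7 ax11 cj7_11, (List.forall_mem_cons.2 ⟨comm_of_maps ax7 ax12 cj7_12, (List.forall_mem_cons.2 ⟨comm_of_maps ax7 ax13 cj7_13, (List.forall_mem_cons.2 ⟨comm_of_maps ax7 ax14 cj7_14, (List.forall_mem_cons.2 ⟨comm_of_maps ax7 ax15 cj7_15, (List.forall_mem_cons.2 ⟨comm_of_maps ax7 ax16 cj7_16, (List.forall_mem_cons.2 ⟨comm_of_maps ax7 ax17 cj7_17, (fun _ h => absurd h List.not_mem_nil)⟩)⟩)⟩)⟩)⟩)⟩)⟩)⟩)⟩)⟩)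
    (List.Pairwise.cons (List.forall_mem_cons.2 ⟨comm_of_maps ax8 ax9 cj8_9, (List.forall_mem_cons.2 ⟨comm_of_maps ax8 ax10 cj8_10, (List.forall_mem_cons.2 ⟨comm_of_maps ax8 ax11 cj8_11, (List.forall_mem_cons.2 ⟨comm_of_maps ax8 ax12 cj8_12, (List.forall_mem_cons.2 ⟨comm_of_maps ax8 ax13 cj8_13, (List.forall_mem_cons.2 ⟨comm_of_maps ax8 ax14 cj8_14, (List.forall_mem_cons.2 ⟨comm_of_maps ax8 ax15 cj8_15, (List.forall_mem_cons.2 ⟨comm_of_maps ax8 ax16 cj8_16, (List.forall_mem_cons.2 ⟨comm_of_maps ax8 ax17 cj8_17, (fun _ h => absurd h List.not_mem_nil)⟩)⟩)⟩)⟩)⟩)⟩)⟩)⟩)⟩)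
    (List.Pairwise.cons (List.forall_mem_cons.2 ⟨comm_of_maps ax9 ax10 cj9_10, (List.forall_mem_cons.2 ⟨comm_of_maps ax9 ax11 cj9_11, (List.forall_mem_cons.2 ⟨comm_of_maps ax9 ax12 cj9_12, (List.forall_mem_cons.2 ⟨comm_of_maps ax9 ax13 cj9_13, (List.forall_mem_cons.2 ⟨comm_of_maps ax9 ax14 cj9_14, (List.forall_mem_cons.2 ⟨comm_of_maps ax9 ax15 cj9_15, (List.forall_mem_cons.2 ⟨comm_of_maps ax9 ax16 cj9_16, (List.forall_mem_cons.2 ⟨comm_of_maps ax9 ax17 cj9_17, (fun _ h => absurd h List.not_mem_nil)⟩)⟩)⟩)⟩)⟩)⟩)⟩)⟩)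
    (List.Pairwise.cons (List.forall_mem_cons.2 ⟨comm_of_maps ax10 ax11 cj10_11, (List.forall_mem_cons.2 ⟨comm_of_maps ax10 ax12 cj10_12, (List.forall_mem_cons.2 ⟨comm_of_maps ax10 ax13 cj10_13, (List.forall_mem_cons.2 ⟨comm_of_maps ax10 ax14 cj10_14, (List.forall_mem_cons.2 ⟨comm_of_maps ax10 ax15 cj10_15, (List.forall_mem_cons.2 ⟨comm_of_maps ax10 ax16 cj10_16, (List.forall_mem_cons.2 ⟨comm_of_maps ax10 ax17 cj10_17, (fun _ h => absurd h List.not_mem_nil)⟩)⟩)⟩)⟩)⟩)⟩)⟩)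
    (List.Pairwise.cons (List.forall_mem_cons.2 ⟨comm_of_maps ax11 ax12 cj11_12, (List.forall_mem_cons.2 ⟨comm_of_maps ax11 ax13 cj11_13, (List.forall_mem_cons.2 ⟨comm_of_maps ax11 ax14 cj11_14, (List.forall_mem_cons.2 ⟨comm_of_maps ax11 ax15 cj11_15, (List.forall_mem_cons.2 ⟨comm_of_maps ax11 ax16 cj11_16, (List.forall_mem_cons.2 ⟨comm_of_maps ax11 ax17 cj11_17, (fun _ h => absurd h List.not_mem_nil)⟩)⟩)⟩)⟩)⟩)⟩)
    (List.Pairwise.cons (List.forall_mem_cons.2 ⟨comm_of_maps ax12 ax13 cj12_13, (List.forall_mem_cons.2 ⟨comm_of_maps ax12 ax14 cj12_14, (List.forall_mem_cons.2 ⟨comm_of_maps ax12 ax15 cj12_15, (List.forall_mem_cons.2 ⟨comm_of_maps ax12 ax16 cj12_16, (List.forall_mem_cons.2 ⟨comm_of_maps ax12 ax17 cj12_17, (fun _ h => absurd h List.not_mem_nil)⟩)⟩)⟩)⟩)⟩)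
    (List.Pairwise.cons (List.forall_mem_cons.2 ⟨comm_of_maps ax13 ax14 cj13_14, (List.forall_mem_cons.2 ⟨comm_of_maps ax13 ax15 cj13_15, (List.forall_mem_cons.2 ⟨comm_of_maps ax13 ax16 cj13_16, (List.forall_mem_cons.2 ⟨comm_of_maps ax13 ax17 cj13_17, (fun _ h => absurd h List.not_mem_nil)⟩)⟩)⟩)⟩)
    (List.Pairwise.cons (List.forall_mem_cons.2 ⟨comm_of_maps ax14 ax15 cj14_15, (List.forall_mem_cons.2 ⟨comm_of_maps ax14 ax16 cj14_16, (List.forall_mem_cons.2 ⟨comm_of_maps ax14 ax17 cj14_17, (fun _ h => absurd h List.not_mem_nil)⟩)⟩)⟩)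
    (List.Pairwise.cons (List.forall_mem_cons.2 ⟨comm_of_maps ax15 ax16 cj15_16, (List.forall_mem_cons.2 ⟨comm_of_maps ax15 ax17 cj15_17, (fun _ h => absurd h List.not_mem_nil)⟩)⟩)
    (List.Pairwise.cons (List.forall_mem_cons.2 ⟨comm_of_maps ax16 ax17 cj16_17, (fun _ h => absurd h List.not_mem_nil)⟩)
    (List.Pairwise.cons (fun _ h => absurd h List.not_mem_nil)
    List.Pairwise.nil)))))))))))

theorem pc7 : PCOKp 2 GS7 := pcok_abelian GS7 vsq vcomm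

/-- the element number 6 acts on the normal subgroup by the matrix number 6 -/
theorem hv6 : List.Forall₂ (fun v c => y6 * v * y6⁻¹ = elP 2 GS7 c) GS7 [1, 256, 882, 128, 748, 63, 64, 8, 2, 917, 1024] :=
  (List.Forall₂.cons (conj_eq_of_maps ax6 ax7 fa7 1 cj6_7)
    (List.Forall₂.cons (conj_eq_of_maps ax6 ax8 fa7 256 cj6_8)
    (List.Forall₂.cons (conj_eq_of_maps ax6 ax9 fa7 882 cj6_9)
    (List.Forall₂.cons (conj_eq_of_maps ax6 ax10 fa7 128 cj6_10)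
    (List.Forall₂.cons (conj_eq_of_maps ax6 ax11 fa7 748 cj6_11)
    (List.Forall₂.cons (conj_eq_of_maps ax6 ax12 fa7 63 cj6_12)
    (List.Forall₂.cons (conj_eq_of_maps ax6 ax13 fa7 64 cj6_13)
    (List.Forall₂.cons (conj_eq_of_maps ax6 ax14 fa7 8 cj6_14)
    (List.Forall₂.cons (conj_eq_of_maps ax6 ax15 fa7 2 cj6_15)
    (List.Forall₂.cons (conj_eq_of_maps ax6 ax16 fa7 917 cj6_16)
    (List.Forall₂.cons (conj_eq_of_maps ax6 ax17 fa7 1024 cj6_17)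
    List.Forall₂.nil)))))))))))

theorem hcol6 : ∀ c ∈ [1, 256, 882, 128, 748, 63, 64, 8, 2, 917, 1024], c < 2 ^ GS7.length := by
  rw [len7]
  decide

theorem sqm6 : y6 ^ 2 ∈ NFp 2 GS7 :=
  mem_NFp2_intro 11 619 rfl (by norm_num) (sq_eq_of_maps ax6 fa7 619 pw6)

theorem pc6 : PCOKp 2 GS6 :=
  pcok_cons_of y6 [] GS7 pc7 sqm6
    (fun _ h => absurd h List.not_mem_nil)
    (mem_NFp2_of_forall2 hv6 hcol6)

/-- the element number 5 acts on the normal subgroup by the matrix number 5 -/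
theorem hv5 : List.Forall₂ (fun v c => y5 * v * y5⁻¹ = elP 2 GS7 c) GS7 [1, 1265, 32, 1446, 512, 4, 64, 1607, 1690, 16, 1024] :=
  (List.Forall₂.cons (conj_eq_of_maps ax5 ax7 fa7 1 cj5_7)
    (List.Forall₂.cons (conj_eq_of_maps ax5 ax8 fa7 1265 cj5_8)
    (List.Forall₂.cons (conj_eq_of_maps ax5 ax9 fa7 32 cj5_9)
    (List.Forall₂.cons (conj_eq_of_maps ax5 ax10 fa7 1446 cj5_10)
    (List.Forall₂.cons (conj_eq_of_maps ax5 ax11 fa7 512 cj5_11)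
    (List.Forall₂.cons (conj_eq_of_maps ax5 ax12 fa7 4 cj5_12)
    (List.Forall₂.cons (conj_eq_of_maps ax5 ax13 fa7 64 cj5_13)
    (List.Forall₂.cons (conj_eq_of_maps ax5 ax14 fa7 1607 cj5_14)
    (List.Forall₂.cons (conj_eq_of_maps ax5 ax15 fa7 1690 cj5_15)
    (List.Forall₂.cons (conj_eq_of_maps ax5 ax16 fa7 16 cj5_16)
    (List.Forall₂.cons (conj_eq_of_maps ax5 ax17 fa7 1024 cj5_17)
    List.Forall₂.nil)))))))))))

theorem hcol5 : ∀ c ∈ [1, 1265, 32, 1446, 512, 4, 64, 1607, 1690, 16, 1024], c < 2 ^ GS7.length := by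
  rw [len7]
  decide

theorem sqm5 : y5 ^ 2 ∈ NFp 2 GS6 :=
  mem_NFp2_intro 12 2478 rfl (by norm_num) (sq_eq_of_maps ax5 fa6 2478 pw5)

theorem cjm5_6 : y5 * y6 * y5⁻¹ ∈ NFp 2 GS6 :=
  mem_NFp2_intro 12 3343 rfl (by norm_num) (conj_eq_of_maps ax5 ax6 fa6 3343 cj5_6)

theorem pc5 : PCOKp 2 GS5 :=
  pcok_cons_of y5 [y6] GS7 pc6 sqm5
    (List.forall_mem_cons.2 ⟨cjm5_6, (fun _ h => absurd h List.not_mem_nil)⟩)
    (mem_NFp2_of_forall2 hv5 hcol5)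

/-- the element number 4 acts on the normal subgroup by the matrix number 4 -/
theorem hv4 : List.Forall₂ (fun v c => y4 * v * y4⁻¹ = elP 2 GS7 c) GS7 [1, 4, 2, 748, 128, 1265, 64, 16, 882, 1607, 1024] :=
  (List.Forall₂.cons (conj_eq_of_maps ax4 ax7 fa7 1 cj4_7)
    (List.Forall₂.cons (conj_eq_of_maps ax4 ax8 fa7 4 cj4_8)
    (List.Forall₂.cons (conj_eq_of_maps ax4 ax9 fa7 2 cj4_9)
    (List.Forall₂.cons (conj_eq_of_maps ax4 ax10 fa7 748 cj4_10)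
    (List.Forall₂.cons (conj_eq_of_maps ax4 ax11 fa7 128 cj4_11)
    (List.Forall₂.cons (conj_eq_of_maps ax4 ax12 fa7 1265 cj4_12)
    (List.Forall₂.cons (conj_eq_of_maps ax4 ax13 fa7 64 cj4_13)
    (List.Forall₂.cons (conj_eq_of_maps ax4 ax14 fa7 16 cj4_14)
    (List.Forall₂.cons (conj_eq_of_maps ax4 ax15 fa7 882 cj4_15)
    (List.Forall₂.cons (conj_eq_of_maps ax4 ax16 fa7 1607 cj4_16)
    (List.Forall₂.cons (conj_eq_of_maps ax4 ax17 fa7 1024 cj4_17)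
    List.Forall₂.nil)))))))))))

theorem hcol4 : ∀ c ∈ [1, 4, 2, 748, 128, 1265, 64, 16, 882, 1607, 1024], c < 2 ^ GS7.length := by
  rw [len7]
  decide

theorem sqm4 : y4 ^ 2 ∈ NFp 2 GS5 :=
  mem_NFp2_intro 13 6348 rfl (by norm_num) (sq_eq_of_maps ax4 fa5 6348 pw4)

theorem cjm4_5 : y4 * y5 * y4⁻¹ ∈ NFp 2 GS5 :=
  mem_NFp2_intro 13 1509 rfl (by norm_num) (conj_eq_of_maps ax4 ax5 fa5 1509 cj4_5)

theorem cjm4_6 : y4 * y6 * y4⁻¹ ∈ NFp 2 GS5 :=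
  mem_NFp2_intro 13 5394 rfl (by norm_num) (conj_eq_of_maps ax4 ax6 fa5 5394 cj4_6)

theorem pc4 : PCOKp 2 GS4 :=
  pcok_cons_of y4 [y5, y6] GS7 pc5 sqm4
    (List.forall_mem_cons.2 ⟨cjm4_5, (List.forall_mem_cons.2 ⟨cjm4_6, (fun _ h => absurd h List.not_mem_nil)⟩)⟩)
    (mem_NFp2_of_forall2 hv4 hcol4)

/-- the element number 3 acts on the normal subgroup by the matrix number 3 -/
theorem hv3 : List.Forall₂ (fun v c => y3 * v * y3⁻¹ = elP 2 GS7 c) GS7 [1, 8, 748, 2, 882, 917, 64, 256, 128, 63, 1024] :=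
  (List.Forall₂.cons (conj_eq_of_maps ax3 ax7 fa7 1 cj3_7)
    (List.Forall₂.cons (conj_eq_of_maps ax3 ax8 fa7 8 cj3_8)
    (List.Forall₂.cons (conj_eq_of_maps ax3 ax9 fa7 748 cj3_9)
    (List.Forall₂.cons (conj_eq_of_maps ax3 ax10 fa7 2 cj3_10)
    (List.Forall₂.cons (conj_eq_of_maps ax3 ax11 fa7 882 cj3_11)
    (List.Forall₂.cons (conj_eq_of_maps ax3 ax12 fa7 917 cj3_12)
    (List.Forall₂.cons (conj_eq_of_maps ax3 ax13 fa7 64 cj3_13)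
    (List.Forall₂.cons (conj_eq_of_maps ax3 ax14 fa7 256 cj3_14)
    (List.Forall₂.cons (conj_eq_of_maps ax3 ax15 fa7 128 cj3_15)
    (List.Forall₂.cons (conj_eq_of_maps ax3 ax16 fa7 63 cj3_16)
    (List.Forall₂.cons (conj_eq_of_maps ax3 ax17 fa7 1024 cj3_17)
    List.Forall₂.nil)))))))))))

theorem hcol3 : ∀ c ∈ [1, 8, 748, 2, 882, 917, 64, 256, 128, 63, 1024], c < 2 ^ GS7.length := by
  rw [len7]
  decide

theorem sqm3 : y3 ^ 2 ∈ NFp 2 GS4 :=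
  mem_NFp2_intro 14 3152 rfl (by norm_num) (sq_eq_of_maps ax3 fa4 3152 pw3)

theorem cjm3_4 : y3 * y4 * y3⁻¹ ∈ NFp 2 GS4 :=
  mem_NFp2_intro 14 3593 rfl (by norm_num) (conj_eq_of_maps ax3 ax4 fa4 3593 cj3_4)

theorem cjm3_5 : y3 * y5 * y3⁻¹ ∈ NFp 2 GS4 :=
  mem_NFp2_intro 14 1714 rfl (by norm_num) (conj_eq_of_maps ax3 ax5 fa4 1714 cj3_5)

theorem cjm3_6 : y3 * y6 * y3⁻¹ ∈ NFp 2 GS4 :=
  mem_NFp2_intro 14 1772 rfl (by norm_num) (conj_eq_of_maps ax3 ax6 fa4 1772 cj3_6)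

theorem pc3 : PCOKp 2 GS3 :=
  pcok_cons_of y3 [y4, y5, y6] GS7 pc4 sqm3
    (List.forall_mem_cons.2 ⟨cjm3_4, (List.forall_mem_cons.2 ⟨cjm3_5, (List.forall_mem_cons.2 ⟨cjm3_6, (fun _ h => absurd h List.not_mem_nil)⟩)⟩)⟩)
    (mem_NFp2_of_forall2 hv3 hcol3)

/-- the element number 2 acts on the normal subgroup by the matrix number 2 -/
theorem hv2 : List.Forall₂ (fun v c => y2 * v * y2⁻¹ = elP 2 GS7 c) GS7 [1372, 2, 882, 1446, 917, 63, 64, 1607, 256, 748, 1024] :=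
  (List.Forall₂.cons (conj_eq_of_maps ax2 ax7 fa7 1372 cj2_7)
    (List.Forall₂.cons (conj_eq_of_maps ax2 ax8 fa7 2 cj2_8)
    (List.Forall₂.cons (conj_eq_of_maps ax2 ax9 fa7 882 cj2_9)
    (List.Forall₂.cons (conj_eq_of_maps ax2 ax10 fa7 1446 cj2_10)
    (List.Forall₂.cons (conj_eq_of_maps ax2 ax11 fa7 917 cj2_11)
    (List.Forall₂.cons (conj_eq_of_maps ax2 ax12 fa7 63 cj2_12)
    (List.Forall₂.cons (conj_eq_of_maps ax2 ax13 fa7 64 cj2_13)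
    (List.Forall₂.cons (conj_eq_of_maps ax2 ax14 fa7 1607 cj2_14)
    (List.Forall₂.cons (conj_eq_of_maps ax2 ax15 fa7 256 cj2_15)
    (List.Forall₂.cons (conj_eq_of_maps ax2 ax16 fa7 748 cj2_16)
    (List.Forall₂.cons (conj_eq_of_maps ax2 ax17 fa7 1024 cj2_17)
    List.Forall₂.nil)))))))))))

theorem hcol2 : ∀ c ∈ [1372, 2, 882, 1446, 917, 63, 64, 1607, 256, 748, 1024], c < 2 ^ GS7.length := by
  rw [len7]
  decide

theorem sqm2 : y2 ^ 2 ∈ NFp 2 GS3 :=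
  mem_NFp2_intro 15 14752 rfl (by norm_num) (sq_eq_of_maps ax2 fa3 14752 pw2)

theorem cjm2_3 : y2 * y3 * y2⁻¹ ∈ NFp 2 GS3 :=
  mem_NFp2_intro 15 16581 rfl (by norm_num) (conj_eq_of_maps ax2 ax3 fa3 16581 cj2_3)

theorem cjm2_4 : y2 * y4 * y2⁻¹ ∈ NFp 2 GS3 :=
  mem_NFp2_intro 15 13018 rfl (by norm_num) (conj_eq_of_maps ax2 ax4 fa3 13018 cj2_4)

theorem cjm2_5 : y2 * y5 * y2⁻¹ ∈ NFp 2 GS3 :=
  mem_NFp2_intro 15 28036 rfl (by norm_num) (conj_eq_of_maps ax2 ax5 fa3 28036 cj2_5)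

theorem cjm2_6 : y2 * y6 * y2⁻¹ ∈ NFp 2 GS3 :=
  mem_NFp2_intro 15 27592 rfl (by norm_num) (conj_eq_of_maps ax2 ax6 fa3 27592 cj2_6)

theorem pc2 : PCOKp 2 GS2 :=
  pcok_cons_of y2 [y3, y4, y5, y6] GS7 pc3 sqm2
    (List.forall_mem_cons.2 ⟨cjm2_3, (List.forall_mem_cons.2 ⟨cjm2_4, (List.forall_mem_cons.2 ⟨cjm2_5, (List.forall_mem_cons.2 ⟨cjm2_6, (fun _ h => absurd h List.not_mem_nil)⟩)⟩)⟩)⟩)
    (mem_NFp2_of_forall2 hv2 hcol2)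

/-- the element number 1 acts on the normal subgroup by the matrix number 1 -/
theorem hv1 : List.Forall₂ (fun v c => y1 * v * y1⁻¹ = elP 2 GS7 c) GS7 [1, 2, 4, 16, 8, 63, 1024, 748, 256, 1607, 64] :=
  (List.Forall₂.cons (conj_eq_of_maps ax1 ax7 fa7 1 cj1_7)
    (List.Forall₂.cons (conj_eq_of_maps ax1 ax8 fa7 2 cj1_8)
    (List.Forall₂.cons (conj_eq_of_maps ax1 ax9 fa7 4 cj1_9)
    (List.Forall₂.cons (conj_eq_of_maps ax1 ax10 fa7 16 cj1_10)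
    (List.Forall₂.cons (conj_eq_of_maps ax1 ax11 fa7 8 cj1_11)
    (List.Forall₂.cons (conj_eq_of_maps ax1 ax12 fa7 63 cj1_12)
    (List.Forall₂.cons (conj_eq_of_maps ax1 ax13 fa7 1024 cj1_13)
    (List.Forall₂.cons (conj_eq_of_maps ax1 ax14 fa7 748 cj1_14)
    (List.Forall₂.cons (conj_eq_of_maps ax1 ax15 fa7 256 cj1_15)
    (List.Forall₂.cons (conj_eq_of_maps ax1 ax16 fa7 1607 cj1_16)
    (List.Forall₂.cons (conj_eq_of_maps ax1 ax17 fa7 64 cj1_17)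
    List.Forall₂.nil)))))))))))

theorem hcol1 : ∀ c ∈ [1, 2, 4, 16, 8, 63, 1024, 748, 256, 1607, 64], c < 2 ^ GS7.length := by
  rw [len7]
  decide

theorem sqm1 : y1 ^ 2 ∈ NFp 2 GS2 :=
  mem_NFp2_intro 16 19808 rfl (by norm_num) (sq_eq_of_maps ax1 fa2 19808 pw1)

theorem cjm1_2 : y1 * y2 * y1⁻¹ ∈ NFp 2 GS2 :=
  mem_NFp2_intro 16 9025 rfl (by norm_num) (conj_eq_of_maps ax1 ax2 fa2 9025 cj1_2)

theorem cjm1_3 : y1 * y3 * y1⁻¹ ∈ NFp 2 GS2 :=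
  mem_NFp2_intro 16 54742 rfl (by norm_num) (conj_eq_of_maps ax1 ax3 fa2 54742 cj1_3)

theorem cjm1_4 : y1 * y4 * y1⁻¹ ∈ NFp 2 GS2 :=
  mem_NFp2_intro 16 23684 rfl (by norm_num) (conj_eq_of_maps ax1 ax4 fa2 23684 cj1_4)

theorem cjm1_5 : y1 * y5 * y1⁻¹ ∈ NFp 2 GS2 :=
  mem_NFp2_intro 16 1272 rfl (by norm_num) (conj_eq_of_maps ax1 ax5 fa2 1272 cj1_5)

theorem cjm1_6 : y1 * y6 * y1⁻¹ ∈ NFp 2 GS2 :=
  mem_NFp2_intro 16 28368 rfl (by norm_num) (conj_eq_of_maps ax1 ax6 fa2 28368 cj1_6)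

theorem pc1 : PCOKp 2 GS1 :=
  pcok_cons_of y1 [y2, y3, y4, y5, y6] GS7 pc2 sqm1
    (List.forall_mem_cons.2 ⟨cjm1_2, (List.forall_mem_cons.2 ⟨cjm1_3, (List.forall_mem_cons.2 ⟨cjm1_4, (List.forall_mem_cons.2 ⟨cjm1_5, (List.forall_mem_cons.2 ⟨cjm1_6, (fun _ h => absurd h List.not_mem_nil)⟩)⟩)⟩)⟩)⟩)
    (mem_NFp2_of_forall2 hv1 hcol1)

/-- the element number 0 acts on the normal subgroup by the matrix number 0 -/
theorem hv0 : List.Forall₂ (fun v c => y0 * v * y0⁻¹ = elP 2 GS7 c) GS7 [459, 2, 63, 128, 512, 882, 64, 8, 256, 16, 1024] :=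
  (List.Forall₂.cons (conj_eq_of_maps ax0 ax7 fa7 459 cj0_7)
    (List.Forall₂.cons (conj_eq_of_maps ax0 ax8 fa7 2 cj0_8)
    (List.Forall₂.cons (conj_eq_of_maps ax0 ax9 fa7 63 cj0_9)
    (List.Forall₂.cons (conj_eq_of_maps ax0 ax10 fa7 128 cj0_10)
    (List.Forall₂.cons (conj_eq_of_maps ax0 ax11 fa7 512 cj0_11)
    (List.Forall₂.cons (conj_eq_of_maps ax0 ax12 fa7 882 cj0_12)
    (List.Forall₂.cons (conj_eq_of_maps ax0 ax13 fa7 64 cj0_13)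
    (List.Forall₂.cons (conj_eq_of_maps ax0 ax14 fa7 8 cj0_14)
    (List.Forall₂.cons (conj_eq_of_maps ax0 ax15 fa7 256 cj0_15)
    (List.Forall₂.cons (conj_eq_of_maps ax0 ax16 fa7 16 cj0_16)
    (List.Forall₂.cons (conj_eq_of_maps ax0 ax17 fa7 1024 cj0_17)
    List.Forall₂.nil)))))))))))

theorem hcol0 : ∀ c ∈ [459, 2, 63, 128, 512, 882, 64, 8, 256, 16, 1024], c < 2 ^ GS7.length := by
  rw [len7]
  decide

theorem sqm0 : y0 ^ 2 ∈ NFp 2 GS1 :=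
  mem_NFp2_intro 17 42496 rfl (by norm_num) (sq_eq_of_maps ax0 fa1 42496 pw0)

theorem cjm0_1 : y0 * y1 * y0⁻¹ ∈ NFp 2 GS1 :=
  mem_NFp2_intro 17 81539 rfl (by norm_num) (conj_eq_of_maps ax0 ax1 fa1 81539 cj0_1)

theorem cjm0_2 : y0 * y2 * y0⁻¹ ∈ NFp 2 GS1 :=
  mem_NFp2_intro 17 65538 rfl (by norm_num) (conj_eq_of_maps ax0 ax2 fa1 65538 cj0_2)

theorem cjm0_3 : y0 * y3 * y0⁻¹ ∈ NFp 2 GS1 :=
  mem_NFp2_intro 17 23652 rfl (by norm_num) (conj_eq_of_maps ax0 ax3 fa1 23652 cj0_3)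

theorem cjm0_4 : y0 * y4 * y0⁻¹ ∈ NFp 2 GS1 :=
  mem_NFp2_intro 17 80888 rfl (by norm_num) (conj_eq_of_maps ax0 ax4 fa1 80888 cj0_4)

theorem cjm0_5 : y0 * y5 * y0⁻¹ ∈ NFp 2 GS1 :=
  mem_NFp2_intro 17 2000 rfl (by norm_num) (conj_eq_of_maps ax0 ax5 fa1 2000 cj0_5)

theorem cjm0_6 : y0 * y6 * y0⁻¹ ∈ NFp 2 GS1 :=
  mem_NFp2_intro 17 30048 rfl (by norm_num) (conj_eq_of_maps ax0 ax6 fa1 30048 cj0_6)

theorem pc0 : PCOKp 2 GS0 :=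
  pcok_cons_of y0 [y1, y2, y3, y4, y5, y6] GS7 pc1 sqm0
    (List.forall_mem_cons.2 ⟨cjm0_1, (List.forall_mem_cons.2 ⟨cjm0_2, (List.forall_mem_cons.2 ⟨cjm0_3, (List.forall_mem_cons.2 ⟨cjm0_4, (List.forall_mem_cons.2 ⟨cjm0_5, (List.forall_mem_cons.2 ⟨cjm0_6, (fun _ h => absurd h List.not_mem_nil)⟩)⟩)⟩)⟩)⟩)⟩)
    (mem_NFp2_of_forall2 hv0 hcol0)

/-- the setting -/
noncomputable def setup : PSetup ↥P where
  sl := [y0, y1, y2, y3, y4, y5, y6]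
  vl := GS7
  ms := msD
  invs := invsD
  sigs := sigsD
  one := oneD
  tab := tabD
  hsl := rfl
  hvl := rfl
  hpc := pc0
  hvsq := vsq
  hvc := comm_all_of_pairwise vcomm
  hact := (List.Forall₂.cons hv0 (List.Forall₂.cons hv1 (List.Forall₂.cons hv2 (List.Forall₂.cons hv3 (List.Forall₂.cons hv4 (List.Forall₂.cons hv5 (List.Forall₂.cons hv6 List.Forall₂.nil)))))))
  hcols := cols_ok
  hinj := inj_of_chk fa7 1 3 (by norm_num) (by norm_num) 2047 inj_chk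
  hoff := off_ok

theorem rho_ne_one : Fi23TC.data.cert.ρ (Simp.wordG Fi23TC.data [0]) ≠ 1 := by
  intro h1
  have h2 := SimpWPC.ρ_wordG_apply Fi23TC.data (w := [0]) (by show ∀ x ∈ [0], x < 10; decide) 8
    (by show 8 < 31671; norm_num)
  rw [h1] at h2
  have h3 : Fi23TC.tab.trace 8 [0] ≠ 8 := by decide +kernel
  exact h3 h2.symm

/-- the action on the rows is faithful -/
theorem rho_inj : Function.Injective Fi23TC.data.cert.ρ := by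
  have : IsSimpleGroup Fi23 := Fi23Simple.main.1
  exact T3Gen.injective_of_simple _ rho_ne_one

theorem cardP : Nat.card ↥P = 4089470473293004800 :=
  Cfsg.Agent.PL.Cox.card_P Fi23TC.data rho_inj Fi23Simple.main.2

/-- a Sylow 2-subgroup of Fi₂₃ has exactly one normal elementary abelian subgroup of order `2 ^ 11`, and none of larger
order -/
theorem main (T : Sylow 2 Fi23) :
    (∀ A : Subgroup Fi23, A ≤ T → (A.subgroupOf T).Normal → IsElementaryAbelian 2 A → Nat.card A ≤ 2 ^ 11) ∧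
    ∃! A : Subgroup Fi23, A ≤ T ∧ (A.subgroupOf T).Normal ∧ IsElementaryAbelian 2 A ∧ Nat.card A = 2 ^ 11 :=
  Cfsg.Agent.Lib.Helper8.SylTransfer.sylow_unique_elemab_of_model (iso Fi23TC.data rho_inj) 15600091832325
    (by norm_num) (cardP.trans (by norm_num)) setup.T setup.V setup.card_T setup.V_le_T
    (fun t ht v hv => setup.conj_mem_V ht hv) setup.V_elemAb setup.card_V setup.uniq T

end Cfsg.Agent.Fi23Syl
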