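import Mathlib

/-!
# Matrices over the field with two elements, as lists of bit masks: definitions and the test for offenders

Vectors are numbers (bit masks), matrices are lists of columns; `mv` is the product of a matrix and a vector, `mact ms a`
the product of the matrices of `ms` selected by the bits of `a`.  `offFacts` is the test, for seven matrices on an
11-dimensional space, used to show that no elementary abelian subgroup of the group they generate is an offender: lower
bounds for the ranks of `M + 1` and of `(M + 1, N + 1)` are certified by vectors whose images are linearly independent.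
-/

set_option autoImplicit false

namespace Cfsg.Agent.Lib.Lead.Fi23Syl

/-- evaluate the first argument first -/
def strictN {α : Type*} (x : ℕ) (f : ℕ → α) : α :=
  Nat.rec (f 0) (fun n _ => f (n + 1)) x

theorem strictN_eq {α : Type*} (x : ℕ) (f : ℕ → α) : strictN x f = f x := by
  cases x <;> rfl

/-- `f lo`, `f (lo + 1)`, …, `f (lo + len - 1)` are all true -/
def allFrom (lo len : ℕ) (f : ℕ → Bool) : Bool :=
  Nat.rec true (fun i ih => cond (f (Nat.add lo i)) ih false) len

/-- the product of the matrix with the columns `cs` and the vector `x` -/
def mv (cs : List ℕ) (x : ℕ) : ℕ :=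
  List.rec (motive := fun _ => ℕ → ℕ) (fun _ => 0)
    (fun c _ ih x => Nat.xor (cond (Nat.beq (Nat.mod x 2) 1) c 0) (ih (Nat.div x 2))) cs x

/-- the image of the vector `x` under the product of the matrices selected by the bits of `a`, the first matrix
acting last -/
def mact (ms : List (List ℕ)) (a x : ℕ) : ℕ :=
  List.rec (motive := fun _ => ℕ → ℕ) (fun _ => x)
    (fun m _ ih a => cond (Nat.beq (Nat.mod a 2) 1) (mv m (ih (Nat.div a 2))) (ih (Nat.div a 2))) ms a

/-- the images of the eleven basis vectors -/
def sig (ms : List (List ℕ)) (a : ℕ) : List ℕ := (List.range 11).map fun j => mact ms a (2 ^ j)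

/-- the matrix number `a` is an involution or the identity, tested on the basis -/
def invB (ms : List (List ℕ)) (a : ℕ) : Bool :=
  (List.range 11).all fun j => Nat.beq (mact ms a (mact ms a (2 ^ j))) (2 ^ j)

/-- `x ↦ M x + x` for the matrix number `a` -/
def phi (ms : List (List ℕ)) (a x : ℕ) : ℕ := Nat.xor (mact ms a x) x

/-- no non-trivial combination of the vectors of the two lists vanishes in both -/
def indepB (ys zs : List ℕ) : Bool :=
  allFrom 1 (2 ^ ys.length - 1) fun j => !(Nat.beq (mv ys j) 0 && Nat.beq (mv zs j) 0)

/-- the list of the values, evaluated -/
def evalL (f : ℕ → ℕ) : List ℕ → (List ℕ → Bool) → Bool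
  | [], k => k []
  | x :: xs, k => strictN (f x) fun y => evalL f xs fun ys => k (y :: ys)

/-- the images of the vectors of `xs` under `M + 1` and `N + 1`, for the matrices number `a` and `b`, are linearly
independent (as pairs) -/
def rankB (ms : List (List ℕ)) (a b : ℕ) (xs : List ℕ) : Bool :=
  xs.all (fun x => Nat.blt x 2048) &&
    evalL (phi ms a) xs fun ys => evalL (phi ms b) xs fun zs => indepB ys zs

/-- the entry of a table of lists -/
def ent2 (tab : List (List (List ℕ))) (a b : ℕ) : List ℕ := (tab.getD a []).getD b []

/-- the test of the entry for the matrices number `a ≠ b`: a basis vector on which they do not commute, or five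
vectors that show that the common fixed space has dimension at most 6 -/
def pairB (ms : List (List ℕ)) (a b : ℕ) : List ℕ → Bool
  | [] => false
  | [j] => Nat.blt j 11 && !(Nat.beq (mact ms a (mact ms b (2 ^ j))) (mact ms b (mact ms a (2 ^ j))))
  | xs => Nat.beq xs.length 5 && rankB ms a b xs

/-- the test: `invs` contains the numbers other than 0 of the matrices whose square is 1; the 128 matrices are
different (`sigs` are their images of the basis); each matrix of `invs` fixes at most `2 ^ 7` vectors (`one`); two
different matrices of `invs` do not commute or fix at most `2 ^ 6` vectors in common (`tab`); at most 15 matrices of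
`invs` are allowed to commute with 15 or more others -/
def offFacts (ms : List (List ℕ)) (invs : List ℕ) (sigs one : List (List ℕ)) (tab : List (List (List ℕ))) : Bool :=
  (allFrom 1 127 fun a => invs.contains a || !(invB ms a)) &&
  (allFrom 0 128 fun a => sig ms a == sigs.getD a []) &&
  (sigs.length == 128 && decide sigs.Nodup) &&
  (invs.all fun a => Nat.blt 0 a && Nat.blt a 128 && Nat.beq (one.getD a []).length 4 && rankB ms a a (one.getD a [])) &&
  (invs.all fun a => invs.all fun b => Nat.beq a b || pairB ms a b (ent2 tab a b)) &&
  Nat.ble ((invs.filter fun a =>
    Nat.ble 15 ((invs.filter fun b => !(Nat.beq a b) && Nat.ble 2 (ent2 tab a b).length).length)).length) 15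

end Cfsg.Agent.Lib.Lead.Fi23Syl
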