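import Cfsg.Agent.Lib.Lead.Fi23Syl.Mat

/-!
# Matrices over the field with two elements, as lists of bit masks: linearity and the bound from the rank

`mv` and `mact` are additive for the bitwise exclusive or.  If the images of `r` vectors under `(M + 1, N + 1)` are
linearly independent, the common fixed points of `M` and `N` among the `2 ^ 11` vectors are at most `2 ^ (11 - r)`.
-/

set_option autoImplicit false
set_option maxRecDepth 100000

namespace Cfsg.Agent.Lib.Lead.Fi23Syl

theorem beq01 : Nat.beq 0 1 = false := rfl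

theorem beq11 : Nat.beq 1 1 = true := rfl

theorem allFrom_succ (lo len : ℕ) (f : ℕ → Bool) :
    allFrom lo (len + 1) f = cond (f (lo + len)) (allFrom lo len f) false := rfl

theorem allFrom_iff {lo len : ℕ} {f : ℕ → Bool} :
    allFrom lo len f = true ↔ ∀ i, lo ≤ i → i < lo + len → f i = true := by
  induction len with
  | zero =>
    constructor
    · intro _ i h1 h2; omega
    · intro _; rfl
  | succ k ih =>
    rw [allFrom_succ]
    constructor
    · intro h i h1 h2
      cases hf : f (lo + k) with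
      | false => rw [hf] at h; exact absurd h (by simp)
      | true =>
        rw [hf, cond_true] at h
        by_cases hik : i = lo + k
        · rw [hik]; exact hf
        · exact ih.1 h i h1 (by omega)
    · intro h
      rw [h (lo + k) (by omega) (by omega), cond_true]
      exact ih.2 fun i h1 h2 => h i h1 (by omega)

/-! ### the product of a matrix and a vector -/

theorem mv_nil (x : ℕ) : mv [] x = 0 := rfl

theorem mv_cons (c : ℕ) (cs : List ℕ) (x : ℕ) :
    mv (c :: cs) x = (cond (Nat.beq (x % 2) 1) c 0) ^^^ mv cs (x / 2) := rfl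

theorem mv_zero : ∀ cs : List ℕ, mv cs 0 = 0
  | [] => rfl
  | c :: cs => by
    rw [mv_cons, Nat.zero_div, mv_zero cs, Nat.zero_mod, beq01, cond_false]
    rfl

theorem cond_bit_xor (c x y : ℕ) :
    cond (Nat.beq ((x ^^^ y) % 2) 1) c 0 = cond (Nat.beq (x % 2) 1) c 0 ^^^ cond (Nat.beq (y % 2) 1) c 0 := by
  rw [Nat.xor_mod_two_eq]
  have hx : x % 2 < 2 := Nat.mod_lt _ (by norm_num)
  have hy : y % 2 < 2 := Nat.mod_lt _ (by norm_num)
  have hxy : (x + y) % 2 = (x % 2 + y % 2) % 2 := Nat.add_mod x y 2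
  rw [hxy]
  obtain hx0 | hx1 : x % 2 = 0 ∨ x % 2 = 1 := by omega
  · obtain hy0 | hy1 : y % 2 = 0 ∨ y % 2 = 1 := by omega
    · rw [hx0, hy0]; simp [beq01]
    · rw [hx0, hy1]; simp [beq01, beq11]
  · obtain hy0 | hy1 : y % 2 = 0 ∨ y % 2 = 1 := by omega
    · rw [hx1, hy0]; simp [beq01, beq11]
    · rw [hx1, hy1]; simp [beq01, beq11]

theorem mv_xor : ∀ (cs : List ℕ) (x y : ℕ), mv cs (x ^^^ y) = mv cs x ^^^ mv cs y
  | [], _, _ => by simp [mv_nil]
  | c :: cs, x, y => by
    rw [mv_cons, mv_cons, mv_cons, Nat.xor_div_two, mv_xor cs, cond_bit_xor]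
    ac_rfl

theorem mv_lt {N : ℕ} : ∀ (cs : List ℕ), (∀ c ∈ cs, c < 2 ^ N) → ∀ x : ℕ, mv cs x < 2 ^ N
  | [], _, _ => by rw [mv_nil]; exact Nat.pos_of_ne_zero (by positivity)
  | c :: cs, h, x => by
    rw [mv_cons]
    apply Nat.xor_lt_two_pow
    · cases Nat.beq (x % 2) 1 with
      | true => exact h c List.mem_cons_self
      | false => exact Nat.pos_of_ne_zero (by positivity)
    · exact mv_lt cs (fun c' hc' => h c' (List.mem_cons_of_mem _ hc')) _

/-- an additive map commutes with the combinations -/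
theorem map_mv (f : ℕ → ℕ) (hf : ∀ x y, f (x ^^^ y) = f x ^^^ f y) (h0 : f 0 = 0) :
    ∀ (xs : List ℕ) (j : ℕ), f (mv xs j) = mv (xs.map f) j
  | [], _ => by rw [mv_nil, List.map_nil, mv_nil, h0]
  | x :: xs, j => by
    rw [mv_cons, List.map_cons, mv_cons, hf, map_mv f hf h0 xs]
    cases Nat.beq (j % 2) 1 with
    | true => rfl
    | false => simp [h0]

/-! ### the products of the matrices -/

theorem mact_nil (a x : ℕ) : mact [] a x = x := rfl

theorem mact_cons (m : List ℕ) (ms : List (List ℕ)) (a x : ℕ) :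
    mact (m :: ms) a x = cond (Nat.beq (a % 2) 1) (mv m (mact ms (a / 2) x)) (mact ms (a / 2) x) := rfl

theorem mact_xor : ∀ (ms : List (List ℕ)) (a x y : ℕ), mact ms a (x ^^^ y) = mact ms a x ^^^ mact ms a y
  | [], _, _, _ => rfl
  | m :: ms, a, x, y => by
    rw [mact_cons, mact_cons, mact_cons, mact_xor ms]
    cases Nat.beq (a % 2) 1 with
    | true => exact mv_xor m _ _
    | false => rfl

theorem mact_zero_vec : ∀ (ms : List (List ℕ)) (a : ℕ), mact ms a 0 = 0
  | [], _ => rfl
  | m :: ms, a => by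
    rw [mact_cons, mact_zero_vec ms]
    cases Nat.beq (a % 2) 1 with
    | true => exact mv_zero m
    | false => rfl

theorem mact_zero : ∀ (ms : List (List ℕ)) (x : ℕ), mact ms 0 x = x
  | [], _ => rfl
  | m :: ms, x => by
    rw [mact_cons, Nat.zero_div, mact_zero ms, Nat.zero_mod, beq01, cond_false]

theorem mact_lt {N : ℕ} : ∀ (ms : List (List ℕ)), (∀ m ∈ ms, ∀ c ∈ m, c < 2 ^ N) → ∀ (a x : ℕ), x < 2 ^ N →
    mact ms a x < 2 ^ N
  | [], _, _, _, hx => hx
  | m :: ms, h, a, x, hx => by
    rw [mact_cons]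
    have ih := mact_lt ms (fun m' hm' => h m' (List.mem_cons_of_mem _ hm')) (a / 2) x hx
    cases Nat.beq (a % 2) 1 with
    | true => exact mv_lt m (h m List.mem_cons_self) _
    | false => exact ih

theorem phi_xor (ms : List (List ℕ)) (a x y : ℕ) : phi ms a (x ^^^ y) = phi ms a x ^^^ phi ms a y := by
  show mact ms a (x ^^^ y) ^^^ (x ^^^ y) = (mact ms a x ^^^ x) ^^^ (mact ms a y ^^^ y)
  rw [mact_xor]
  ac_rfl

theorem phi_zero (ms : List (List ℕ)) (a : ℕ) : phi ms a 0 = 0 := by
  show mact ms a 0 ^^^ 0 = 0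
  rw [mact_zero_vec]
  rfl

theorem phi_eq_zero_iff (ms : List (List ℕ)) (a x : ℕ) : phi ms a x = 0 ↔ mact ms a x = x :=
  Nat.xor_eq_zero_iff

/-! ### the bound from the rank -/

theorem evalL_eq (f : ℕ → ℕ) : ∀ (xs : List ℕ) (k : List ℕ → Bool), evalL f xs k = k (xs.map f)
  | [], _ => rfl
  | x :: xs, k => by
    rw [evalL, strictN_eq, evalL_eq f xs]
    rfl

/-- the common fixed points of the matrices number `a` and `b` -/
def fixSet (ms : List (List ℕ)) (a b : ℕ) : Finset ℕ :=
  (Finset.range 2048).filter fun z => mact ms a z = z ∧ mact ms b z = z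

theorem rank_bound (ms : List (List ℕ)) (a b : ℕ) (xs : List ℕ) (h : rankB ms a b xs = true) :
    (fixSet ms a b).card * 2 ^ xs.length ≤ 2048 := by
  rw [rankB, Bool.and_eq_true, evalL_eq, evalL_eq] at h
  obtain ⟨hlt, hind⟩ := h
  have hlt' : ∀ x ∈ xs, x < 2 ^ 11 := by
    intro x hx
    have := List.all_eq_true.1 hlt x hx
    simpa [Nat.blt] using this
  rw [indepB, allFrom_iff] at hind
  have hlen : (xs.map (phi ms a)).length = xs.length := List.length_map _
  rw [hlen] at hind
  have hpos : 0 < 2 ^ xs.length := Nat.pos_of_ne_zero (by positivity)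
  have key : ∀ j, j ≠ 0 → j < 2 ^ xs.length →
      ¬ (mv (xs.map (phi ms a)) j = 0 ∧ mv (xs.map (phi ms b)) j = 0) := by
    intro j hj0 hj ⟨h1, h2⟩
    have := hind j (by omega) (by omega)
    rw [h1, h2] at this
    simp at this
  -- the injection
  have hcard : ((fixSet ms a b) ×ˢ Finset.range (2 ^ xs.length)).card ≤ (Finset.range 2048).card := by
    apply Finset.card_le_card_of_injOn (fun p => p.1 ^^^ mv xs p.2)
    · intro p hp
      rw [Finset.mem_coe, Finset.mem_product, fixSet, Finset.mem_filter, Finset.mem_range] at hp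
      rw [Finset.mem_coe, Finset.mem_range]
      exact Nat.xor_lt_two_pow (n := 11) hp.1.1 (mv_lt xs hlt' _)
    · intro p hp p' hp' heq
      rw [Finset.mem_coe, Finset.mem_product, fixSet, Finset.mem_filter, Finset.mem_range, Finset.mem_range] at hp hp'
      obtain ⟨⟨_, hza, hzb⟩, hj⟩ := hp
      obtain ⟨⟨_, hza', hzb'⟩, hj'⟩ := hp'
      have heq' : p.1 ^^^ mv xs p.2 = p'.1 ^^^ mv xs p'.2 := heq
      have hA : ∀ c : ℕ, (mact ms c p.1 = p.1) → (mact ms c p'.1 = p'.1) →
          mv (xs.map (phi ms c)) (p.2 ^^^ p'.2) = 0 := by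
        intro c h1 h2
        have e1 := congrArg (phi ms c) heq'
        rw [phi_xor, phi_xor, (phi_eq_zero_iff ms c _).2 h1, (phi_eq_zero_iff ms c _).2 h2, Nat.zero_xor,
          Nat.zero_xor, map_mv (phi ms c) (phi_xor ms c) (phi_zero ms c),
          map_mv (phi ms c) (phi_xor ms c) (phi_zero ms c)] at e1
        rw [mv_xor, e1, Nat.xor_self]
      have hjj : p.2 = p'.2 := by
        by_contra hne
        have hx0 : p.2 ^^^ p'.2 ≠ 0 := fun h0 => hne (Nat.xor_eq_zero_iff.1 h0)
        exact key _ hx0 (Nat.xor_lt_two_pow hj hj') ⟨hA a hza hza', hA b hzb hzb'⟩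
      have hzz : p.1 = p'.1 := by
        rw [hjj] at heq'
        exact Nat.xor_left_inj.1 heq'
      exact Prod.ext hzz hjj
  rw [Finset.card_product, Finset.card_range, Finset.card_range] at hcard
  exact hcard

end Cfsg.Agent.Lib.Lead.Fi23Syl
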