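import Cfsg.Agent.Lib.Lead.Fi23Syl.Abstract

/-!
# The normal subgroup `V` is the only large elementary abelian subgroup

In the setting `PSetup`, an elementary abelian subgroup `B` of `T` of order at least `2 ^ 11` is `V`: the elements of
`B` are `r a * elV x`; the numbers `a` that occur are numbers of involutions that commute pairwise, the vectors `x` with
`elV x ∈ B` are fixed by all of them, and the test `offFacts` bounds the product of the two numbers by `2 ^ 10` unless
only `a = 0` occurs.
-/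

set_option autoImplicit false
set_option maxRecDepth 100000

namespace Cfsg.Agent.Lib.Lead.Fi23Syl

open Cfsg

variable {G : Type*} [Group G]

namespace PSetup

variable (S : PSetup G)

theorem two_pow_lt {j : ℕ} (hj : j < 11) : 2 ^ j < 2048 :=
  calc 2 ^ j < 2 ^ 11 := Nat.pow_lt_pow_right (by norm_num) hj
    _ = 2048 := by norm_num

/-- an element `r a * elV u` of order at most 2 acts as an involution -/
theorem invB_of_sq (a u : ℕ) (h : (S.r a * S.elV u) ^ 2 = 1) : invB S.ms a = true := by
  have key : ∀ x < 2048, mact S.ms a (mact S.ms a x) = x := by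
    intro x hx
    apply S.elV_inj (S.mact_lt' a (S.mact_lt' a hx)) hx
    rw [← S.conj_el a u (mact S.ms a x), ← S.conj_el a u x]
    generalize S.r a * S.elV u = b at h ⊢
    have hb : b * b = 1 := by rw [← pow_two]; exact h
    have hbi : b⁻¹ = b := inv_eq_of_mul_eq_one_left hb
    rw [hbi]
    calc b * (b * S.elV x * b) * b = (b * b) * S.elV x * (b * b) := by simp only [mul_assoc]
      _ = S.elV x := by rw [hb, one_mul, mul_one]
  rw [invB, List.all_eq_true]
  intro j hj
  rw [key _ (two_pow_lt (List.mem_range.1 hj))]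
  exact Nat.beq_refl _

/-- commuting elements act by commuting matrices -/
theorem comm_mact (a u a' u' : ℕ)
    (h : (S.r a * S.elV u) * (S.r a' * S.elV u') = (S.r a' * S.elV u') * (S.r a * S.elV u)) :
    ∀ x < 2048, mact S.ms a (mact S.ms a' x) = mact S.ms a' (mact S.ms a x) := by
  intro x hx
  apply S.elV_inj (S.mact_lt' a (S.mact_lt' a' hx)) (S.mact_lt' a' (S.mact_lt' a hx))
  rw [← S.conj_el a u, ← S.conj_el a' u' x, ← S.conj_el a' u' (mact S.ms a x), ← S.conj_el a u x]
  generalize S.r a * S.elV u = b at h ⊢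
  generalize S.r a' * S.elV u' = b' at h ⊢
  generalize S.elV x = e
  have h1 : b * (b' * e * b'⁻¹) * b⁻¹ = (b * b') * e * (b * b')⁻¹ := by group
  have h2 : b' * (b * e * b⁻¹) * b'⁻¹ = (b' * b) * e * (b' * b)⁻¹ := by group
  rw [h1, h2, h]

/-- a vector whose element commutes with `r a * elV u` is fixed by the matrix number `a` -/
theorem fix_of_comm (a u w : ℕ) (hw : w < 2048)
    (h : (S.r a * S.elV u) * S.elV w = S.elV w * (S.r a * S.elV u)) : mact S.ms a w = w := by
  apply S.elV_inj (S.mact_lt' a hw) hw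
  rw [← S.conj_el a u w, h, mul_inv_cancel_right]

/-- two different commuting involutions of the list: the entry of the table has at least two members, and the common
fixed space has at most `2 ^ 6` vectors -/
theorem pair_facts {a a' : ℕ} (ha : a ∈ S.invs) (ha' : a' ∈ S.invs) (hne : a ≠ a')
    (hc : ∀ x < 2048, mact S.ms a (mact S.ms a' x) = mact S.ms a' (mact S.ms a x)) :
    2 ≤ (ent2 S.tab a a').length ∧ (fixSet S.ms a a').card * 32 ≤ 2048 := by
  have h := S.off.pair_ok a ha a' ha' hne
  generalize ent2 S.tab a a' = xs at h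
  match xs, h with
  | [], h => simp [pairB] at h
  | [j], h =>
    rw [pairB, Bool.and_eq_true] at h
    obtain ⟨hj, hn⟩ := h
    have hj' : j < 11 := Nat.le_of_ble_eq_true hj
    rw [hc _ (two_pow_lt hj'), Nat.beq_refl] at hn
    simp at hn
  | x :: y :: l, h =>
    rw [pairB, Bool.and_eq_true] at h
    rotate_left
    · intro h0; exact List.cons_ne_nil _ _ h0
    · intro j h0
      exact List.cons_ne_nil _ _ (List.cons.inj h0).2
    obtain ⟨hl, hr⟩ := h
    have hb := rank_bound _ _ _ _ hr
    have hl' : (x :: y :: l).length = 5 := Nat.eq_of_beq_eq_true hl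
    rw [hl'] at hb
    exact ⟨by simp, by simpa using hb⟩

variable [Finite G]

open Classical in
/-- the numbers `a` with an element `r a * elV x` in `B` -/
noncomputable def idxSet (B : Subgroup G) : Finset ℕ :=
  (Finset.range 128).filter fun a => ∃ x < 2048, S.r a * S.elV x ∈ B

open Classical in
/-- the vectors `x` with `elV x` in `B` -/
noncomputable def vecSet (B : Subgroup G) : Finset ℕ :=
  (Finset.range 2048).filter fun x => S.elV x ∈ B

omit [Finite G] in
theorem mem_idxSet {B : Subgroup G} {a : ℕ} :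
    a ∈ S.idxSet B ↔ a < 128 ∧ ∃ x < 2048, S.r a * S.elV x ∈ B := by
  classical
  rw [idxSet, Finset.mem_filter, Finset.mem_range]

omit [Finite G] in
theorem mem_vecSet {B : Subgroup G} {x : ℕ} : x ∈ S.vecSet B ↔ x < 2048 ∧ S.elV x ∈ B := by
  classical
  rw [vecSet, Finset.mem_filter, Finset.mem_range]

/-- the order of `B` is at most the product of the two numbers -/
theorem card_le_mul (B : Subgroup G) (hBT : B ≤ S.T) :
    Nat.card B ≤ (S.idxSet B).card * (S.vecSet B).card := by
  classical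
  have hu : ∀ a : ℕ, ∃ u : ℕ, a ∈ S.idxSet B → u < 2048 ∧ S.r a * S.elV u ∈ B := by
    intro a
    by_cases ha : a ∈ S.idxSet B
    · obtain ⟨_, x, hx, hxB⟩ := S.mem_idxSet.1 ha
      exact ⟨x, fun _ => ⟨hx, hxB⟩⟩
    · exact ⟨0, fun h => absurd h ha⟩
  choose u hu using hu
  have hsub : (B : Set G) ⊆
      (((S.idxSet B ×ˢ S.vecSet B).image fun p => S.r p.1 * S.elV (u p.1) * S.elV p.2 : Finset G) : Set G) := by
    intro b hb
    obtain ⟨a, ha, x, hx, rfl⟩ := (S.mem_T_iff b).1 (hBT hb)
    have haI : a ∈ S.idxSet B := S.mem_idxSet.2 ⟨ha, x, hx, hb⟩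
    obtain ⟨hu1, hu2⟩ := hu a haI
    have hw : S.elV (u a ^^^ x) ∈ B := by
      have : S.elV (u a ^^^ x) = (S.r a * S.elV (u a))⁻¹ * (S.r a * S.elV x) := by
        rw [S.elV_xor, mul_inv_rev, S.elV_inv]; group
      rw [this]; exact B.mul_mem (B.inv_mem hu2) hb
    rw [Finset.mem_coe, Finset.mem_image]
    refine ⟨(a, u a ^^^ x),
      Finset.mem_product.2 ⟨haI, S.mem_vecSet.2 ⟨Nat.xor_lt_two_pow (n := 11) hu1 hx, hw⟩⟩, ?_⟩
    show S.r a * S.elV (u a) * S.elV (u a ^^^ x) = S.r a * S.elV x
    rw [S.elV_xor, mul_assoc, ← mul_assoc (S.elV (u a)), S.elV_mul_self, one_mul]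
  have h1 : Nat.card B = (B : Set G).ncard := Nat.card_coe_set_eq _
  rw [h1]
  calc (B : Set G).ncard ≤ _ := Set.ncard_le_ncard hsub (Finset.finite_toSet _)
    _ = ((S.idxSet B ×ˢ S.vecSet B).image fun p => S.r p.1 * S.elV (u p.1) * S.elV p.2).card :=
      Set.ncard_coe_finset _
    _ ≤ (S.idxSet B ×ˢ S.vecSet B).card := Finset.card_image_le
    _ = _ := Finset.card_product _ _

omit [Finite G] in
theorem comm_of {B : Subgroup G} (hB : IsElementaryAbelian 2 B) {b b' : G} (hb : b ∈ B) (hb' : b' ∈ B) :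
    b * b' = b' * b :=
  congrArg Subtype.val (hB.1.is_comm.comm (⟨b, hb⟩ : B) ⟨b', hb'⟩)

omit [Finite G] in
theorem vecSet_subset {B : Subgroup G} (hB : IsElementaryAbelian 2 B) {a a' : ℕ} (ha : a ∈ S.idxSet B)
    (ha' : a' ∈ S.idxSet B) : S.vecSet B ⊆ fixSet S.ms a a' := by
  intro w hw
  obtain ⟨hw1, hw2⟩ := S.mem_vecSet.1 hw
  obtain ⟨_, x, _, hx⟩ := S.mem_idxSet.1 ha
  obtain ⟨_, x', _, hx'⟩ := S.mem_idxSet.1 ha'
  rw [fixSet, Finset.mem_filter, Finset.mem_range]
  exact ⟨hw1, S.fix_of_comm a x w hw1 (comm_of hB hx hw2), S.fix_of_comm a' x' w hw1 (comm_of hB hx' hw2)⟩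

omit [Finite G] in
theorem idx_mem_invs {B : Subgroup G} (hB : IsElementaryAbelian 2 B) {a : ℕ} (ha : a ∈ S.idxSet B)
    (h0 : a ≠ 0) : a ∈ S.invs := by
  obtain ⟨ha1, x, _, hx⟩ := S.mem_idxSet.1 ha
  exact S.off.inv_mem a (Nat.pos_of_ne_zero h0) ha1 (S.invB_of_sq a x (hB.2 _ hx))

omit [Finite G] in
theorem idx_pair {B : Subgroup G} (hB : IsElementaryAbelian 2 B) {a a' : ℕ} (ha : a ∈ S.idxSet B)
    (ha' : a' ∈ S.idxSet B) (h0 : a ≠ 0) (h0' : a' ≠ 0) (hne : a ≠ a') :
    2 ≤ (ent2 S.tab a a').length ∧ (fixSet S.ms a a').card * 32 ≤ 2048 := by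
  obtain ⟨_, x, _, hx⟩ := S.mem_idxSet.1 ha
  obtain ⟨_, x', _, hx'⟩ := S.mem_idxSet.1 ha'
  exact S.pair_facts (S.idx_mem_invs hB ha h0) (S.idx_mem_invs hB ha' h0') hne
    (S.comm_mact a x a' x' (comm_of hB hx hx'))

omit [Finite G] in
/-- at most 15 numbers other than 0 occur -/
theorem card_idx_le {B : Subgroup G} (hB : IsElementaryAbelian 2 B) : ((S.idxSet B).erase 0).card ≤ 15 := by
  classical
  by_contra hcon
  rw [not_le] at hcon
  have hJmem : ∀ a ∈ (S.idxSet B).erase 0, a ∈ S.idxSet B ∧ a ≠ 0 :=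
    fun a ha => ⟨Finset.mem_of_mem_erase ha, Finset.ne_of_mem_erase ha⟩
  have hcount : ∀ a ∈ (S.idxSet B).erase 0, 15 ≤ commCount S.invs S.tab a := by
    intro a ha
    have hsub : ((S.idxSet B).erase 0).erase a ⊆
        (S.invs.filter fun b => !(Nat.beq a b) && Nat.ble 2 (ent2 S.tab a b).length).toFinset := by
      intro b hb
      have hbJ := Finset.mem_of_mem_erase hb
      have hba : b ≠ a := Finset.ne_of_mem_erase hb
      rw [List.mem_toFinset, List.mem_filter]
      refine ⟨S.idx_mem_invs hB (hJmem b hbJ).1 (hJmem b hbJ).2, ?_⟩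
      have hp := (S.idx_pair hB (hJmem a ha).1 (hJmem b hbJ).1 (hJmem a ha).2 (hJmem b hbJ).2 (Ne.symm hba)).1
      rw [Bool.and_eq_true]
      constructor
      · have : Nat.beq a b = false := by
          cases h : Nat.beq a b
          · rfl
          · exact absurd (Nat.eq_of_beq_eq_true h) (Ne.symm hba)
        rw [this]; rfl
      · exact Nat.ble_eq_true_of_le hp
    have h1 := Finset.card_le_card hsub
    have h2 := List.toFinset_card_le
      (S.invs.filter fun b => !(Nat.beq a b) && Nat.ble 2 (ent2 S.tab a b).length)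
    rw [Finset.card_erase_of_mem ha] at h1
    unfold commCount
    omega
  have hsub2 : (S.idxSet B).erase 0 ⊆
      (S.invs.filter fun a => Nat.ble 15 (commCount S.invs S.tab a)).toFinset := by
    intro a ha
    rw [List.mem_toFinset, List.mem_filter]
    exact ⟨S.idx_mem_invs hB (hJmem a ha).1 (hJmem a ha).2, Nat.ble_eq_true_of_le (hcount a ha)⟩
  have h1 := Finset.card_le_card hsub2
  have h2 := List.toFinset_card_le (S.invs.filter fun a => Nat.ble 15 (commCount S.invs S.tab a))
  have h3 := S.off.cnt_ok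
  omega

/-- an elementary abelian subgroup of `T` of order at least `2 ^ 11` is `V` -/
theorem uniq (B : Subgroup G) (hBT : B ≤ S.T) (hB : IsElementaryAbelian 2 B) (hcard : 2 ^ 11 ≤ Nat.card B) :
    B = S.V := by
  classical
  have hmul := S.card_le_mul B hBT
  have hI := S.card_idx_le hB
  have hI' : (S.idxSet B).card ≤ ((S.idxSet B).erase 0).card + 1 := by
    have := Finset.pred_card_le_card_erase (s := S.idxSet B) (a := 0)
    omega
  by_cases hJ : (S.idxSet B).erase 0 = ∅
  · have hle : B ≤ S.V := by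
      intro b hb
      obtain ⟨a, ha, x, hx, rfl⟩ := (S.mem_T_iff b).1 (hBT hb)
      have haI : a ∈ S.idxSet B := S.mem_idxSet.2 ⟨ha, x, hx, hb⟩
      have ha0 : a = 0 := by
        by_contra h0
        have : a ∈ (S.idxSet B).erase 0 := Finset.mem_erase.2 ⟨h0, haI⟩
        rw [hJ] at this
        exact absurd this (Finset.notMem_empty _)
      subst ha0
      have : S.r 0 = 1 := elP_zero 2 S.sl
      rw [this, one_mul]
      exact S.elV_mem x
    have hcV := S.card_V
    exact Subgroup.eq_of_le_of_card_ge hle (by rw [hcV]; exact hcard)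
  · exfalso
    obtain ⟨a, ha⟩ := Finset.nonempty_iff_ne_empty.2 hJ
    have haI := Finset.mem_of_mem_erase ha
    have ha0 := Finset.ne_of_mem_erase ha
    have hone := (S.off.one_ok a (S.idx_mem_invs hB haI ha0)).2.2
    have hW1 := Finset.card_le_card (S.vecSet_subset hB haI haI)
    have h2048 : (2 : ℕ) ^ 11 = 2048 := by norm_num
    by_cases hJ1 : ((S.idxSet B).erase 0).card ≤ 1
    · have : Nat.card B ≤ 2 * 128 :=
        calc Nat.card B ≤ (S.idxSet B).card * (S.vecSet B).card := hmul
          _ ≤ 2 * 128 := Nat.mul_le_mul (by omega) (by omega)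
      omega
    · have h1 : 1 < ((S.idxSet B).erase 0).card := by omega
      obtain ⟨a', ha', hne⟩ := Finset.exists_mem_ne h1 a
      have hp := (S.idx_pair hB haI (Finset.mem_of_mem_erase ha') ha0 (Finset.ne_of_mem_erase ha')
        (Ne.symm hne)).2
      have hW2 := Finset.card_le_card (S.vecSet_subset hB haI (Finset.mem_of_mem_erase ha'))
      have : Nat.card B ≤ 16 * 64 :=
        calc Nat.card B ≤ (S.idxSet B).card * (S.vecSet B).card := hmul
          _ ≤ 16 * 64 := Nat.mul_le_mul (by omega) (by omega)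
      omega

end PSetup

end Cfsg.Agent.Lib.Lead.Fi23Syl
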