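import Cfsg.Agent.Lib.Lead.Fi23Syl.FS

/-! # The Sylow 2-subgroups of Fi₂₃: the checks of the relations of the element number 0, part 1 (generated) -/

set_option autoImplicit false
set_option maxRecDepth 100000

namespace Cfsg.Agent.Fi23Syl

open Cfsg.Agent.PF Cfsg.Agent.Lib.Helper6 Cfsg.Agent.Lib.Helper6.TC
open Cfsg.Agent.PL (Acts evalF)
open Cfsg.Agent.Fi23Out (P)
open Cfsg.Agent.Lib.Lead.Fi23Syl

theorem cj0_4_0 : allR 0 5279 (fun q => Nat.beq ((fun q => g0 (g4 q)) q) ((fun q => evW FS1 80888 (g0 q)) q)) = true := by decide +kernel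

theorem cj0_4_1 : allR 5279 5279 (fun q => Nat.beq ((fun q => g0 (g4 q)) q) ((fun q => evW FS1 80888 (g0 q)) q)) = true := by decide +kernel

theorem cj0_4_2 : allR 10558 5279 (fun q => Nat.beq ((fun q => g0 (g4 q)) q) ((fun q => evW FS1 80888 (g0 q)) q)) = true := by decide +kernel

theorem cj0_4_3 : allR 15837 5279 (fun q => Nat.beq ((fun q => g0 (g4 q)) q) ((fun q => evW FS1 80888 (g0 q)) q)) = true := by decide +kernel

theorem cj0_4_4 : allR 21116 5279 (fun q => Nat.beq ((fun q => g0 (g4 q)) q) ((fun q => evW FS1 80888 (g0 q)) q)) = true := by decide +kernel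

theorem cj0_4_5 : allR 26395 5276 (fun q => Nat.beq ((fun q => g0 (g4 q)) q) ((fun q => evW FS1 80888 (g0 q)) q)) = true := by decide +kernel

theorem cj0_5_0 : allR 0 7918 (fun q => Nat.beq ((fun q => g0 (g5 q)) q) ((fun q => evW FS1 2000 (g0 q)) q)) = true := by decide +kernel

theorem cj0_5_1 : allR 7918 7918 (fun q => Nat.beq ((fun q => g0 (g5 q)) q) ((fun q => evW FS1 2000 (g0 q)) q)) = true := by decide +kernel

theorem cj0_5_2 : allR 15836 7918 (fun q => Nat.beq ((fun q => g0 (g5 q)) q) ((fun q => evW FS1 2000 (g0 q)) q)) = true := by decide +kernel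

theorem cj0_5_3 : allR 23754 7917 (fun q => Nat.beq ((fun q => g0 (g5 q)) q) ((fun q => evW FS1 2000 (g0 q)) q)) = true := by decide +kernel

theorem cj0_6_0 : allR 0 7918 (fun q => Nat.beq ((fun q => g0 (g6 q)) q) ((fun q => evW FS1 30048 (g0 q)) q)) = true := by decide +kernel

theorem cj0_6_1 : allR 7918 7918 (fun q => Nat.beq ((fun q => g0 (g6 q)) q) ((fun q => evW FS1 30048 (g0 q)) q)) = true := by decide +kernel

theorem cj0_6_2 : allR 15836 7918 (fun q => Nat.beq ((fun q => g0 (g6 q)) q) ((fun q => evW FS1 30048 (g0 q)) q)) = true := by decide +kernel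

theorem cj0_6_3 : allR 23754 7917 (fun q => Nat.beq ((fun q => g0 (g6 q)) q) ((fun q => evW FS1 30048 (g0 q)) q)) = true := by decide +kernel

theorem cj0_7_0 : allR 0 7918 (fun q => Nat.beq ((fun q => g0 (g7 q)) q) ((fun q => evW FS7 459 (g0 q)) q)) = true := by decide +kernel

theorem cj0_7_1 : allR 7918 7918 (fun q => Nat.beq ((fun q => g0 (g7 q)) q) ((fun q => evW FS7 459 (g0 q)) q)) = true := by decide +kernel

theorem cj0_7_2 : allR 15836 7918 (fun q => Nat.beq ((fun q => g0 (g7 q)) q) ((fun q => evW FS7 459 (g0 q)) q)) = true := by decide +kernel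

theorem cj0_7_3 : allR 23754 7917 (fun q => Nat.beq ((fun q => g0 (g7 q)) q) ((fun q => evW FS7 459 (g0 q)) q)) = true := by decide +kernel


end Cfsg.Agent.Fi23Syl
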