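import Cfsg.Agent.Lib.Lead.Fi23Syl.FS

/-! # The Sylow 2-subgroups of Fi₂₃: the checks of the relations of the element number 3 (generated) -/

set_option autoImplicit false
set_option maxRecDepth 100000

namespace Cfsg.Agent.Fi23Syl

open Cfsg.Agent.PF Cfsg.Agent.Lib.Helper6 Cfsg.Agent.Lib.Helper6.TC
open Cfsg.Agent.PL (Acts evalF)
open Cfsg.Agent.Fi23Out (P)
open Cfsg.Agent.Lib.Lead.Fi23Syl

theorem pw3_0 : allR 0 15836 (fun q => Nat.beq ((fun q => g3 (g3 q)) q) ((fun q => evW FS4 3152 q) q)) = true := by decide +kernel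

theorem pw3_1 : allR 15836 15835 (fun q => Nat.beq ((fun q => g3 (g3 q)) q) ((fun q => evW FS4 3152 q) q)) = true := by decide +kernel

theorem cj3_4_0 : allR 0 15836 (fun q => Nat.beq ((fun q => g3 (g4 q)) q) ((fun q => evW FS4 3593 (g3 q)) q)) = true := by decide +kernel

theorem cj3_4_1 : allR 15836 15835 (fun q => Nat.beq ((fun q => g3 (g4 q)) q) ((fun q => evW FS4 3593 (g3 q)) q)) = true := by decide +kernel

theorem cj3_5_0 : allR 0 15836 (fun q => Nat.beq ((fun q => g3 (g5 q)) q) ((fun q => evW FS4 1714 (g3 q)) q)) = true := by decide +kernel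

theorem cj3_5_1 : allR 15836 15835 (fun q => Nat.beq ((fun q => g3 (g5 q)) q) ((fun q => evW FS4 1714 (g3 q)) q)) = true := by decide +kernel

theorem cj3_6_0 : allR 0 15836 (fun q => Nat.beq ((fun q => g3 (g6 q)) q) ((fun q => evW FS4 1772 (g3 q)) q)) = true := by decide +kernel

theorem cj3_6_1 : allR 15836 15835 (fun q => Nat.beq ((fun q => g3 (g6 q)) q) ((fun q => evW FS4 1772 (g3 q)) q)) = true := by decide +kernel

theorem cj3_7_0 : allR 0 31671 (fun q => Nat.beq ((fun q => g3 (g7 q)) q) ((fun q => evW FS7 1 (g3 q)) q)) = true := by decide +kernel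

theorem cj3_8_0 : allR 0 31671 (fun q => Nat.beq ((fun q => g3 (g8 q)) q) ((fun q => evW FS7 8 (g3 q)) q)) = true := by decide +kernel

theorem cj3_9_0 : allR 0 15836 (fun q => Nat.beq ((fun q => g3 (g9 q)) q) ((fun q => evW FS7 748 (g3 q)) q)) = true := by decide +kernel

theorem cj3_9_1 : allR 15836 15835 (fun q => Nat.beq ((fun q => g3 (g9 q)) q) ((fun q => evW FS7 748 (g3 q)) q)) = true := by decide +kernel

theorem cj3_10_0 : allR 0 31671 (fun q => Nat.beq ((fun q => g3 (g10 q)) q) ((fun q => evW FS7 2 (g3 q)) q)) = true := by decide +kernel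

theorem cj3_11_0 : allR 0 15836 (fun q => Nat.beq ((fun q => g3 (g11 q)) q) ((fun q => evW FS7 882 (g3 q)) q)) = true := by decide +kernel

theorem cj3_11_1 : allR 15836 15835 (fun q => Nat.beq ((fun q => g3 (g11 q)) q) ((fun q => evW FS7 882 (g3 q)) q)) = true := by decide +kernel

theorem cj3_12_0 : allR 0 15836 (fun q => Nat.beq ((fun q => g3 (g12 q)) q) ((fun q => evW FS7 917 (g3 q)) q)) = true := by decide +kernel

theorem cj3_12_1 : allR 15836 15835 (fun q => Nat.beq ((fun q => g3 (g12 q)) q) ((fun q => evW FS7 917 (g3 q)) q)) = true := by decide +kernel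

theorem cj3_13_0 : allR 0 31671 (fun q => Nat.beq ((fun q => g3 (g13 q)) q) ((fun q => evW FS7 64 (g3 q)) q)) = true := by decide +kernel

theorem cj3_14_0 : allR 0 31671 (fun q => Nat.beq ((fun q => g3 (g14 q)) q) ((fun q => evW FS7 256 (g3 q)) q)) = true := by decide +kernel

theorem cj3_15_0 : allR 0 31671 (fun q => Nat.beq ((fun q => g3 (g15 q)) q) ((fun q => evW FS7 128 (g3 q)) q)) = true := by decide +kernel

theorem cj3_16_0 : allR 0 15836 (fun q => Nat.beq ((fun q => g3 (g16 q)) q) ((fun q => evW FS7 63 (g3 q)) q)) = true := by decide +kernel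

theorem cj3_16_1 : allR 15836 15835 (fun q => Nat.beq ((fun q => g3 (g16 q)) q) ((fun q => evW FS7 63 (g3 q)) q)) = true := by decide +kernel

theorem cj3_17_0 : allR 0 31671 (fun q => Nat.beq ((fun q => g3 (g17 q)) q) ((fun q => evW FS7 1024 (g3 q)) q)) = true := by decide +kernel


end Cfsg.Agent.Fi23Syl
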