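import Cfsg.Agent.Lib.Lead.Fi23Syl.FS

/-! # The Sylow 2-subgroups of Fi₂₃: the checks of the relations of the element number 4 (generated) -/

set_option autoImplicit false
set_option maxRecDepth 100000

namespace Cfsg.Agent.Fi23Syl

open Cfsg.Agent.PF Cfsg.Agent.Lib.Helper6 Cfsg.Agent.Lib.Helper6.TC
open Cfsg.Agent.PL (Acts evalF)
open Cfsg.Agent.Fi23Out (P)
open Cfsg.Agent.Lib.Lead.Fi23Syl

theorem pw4_0 : allR 0 15836 (fun q => Nat.beq ((fun q => g4 (g4 q)) q) ((fun q => evW FS5 6348 q) q)) = true := by decide +kernel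

theorem pw4_1 : allR 15836 15835 (fun q => Nat.beq ((fun q => g4 (g4 q)) q) ((fun q => evW FS5 6348 q) q)) = true := by decide +kernel

theorem cj4_5_0 : allR 0 15836 (fun q => Nat.beq ((fun q => g4 (g5 q)) q) ((fun q => evW FS5 1509 (g4 q)) q)) = true := by decide +kernel

theorem cj4_5_1 : allR 15836 15835 (fun q => Nat.beq ((fun q => g4 (g5 q)) q) ((fun q => evW FS5 1509 (g4 q)) q)) = true := by decide +kernel

theorem cj4_6_0 : allR 0 15836 (fun q => Nat.beq ((fun q => g4 (g6 q)) q) ((fun q => evW FS5 5394 (g4 q)) q)) = true := by decide +kernel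

theorem cj4_6_1 : allR 15836 15835 (fun q => Nat.beq ((fun q => g4 (g6 q)) q) ((fun q => evW FS5 5394 (g4 q)) q)) = true := by decide +kernel

theorem cj4_7_0 : allR 0 31671 (fun q => Nat.beq ((fun q => g4 (g7 q)) q) ((fun q => evW FS7 1 (g4 q)) q)) = true := by decide +kernel

theorem cj4_8_0 : allR 0 31671 (fun q => Nat.beq ((fun q => g4 (g8 q)) q) ((fun q => evW FS7 4 (g4 q)) q)) = true := by decide +kernel

theorem cj4_9_0 : allR 0 31671 (fun q => Nat.beq ((fun q => g4 (g9 q)) q) ((fun q => evW FS7 2 (g4 q)) q)) = true := by decide +kernel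

theorem cj4_10_0 : allR 0 15836 (fun q => Nat.beq ((fun q => g4 (g10 q)) q) ((fun q => evW FS7 748 (g4 q)) q)) = true := by decide +kernel

theorem cj4_10_1 : allR 15836 15835 (fun q => Nat.beq ((fun q => g4 (g10 q)) q) ((fun q => evW FS7 748 (g4 q)) q)) = true := by decide +kernel

theorem cj4_11_0 : allR 0 31671 (fun q => Nat.beq ((fun q => g4 (g11 q)) q) ((fun q => evW FS7 128 (g4 q)) q)) = true := by decide +kernel

theorem cj4_12_0 : allR 0 15836 (fun q => Nat.beq ((fun q => g4 (g12 q)) q) ((fun q => evW FS7 1265 (g4 q)) q)) = true := by decide +kernel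

theorem cj4_12_1 : allR 15836 15835 (fun q => Nat.beq ((fun q => g4 (g12 q)) q) ((fun q => evW FS7 1265 (g4 q)) q)) = true := by decide +kernel

theorem cj4_13_0 : allR 0 31671 (fun q => Nat.beq ((fun q => g4 (g13 q)) q) ((fun q => evW FS7 64 (g4 q)) q)) = true := by decide +kernel

theorem cj4_14_0 : allR 0 31671 (fun q => Nat.beq ((fun q => g4 (g14 q)) q) ((fun q => evW FS7 16 (g4 q)) q)) = true := by decide +kernel

theorem cj4_15_0 : allR 0 15836 (fun q => Nat.beq ((fun q => g4 (g15 q)) q) ((fun q => evW FS7 882 (g4 q)) q)) = true := by decide +kernel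

theorem cj4_15_1 : allR 15836 15835 (fun q => Nat.beq ((fun q => g4 (g15 q)) q) ((fun q => evW FS7 882 (g4 q)) q)) = true := by decide +kernel

theorem cj4_16_0 : allR 0 15836 (fun q => Nat.beq ((fun q => g4 (g16 q)) q) ((fun q => evW FS7 1607 (g4 q)) q)) = true := by decide +kernel

theorem cj4_16_1 : allR 15836 15835 (fun q => Nat.beq ((fun q => g4 (g16 q)) q) ((fun q => evW FS7 1607 (g4 q)) q)) = true := by decide +kernel

theorem cj4_17_0 : allR 0 31671 (fun q => Nat.beq ((fun q => g4 (g17 q)) q) ((fun q => evW FS7 1024 (g4 q)) q)) = true := by decide +kernel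


end Cfsg.Agent.Fi23Syl
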