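import Cfsg.Agent.Lib.Lead.Fi23Syl.FS

/-! # The Sylow 2-subgroups of Fi₂₃: the checks of the relations of the element number 5 (generated) -/

set_option autoImplicit false
set_option maxRecDepth 100000

namespace Cfsg.Agent.Fi23Syl

open Cfsg.Agent.PF Cfsg.Agent.Lib.Helper6 Cfsg.Agent.Lib.Helper6.TC
open Cfsg.Agent.PL (Acts evalF)
open Cfsg.Agent.Fi23Out (P)
open Cfsg.Agent.Lib.Lead.Fi23Syl

theorem pw5_0 : allR 0 15836 (fun q => Nat.beq ((fun q => g5 (g5 q)) q) ((fun q => evW FS6 2478 q) q)) = true := by decide +kernel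

theorem pw5_1 : allR 15836 15835 (fun q => Nat.beq ((fun q => g5 (g5 q)) q) ((fun q => evW FS6 2478 q) q)) = true := by decide +kernel

theorem cj5_6_0 : allR 0 15836 (fun q => Nat.beq ((fun q => g5 (g6 q)) q) ((fun q => evW FS6 3343 (g5 q)) q)) = true := by decide +kernel

theorem cj5_6_1 : allR 15836 15835 (fun q => Nat.beq ((fun q => g5 (g6 q)) q) ((fun q => evW FS6 3343 (g5 q)) q)) = true := by decide +kernel

theorem cj5_7_0 : allR 0 31671 (fun q => Nat.beq ((fun q => g5 (g7 q)) q) ((fun q => evW FS7 1 (g5 q)) q)) = true := by decide +kernel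

theorem cj5_8_0 : allR 0 15836 (fun q => Nat.beq ((fun q => g5 (g8 q)) q) ((fun q => evW FS7 1265 (g5 q)) q)) = true := by decide +kernel

theorem cj5_8_1 : allR 15836 15835 (fun q => Nat.beq ((fun q => g5 (g8 q)) q) ((fun q => evW FS7 1265 (g5 q)) q)) = true := by decide +kernel

theorem cj5_9_0 : allR 0 31671 (fun q => Nat.beq ((fun q => g5 (g9 q)) q) ((fun q => evW FS7 32 (g5 q)) q)) = true := by decide +kernel

theorem cj5_10_0 : allR 0 15836 (fun q => Nat.beq ((fun q => g5 (g10 q)) q) ((fun q => evW FS7 1446 (g5 q)) q)) = true := by decide +kernel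

theorem cj5_10_1 : allR 15836 15835 (fun q => Nat.beq ((fun q => g5 (g10 q)) q) ((fun q => evW FS7 1446 (g5 q)) q)) = true := by decide +kernel

theorem cj5_11_0 : allR 0 31671 (fun q => Nat.beq ((fun q => g5 (g11 q)) q) ((fun q => evW FS7 512 (g5 q)) q)) = true := by decide +kernel

theorem cj5_12_0 : allR 0 31671 (fun q => Nat.beq ((fun q => g5 (g12 q)) q) ((fun q => evW FS7 4 (g5 q)) q)) = true := by decide +kernel

theorem cj5_13_0 : allR 0 31671 (fun q => Nat.beq ((fun q => g5 (g13 q)) q) ((fun q => evW FS7 64 (g5 q)) q)) = true := by decide +kernel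

theorem cj5_14_0 : allR 0 15836 (fun q => Nat.beq ((fun q => g5 (g14 q)) q) ((fun q => evW FS7 1607 (g5 q)) q)) = true := by decide +kernel

theorem cj5_14_1 : allR 15836 15835 (fun q => Nat.beq ((fun q => g5 (g14 q)) q) ((fun q => evW FS7 1607 (g5 q)) q)) = true := by decide +kernel

theorem cj5_15_0 : allR 0 15836 (fun q => Nat.beq ((fun q => g5 (g15 q)) q) ((fun q => evW FS7 1690 (g5 q)) q)) = true := by decide +kernel

theorem cj5_15_1 : allR 15836 15835 (fun q => Nat.beq ((fun q => g5 (g15 q)) q) ((fun q => evW FS7 1690 (g5 q)) q)) = true := by decide +kernel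

theorem cj5_16_0 : allR 0 31671 (fun q => Nat.beq ((fun q => g5 (g16 q)) q) ((fun q => evW FS7 16 (g5 q)) q)) = true := by decide +kernel

theorem cj5_17_0 : allR 0 31671 (fun q => Nat.beq ((fun q => g5 (g17 q)) q) ((fun q => evW FS7 1024 (g5 q)) q)) = true := by decide +kernel


end Cfsg.Agent.Fi23Syl
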