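import Cfsg.Agent.Lib.Lead.Fi23Syl.FS

/-! # The Sylow 2-subgroups of Fi₂₃: the checks of the relations of the element number 6 (generated) -/

set_option autoImplicit false
set_option maxRecDepth 100000

namespace Cfsg.Agent.Fi23Syl

open Cfsg.Agent.PF Cfsg.Agent.Lib.Helper6 Cfsg.Agent.Lib.Helper6.TC
open Cfsg.Agent.PL (Acts evalF)
open Cfsg.Agent.Fi23Out (P)
open Cfsg.Agent.Lib.Lead.Fi23Syl

theorem pw6_0 : allR 0 15836 (fun q => Nat.beq ((fun q => g6 (g6 q)) q) ((fun q => evW FS7 619 q) q)) = true := by decide +kernel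

theorem pw6_1 : allR 15836 15835 (fun q => Nat.beq ((fun q => g6 (g6 q)) q) ((fun q => evW FS7 619 q) q)) = true := by decide +kernel

theorem cj6_7_0 : allR 0 31671 (fun q => Nat.beq ((fun q => g6 (g7 q)) q) ((fun q => evW FS7 1 (g6 q)) q)) = true := by decide +kernel

theorem cj6_8_0 : allR 0 31671 (fun q => Nat.beq ((fun q => g6 (g8 q)) q) ((fun q => evW FS7 256 (g6 q)) q)) = true := by decide +kernel

theorem cj6_9_0 : allR 0 15836 (fun q => Nat.beq ((fun q => g6 (g9 q)) q) ((fun q => evW FS7 882 (g6 q)) q)) = true := by decide +kernel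

theorem cj6_9_1 : allR 15836 15835 (fun q => Nat.beq ((fun q => g6 (g9 q)) q) ((fun q => evW FS7 882 (g6 q)) q)) = true := by decide +kernel

theorem cj6_10_0 : allR 0 31671 (fun q => Nat.beq ((fun q => g6 (g10 q)) q) ((fun q => evW FS7 128 (g6 q)) q)) = true := by decide +kernel

theorem cj6_11_0 : allR 0 15836 (fun q => Nat.beq ((fun q => g6 (g11 q)) q) ((fun q => evW FS7 748 (g6 q)) q)) = true := by decide +kernel

theorem cj6_11_1 : allR 15836 15835 (fun q => Nat.beq ((fun q => g6 (g11 q)) q) ((fun q => evW FS7 748 (g6 q)) q)) = true := by decide +kernel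

theorem cj6_12_0 : allR 0 15836 (fun q => Nat.beq ((fun q => g6 (g12 q)) q) ((fun q => evW FS7 63 (g6 q)) q)) = true := by decide +kernel

theorem cj6_12_1 : allR 15836 15835 (fun q => Nat.beq ((fun q => g6 (g12 q)) q) ((fun q => evW FS7 63 (g6 q)) q)) = true := by decide +kernel

theorem cj6_13_0 : allR 0 31671 (fun q => Nat.beq ((fun q => g6 (g13 q)) q) ((fun q => evW FS7 64 (g6 q)) q)) = true := by decide +kernel

theorem cj6_14_0 : allR 0 31671 (fun q => Nat.beq ((fun q => g6 (g14 q)) q) ((fun q => evW FS7 8 (g6 q)) q)) = true := by decide +kernel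

theorem cj6_15_0 : allR 0 31671 (fun q => Nat.beq ((fun q => g6 (g15 q)) q) ((fun q => evW FS7 2 (g6 q)) q)) = true := by decide +kernel

theorem cj6_16_0 : allR 0 15836 (fun q => Nat.beq ((fun q => g6 (g16 q)) q) ((fun q => evW FS7 917 (g6 q)) q)) = true := by decide +kernel

theorem cj6_16_1 : allR 15836 15835 (fun q => Nat.beq ((fun q => g6 (g16 q)) q) ((fun q => evW FS7 917 (g6 q)) q)) = true := by decide +kernel

theorem cj6_17_0 : allR 0 31671 (fun q => Nat.beq ((fun q => g6 (g17 q)) q) ((fun q => evW FS7 1024 (g6 q)) q)) = true := by decide +kernel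


end Cfsg.Agent.Fi23Syl
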