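import Cfsg.Agent.Lib.Lead.Fi23Syl.FS

/-! # The Sylow 2-subgroups of Fi₂₃: the checks of the relations of the element number 9 (generated) -/

set_option autoImplicit false
set_option maxRecDepth 100000

namespace Cfsg.Agent.Fi23Syl

open Cfsg.Agent.PF Cfsg.Agent.Lib.Helper6 Cfsg.Agent.Lib.Helper6.TC
open Cfsg.Agent.PL (Acts evalF)
open Cfsg.Agent.Fi23Out (P)
open Cfsg.Agent.Lib.Lead.Fi23Syl

theorem cj9_10_0 : allR 0 31671 (fun q => Nat.beq ((fun q => g9 (g10 q)) q) ((fun q => g10 (g9 q)) q)) = true := by decide +kernel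

theorem cj9_11_0 : allR 0 31671 (fun q => Nat.beq ((fun q => g9 (g11 q)) q) ((fun q => g11 (g9 q)) q)) = true := by decide +kernel

theorem cj9_12_0 : allR 0 31671 (fun q => Nat.beq ((fun q => g9 (g12 q)) q) ((fun q => g12 (g9 q)) q)) = true := by decide +kernel

theorem cj9_13_0 : allR 0 31671 (fun q => Nat.beq ((fun q => g9 (g13 q)) q) ((fun q => g13 (g9 q)) q)) = true := by decide +kernel

theorem cj9_14_0 : allR 0 31671 (fun q => Nat.beq ((fun q => g9 (g14 q)) q) ((fun q => g14 (g9 q)) q)) = true := by decide +kernel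

theorem cj9_15_0 : allR 0 31671 (fun q => Nat.beq ((fun q => g9 (g15 q)) q) ((fun q => g15 (g9 q)) q)) = true := by decide +kernel

theorem cj9_16_0 : allR 0 31671 (fun q => Nat.beq ((fun q => g9 (g16 q)) q) ((fun q => g16 (g9 q)) q)) = true := by decide +kernel

theorem cj9_17_0 : allR 0 31671 (fun q => Nat.beq ((fun q => g9 (g17 q)) q) ((fun q => g17 (g9 q)) q)) = true := by decide +kernel


end Cfsg.Agent.Fi23Syl
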