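import Cfsg.Agent.Lib.Lead.Fi23Syl.C0
import Cfsg.Agent.Lib.Lead.Fi23Out.T9
import Cfsg.Agent.Lib.Lead.Fi23Out.T11
import Cfsg.Agent.Lib.Lead.Fi23Out.T12
import Cfsg.Agent.Lib.Lead.Fi23Out.T13
import Cfsg.Agent.Lib.Lead.Fi23Out.T14
import Cfsg.Agent.Lib.Lead.Fi23Out.T16
import Cfsg.Agent.Lib.Lead.Fi23Out.T17
import Cfsg.Agent.Lib.Lead.Fi23Out.T18
import Cfsg.Agent.Lib.Lead.Fi23Out.T19
import Cfsg.Agent.Lib.Lead.Fi23Out.T20
import Cfsg.Agent.Lib.Lead.Fi23Out.T21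
import Cfsg.Agent.Lib.Lead.Fi23Out.T22
import Cfsg.Agent.Lib.Lead.Fi23Out.T23
import Cfsg.Agent.Lib.Lead.Fi23Out.T24

/-! # The Sylow 2-subgroups of Fi₂₃: the element number 0 (generated) -/

set_option autoImplicit false
set_option maxRecDepth 100000

namespace Cfsg.Agent.Fi23Syl

open Cfsg.Agent.PF Cfsg.Agent.Lib.Helper6 Cfsg.Agent.Lib.Helper6.TC
open Cfsg.Agent.PL (Acts evalF)
open Cfsg.Agent.Fi23Out (P)
open Cfsg.Agent.Lib.Lead.Fi23Syl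

/-- the table agrees with the word -/
theorem eqU0 : ∀ q < 31671, g0 q = wordR WU0 q :=
  eq_of_chunks (f := g0) (g := wordR WU0) [(0, 10557), (10557, 10557), (21114, 10557)] (by decide) (by
    intro c hc
    simp only [List.mem_cons, List.not_mem_nil, or_false] at hc
    rcases hc with rfl | rfl | rfl
    · exact eqU0_0
    · exact eqU0_1
    · exact eqU0_2
  )

theorem repU0 : Rep P g0 :=
  (rep_wordR (l := WU0) (Reps.cons Cfsg.Agent.Fi23Out.rep23 (Reps.cons Cfsg.Agent.Fi23Out.rep23 (Reps.cons Cfsg.Agent.Fi23Out.rep24 (Reps.cons Cfsg.Agent.Fi23Out.rep24 (Reps.cons Cfsg.Agent.Fi23Out.rep18 (Reps.cons Cfsg.Agent.Fi23Out.rep19 (Reps.cons Cfsg.Agent.Fi23Out.rep19 (Reps.cons Cfsg.Agent.Fi23Out.rep21 (Reps.cons Cfsg.Agent.Fi23Out.rep24 (Reps.cons Cfsg.Agent.Fi23Out.rep20 (Reps.cons Cfsg.Agent.Fi23Out.rep17 (Reps.cons Cfsg.Agent.Fi23Out.rep19 (Reps.cons Cfsg.Agent.Fi23Out.rep14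 (Reps.cons Cfsg.Agent.Fi23Out.rep16 (Reps.cons Cfsg.Agent.Fi23Out.rep13 (Reps.cons Cfsg.Agent.Fi23Out.rep16 (Reps.cons Cfsg.Agent.Fi23Out.rep16 (Reps.cons Cfsg.Agent.Fi23Out.rep22 (Reps.cons Cfsg.Agent.Fi23Out.rep12 (Reps.cons Cfsg.Agent.Fi23Out.rep9 (Reps.cons Cfsg.Agent.Fi23Out.rep11 (Reps.cons Cfsg.Agent.Fi23Out.rep16 (Reps.cons Cfsg.Agent.Fi23Out.rep22 (Reps.nil P))))))))))))))))))))))))).congr eqU0

/-- the element number 0 -/
noncomputable def x0 : Equiv.Perm (Fin 31671) := Classical.choose repU0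

theorem hx0 : x0 ∈ P := (Classical.choose_spec repU0).1

theorem ax0 : Acts x0 g0 := (Classical.choose_spec repU0).2

/-- the element number 0, in the group -/
noncomputable def y0 : ↥P := ⟨x0, hx0⟩

end Cfsg.Agent.Fi23Syl
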