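import Cfsg.Agent.Lib.Lead.Fi23Syl.C12
import Cfsg.Agent.Lib.Lead.Fi23Out.T0
import Cfsg.Agent.Lib.Lead.Fi23Out.T5
import Cfsg.Agent.Lib.Lead.Fi23Out.T11
import Cfsg.Agent.Lib.Lead.Fi23Out.T12
import Cfsg.Agent.Lib.Lead.Fi23Out.T13
import Cfsg.Agent.Lib.Lead.Fi23Out.T14
import Cfsg.Agent.Lib.Lead.Fi23Out.T19
import Cfsg.Agent.Lib.Lead.Fi23Out.T20
import Cfsg.Agent.Lib.Lead.Fi23Out.T22
import Cfsg.Agent.Lib.Lead.Fi23Out.T24

/-! # The Sylow 2-subgroups of Fi₂₃: the element number 12 (generated) -/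

set_option autoImplicit false
set_option maxRecDepth 100000

namespace Cfsg.Agent.Fi23Syl

open Cfsg.Agent.PF Cfsg.Agent.Lib.Helper6 Cfsg.Agent.Lib.Helper6.TC
open Cfsg.Agent.PL (Acts evalF)
open Cfsg.Agent.Fi23Out (P)
open Cfsg.Agent.Lib.Lead.Fi23Syl

/-- the table agrees with the word -/
theorem eqU12 : ∀ q < 31671, g12 q = wordR WU12 q :=
  eq_of_chunks (f := g12) (g := wordR WU12) [(0, 10557), (10557, 10557), (21114, 10557)] (by decide) (by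
    intro c hc
    simp only [List.mem_cons, List.not_mem_nil, or_false] at hc
    rcases hc with rfl | rfl | rfl
    · exact eqU12_0
    · exact eqU12_1
    · exact eqU12_2
  )

theorem repU12 : Rep P g12 :=
  (rep_wordR (l := WU12) (Reps.cons Cfsg.Agent.Fi23Out.rep22 (Reps.cons Cfsg.Agent.Fi23Out.rep24 (Reps.cons Cfsg.Agent.Fi23Out.rep19 (Reps.cons Cfsg.Agent.Fi23Out.rep22 (Reps.cons Cfsg.Agent.Fi23Out.rep20 (Reps.cons Cfsg.Agent.Fi23Out.rep14 (Reps.cons Cfsg.Agent.Fi23Out.rep19 (Reps.cons Cfsg.Agent.Fi23Out.rep14 (Reps.cons Cfsg.Agent.Fi23Out.rep19 (Reps.cons Cfsg.Agent.Fi23Out.rep19 (Reps.cons Cfsg.Agent.Fi23Out.rep24 (Reps.cons Cfsg.Agent.Fi23Out.rep11 (Reps.cons Cfsg.Agent.Fi23Out.rep13 (Reps.cons Cfsg.Agent.Fi23Out.rep12 (Reps.cons Cfsg.Agent.Fi23Out.rep11 (Reps.cons Cfsg.Agent.Fi23Out.rep14 (Reps.cons Cfsg.Agent.Fi23Out.rep0 (Reps.cons Cfsg.Agent.Fi23Out.rep5 (Reps.cons Cfsg.Agent.Fi23Out.rep13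 (Reps.cons Cfsg.Agent.Fi23Out.rep5 (Reps.nil P)))))))))))))))))))))).congr eqU12

/-- the element number 12 -/
noncomputable def x12 : Equiv.Perm (Fin 31671) := Classical.choose repU12

theorem hx12 : x12 ∈ P := (Classical.choose_spec repU12).1

theorem ax12 : Acts x12 g12 := (Classical.choose_spec repU12).2

/-- the element number 12, in the group -/
noncomputable def y12 : ↥P := ⟨x12, hx12⟩

end Cfsg.Agent.Fi23Syl
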